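import Cfsg.Agent.Lib.M75.EDefs
import Cfsg.Agent.Lib.QF.Classify

/-!
A product of two Eichler transformations of order three with a singular fixed vector.
-/

set_option autoImplicit false
set_option linter.unusedSectionVars false
set_option linter.unusedVariables false

namespace H16M

open Cfsg Subgroup H71KM H23M
open scoped commutatorElement

universe u

variable {G : Type u} [Group G] [Finite G] {Q : Subgroup G} {z : G}

open QuadraticMap Module

namespace EQ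

variable {V : Type*} [AddCommGroup V] [Module (ZMod 2) V] {q : QuadraticForm (ZMod 2) V}

theorem self (x : V) : polar q x x = 0 := by
  rw [polar_self, two_nsmul]
  generalize q x = t
  revert t
  decide

theorem abs {p e f a : V} (qa : q a = 1) (ef : polar q e f = 1) (ea : polar q e a = 0)
    (fa : polar q f a = 0) (ep : polar q e p = 0) (fp : polar q f p = 0) (ap : polar q a p = 0)
    (r r' : Module.End (ZMod 2) V)
    (hr : ∀ x, r x = x + polar q e x • a + (polar q a x + q a * polar q e x) • e)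
    (hr' : ∀ x, r' x = x + polar q f x • a + (polar q a x + q a * polar q f x) • f) :
    (r * r') ^ 3 = 1 ∧ r * r' ≠ 1 ∧ (r * r') p = p := by
  have fe : polar q f e = 1 := by rw [polar_comm, ef]
  have ae : polar q a e = 0 := by rw [polar_comm, ea]
  have af : polar q a f = 0 := by rw [polar_comm, fa]
  have hs : ∀ x, (r * r') x = x + (polar q e x + polar q a x) • a + (polar q e x + polar q f x) • e +
      (polar q f x + polar q a x) • f := by
    intro x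
    rw [Module.End.mul_apply, hr, hr']
    simp only [polar_add_right, polar_smul_right, ef, ea, af, self, qa, smul_eq_mul]
    generalize polar q e x = α
    generalize polar q f x = β
    generalize polar q a x = γ
    match_scalars <;> first | rfl | (revert α β γ; decide)
  refine ⟨?_, fun h => ?_, ?_⟩
  · ext x
    rw [pow_succ', pow_two, Module.End.mul_apply, Module.End.mul_apply (r * r'), hs, hs, hs x]
    simp only [polar_add_right, polar_smul_right, ef, ea, af, fe, ae, fa, self, smul_eq_mul,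
      Module.End.one_apply]
    generalize polar q e x = α
    generalize polar q f x = β
    generalize polar q a x = γ
    match_scalars <;> first | rfl | (revert α β γ; decide)
  · have := congrArg (polar q e) (hs e)
    rw [h] at this
    simp only [polar_add_right, polar_smul_right, ef, ea, fe, ae, self, smul_eq_mul,
      Module.End.one_apply] at this
    revert this
    decide
  · rw [hs, ep, fp, ap]
    simp

theorem model {ι : Type*} (Φ : (ι → ZMod 2) ≃ₗ[ZMod 2] V) (Q₀ : (ι → ZMod 2) → ZMod 2)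
    (hΦ : ∀ x, q (Φ x) = Q₀ x) (p e f a : ι → ZMod 2)
    (h : p ≠ 0 ∧ Q₀ p = 0 ∧ e ≠ 0 ∧ Q₀ e = 0 ∧ f ≠ 0 ∧ Q₀ f = 0 ∧ Q₀ a = 1 ∧ Q₀ (e + f) = 1 ∧
      Q₀ (e + a) = 1 ∧ Q₀ (f + a) = 1 ∧ Q₀ (e + p) = 0 ∧ Q₀ (f + p) = 0 ∧ Q₀ (a + p) = 1) :
    ∃ p e f a : V, p ≠ 0 ∧ q p = 0 ∧ e ≠ 0 ∧ q e = 0 ∧ f ≠ 0 ∧ q f = 0 ∧
      polar q e a = 0 ∧ polar q f a = 0 ∧ ∀ r r' : Module.End (ZMod 2) V,
        (∀ x, r x = x + polar q e x • a + (polar q a x + q a * polar q e x) • e) →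
        (∀ x, r' x = x + polar q f x • a + (polar q a x + q a * polar q f x) • f) →
        (r * r') ^ 3 = 1 ∧ r * r' ≠ 1 ∧ (r * r') p = p := by
  obtain ⟨h1, h2, h3, h4, h5, h6, h7, h8, h9, h10, h11, h12, h13⟩ := h
  have hp : ∀ x y, polar q (Φ x) (Φ y) = Q₀ (x + y) - Q₀ x - Q₀ y := fun x y => by
    rw [polar, ← map_add, hΦ, hΦ, hΦ]
  have ea : polar q (Φ e) (Φ a) = 0 := by rw [hp, h9, h4, h7]; rfl
  have fa : polar q (Φ f) (Φ a) = 0 := by rw [hp, h10, h6, h7]; rfl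
  refine ⟨Φ p, Φ e, Φ f, Φ a, Φ.map_ne_zero_iff.2 h1, by rw [hΦ, h2], Φ.map_ne_zero_iff.2 h3,
    by rw [hΦ, h4], Φ.map_ne_zero_iff.2 h5, by rw [hΦ, h6], ea, fa, abs (by rw [hΦ, h7]) ?_ ea fa ?_ ?_ ?_⟩
  · rw [hp, h8, h4, h6]; rfl
  · rw [hp, h11, h4, h2]; rfl
  · rw [hp, h12, h6, h2]; rfl
  · rw [hp, h13, h7, h2]; rfl

end EQ

theorem exists_o3 {V : Type*} [AddCommGroup V] [Module (ZMod 2) V] [Module.Finite (ZMod 2) V]
    {q : QuadraticForm (ZMod 2) V} (nd : (polarBilin q).Nondegenerate) {n : ℕ} (hn : n = 3 ∨ n = 4)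
    (hV : finrank (ZMod 2) V = 2 * n) : ∃ p e f a : V, p ≠ 0 ∧ q p = 0 ∧ e ≠ 0 ∧ q e = 0 ∧ f ≠ 0 ∧ q f = 0 ∧
      polar q e a = 0 ∧ polar q f a = 0 ∧ ∀ r r' : Module.End (ZMod 2) V,
        (∀ x, r x = x + polar q e x • a + (polar q a x + q a * polar q e x) • e) →
        (∀ x, r' x = x + polar q f x • a + (polar q a x + q a * polar q f x) • f) →
        (r * r') ^ 3 = 1 ∧ r * r' ≠ 1 ∧ (r * r') p = p := by
  have an : H66.Aniso (1 : ZMod 2) 1 := H66.aniso_one_iff.2 (by decide)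
  rcases hn with rfl | rfl <;>
    rcases H66.exists_equiv_plus_or_minus nd hV an with ⟨Φ, hΦ⟩ | ⟨-, Φ, hΦ⟩
  · exact EQ.model Φ _ hΦ (Sum.elim ![1, 0, 0] ![0, 0, 0]) (Sum.elim ![0, 1, 0] ![0, 0, 0])
      (Sum.elim ![0, 0, 0] ![0, 1, 0]) (Sum.elim ![0, 0, 1] ![0, 0, 1]) (by decide +kernel)
  · exact EQ.model (ι := (Fin 2 ⊕ Fin 2) ⊕ Fin 2) Φ _ hΦ
      (Sum.elim (Sum.elim ![1, 0] ![0, 0]) ![0, 0]) (Sum.elim (Sum.elim ![0, 1] ![0, 0]) ![0, 0])
      (Sum.elim (Sum.elim ![0, 0] ![0, 1]) ![0, 0]) (Sum.elim (Sum.elim ![0, 0] ![0, 0]) ![1, 0])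
      (by decide +kernel)
  · exact EQ.model Φ _ hΦ (Sum.elim ![1, 0, 0, 0] ![0, 0, 0, 0]) (Sum.elim ![0, 1, 0, 0] ![0, 0, 0, 0])
      (Sum.elim ![0, 0, 0, 0] ![0, 1, 0, 0]) (Sum.elim ![0, 0, 1, 0] ![0, 0, 1, 0])
      (by decide +kernel)
  · exact EQ.model (ι := (Fin 3 ⊕ Fin 3) ⊕ Fin 2) Φ _ hΦ
      (Sum.elim (Sum.elim ![1, 0, 0] ![0, 0, 0]) ![0, 0])
      (Sum.elim (Sum.elim ![0, 1, 0] ![0, 0, 0]) ![0, 0])
      (Sum.elim (Sum.elim ![0, 0, 0] ![0, 1, 0]) ![0, 0])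
      (Sum.elim (Sum.elim ![0, 0, 0] ![0, 0, 0]) ![1, 0]) (by decide +kernel)

end H16M
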