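import Cfsg.Agent.Lib.M75.EA
import Cfsg.Agent.Lib.M75.EQ
import Cfsg.Agent.Lib.W3.Glob

/-!
Width three, not weakly closed.
-/

set_option autoImplicit false
set_option linter.unusedSectionVars false
set_option linter.unusedVariables false

namespace H16M

open Cfsg Subgroup H71KM H23M
open scoped commutatorElement

universe u

variable {G : Type u} [Group G] [Finite G] {Q : Subgroup G} {z : G}

theorem EH.nwc7 (E : EH Q z) (hc : Nat.card Q = 2 ^ 7) {g : G} (g1 : g * z * g⁻¹ ∈ Q) (g2 : g * z * g⁻¹ ≠ z) :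
    False := by
  obtain ⟨V, _, _, _, ⟨C⟩⟩ := H75.W3.exists_cx E.h hc
  have T : H75.W3.Hy Q z := ⟨E.h, hc, E.res, E.o2⟩
  rcases C.dich T ⟨E.h, hc, isConj_iff.2 ⟨g, rfl⟩, g1, g2⟩ with k | ⟨W, w3, wq, wi, -⟩
  · obtain ⟨p, e, f, a, p0, pq, -, eq, -, fq, ea, fa, H⟩ :=
      exists_o3 (H12.nondeg_iff.1 C.nd) (n := 3) (.inl rfl) C.h6
    have gd := H12.good_of_finrank_ne C.nd (by rw [C.h6]; decide)
    obtain ⟨c, cz, hc1⟩ := k.ge (H12.eich_mem_Om C.nd gd e a)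
    obtain ⟨d, dz, hd1⟩ := k.ge (H12.eich_mem_Om C.nd gd f a)
    let σ : H12.O C.q →* Module.End (ZMod 2) V :=
      LinearEquiv.automorphismGroup.toLinearMapMonoidHom.comp (H12.O C.q).subtype
    have hσ : ∀ x v, σ x v = x.1 v := fun _ _ => rfl
    have ev : ∀ u, C.q u = 0 → QuadraticMap.polar C.q u a = 0 → ∀ x, σ (H12.eich C.q u a) x =
        x + QuadraticMap.polar C.q u x • a +
          (QuadraticMap.polar C.q a x + C.q a * QuadraticMap.polar C.q u x) • u := fun u h1 h2 x => by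
      rw [hσ, H12.eich_apply h1 h2, QuadraticMap.polar_comm _ x a, QuadraticMap.polar_comm _ x u]
      match_scalars <;> grind
    obtain ⟨h3, h1, hp⟩ := H _ _ (ev e eq ea) (ev f fq fa)
    rw [← hc1, ← hd1, ← map_mul, ← C.ρ_mul c d cz dz] at h3 h1 hp
    have gz := H4.LX.comm_mul cz dz
    obtain ⟨s, sQ, rfl⟩ := C.π_surj p
    refine p0 ((C.π_eq_zero sQ).2 (E.lift gz ?_ (fun m => h1 ?_) sQ ((C.q_π s sQ).1 pq) ?_))
    · refine (C.ρ_one _ (Commute.pow_left gz 3).eq).1 (H12.O.ext fun v => ?_)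
      rw [C.ρ_pow gz, ← hσ, map_pow, h3]
      rfl
    · rw [(C.ρ_one _ gz).2 m, map_one]
    · rw [hσ, C.act _ gz s sQ] at hp
      exact (C.π_eq s sQ _ (H95.conj_mem_of_normalizer (E.h.norm _ gz) sQ)).1 hp.symm
  · obtain ⟨v, hv, v0⟩ := W.exists_mem_ne_zero_of_ne_bot (by rintro rfl; simp at w3)
    obtain ⟨s, sQ, rfl⟩ := C.π_surj v
    refine v0 ((C.π_eq_zero sQ).2 (E.noA (A := C.pre W) (fun _ hx => hx.1)
      (fun a ha => (C.q_π a ha.1).1 (wq _ ha.2)) (fun c cz a ha => ?_) s ⟨sQ, hv⟩))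
    exact ⟨H95.conj_mem_of_normalizer (E.h.norm _ cz) ha.1, C.act c cz a ha.1 ▸ wi _ ⟨c, cz, rfl⟩ _ ha.2⟩

end H16M
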