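import Cfsg.Agent.Lib.M75.ES
import Cfsg.Agent.Lib.M75.EQ
import Cfsg.Agent.Lib.X9.Two
import Cfsg.Agent.Lib.DW.Out

/-!
Width four, not weakly closed.
-/

set_option autoImplicit false
set_option linter.unusedSectionVars false
set_option linter.unusedVariables false

namespace H16M

open Cfsg Subgroup H71KM H23M
open scoped commutatorElement

universe u

variable {G : Type u} [Group G] [Finite G] {Q : Subgroup G} {z : G}

namespace E9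

open H95 H4.LX H9.WC H75.DW H9.WN H9.X9 QuadraticMap

variable {V : Type u} [AddCommGroup V] [Module (ZMod 2) V] {K : Type*} [Group K] {n : ℕ} {s : G}

theorem irr (E : EH Q z) (T : Hy Q z 4) (C : H9.WN.Cx Q z 4 V K) (N : Nr Q z s) (W : Submodule (ZMod 2) V)
    (hW : Iv C.σ W) : W = ⊥ ∨ W = ⊤ := by
  by_contra k
  obtain ⟨h0, h1⟩ := not_or.1 k
  have S := T.sy C
  obtain ⟨W, vW, P⟩ := S.ex_pu ⟨s, N, rfl⟩ (S.perp_orb hW le_rfl h0 h1 ⟨s, N, rfl⟩)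
  let A : Subgroup G :=
    { carrier := {x | x ∈ Q ∧ C.π x ∈ W}
      mul_mem' := fun {a b} ha hb => ⟨mul_mem ha.1 hb.1, C.π_mul a ha.1 b hb.1 ▸ W.add_mem ha.2 hb.2⟩
      one_mem' := ⟨one_mem _, C.π1 ▸ W.zero_mem⟩
      inv_mem' := fun {a} ha => ⟨inv_mem ha.1, (C.π_inv ha.1).symm ▸ ha.2⟩ }
  exact N.v0 C ((C.π_eq_zero N.sQ).2 (E.noA (A := A) (fun _ hx => hx.1)
    (fun a ha => (C.q_π a ha.1).1 (P.ts _ ha.2))
    (fun g hg x hx => ⟨N.nrm hg hx.1, C.act g hg x hx.1 ▸ P.iv _ _ hx.2⟩) s ⟨N.sQ, vW⟩))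

theorem irr_cx (C : H9.WN.Cx Q z n V K) (h : L3 Q z) (k : ∀ W, Iv C.σ W → W = ⊥ ∨ W = ⊤) :
    H9.X9.Irr Q z := fun A hz hA hn => by
  refine (k (C.img A) ?_).imp (fun e x hx => (C.π_eq_zero (hA hx)).1 (e.le ⟨x, hx, hA hx, rfl⟩))
    fun e x hx => (C.π_mem_img hx h.sq (e.ge trivial)).elim id (mul_mem_cancel_right hz).1
  rintro k _ ⟨x, hx, hx', rfl⟩
  obtain ⟨c, hc, rfl⟩ := C.μ_surj k
  exact ⟨_, hn c hc x hx, hA (hn c hc x hx), (C.act c hc x hx').symm⟩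

theorem ei (C : H9.WN.Cx Q z n V K) (T : Hy Q z n) (h : ∀ s, Nr Q z s → ¬T1 z Q s) (v : V) (hv : v ∈ cX C)
    (r : K) (hr : r ∈ cR C v) : ∃ u, Ei C.σ C.q v u r := by
  obtain ⟨y, hy⟩ := (T.sy C).ex1 hv
  refine ⟨_, (T.sy C).ei_of hv hr hy fun x hx => ?_⟩
  obtain ⟨s, N, rfl⟩ := hv
  obtain ⟨b, hb, bz, rfl⟩ := C.mem_imK.1 (N.cR C ▸ hr)
  obtain ⟨x, xQ, rfl⟩ := C.π_surj x
  have := not_not.1 fun k => h s N ⟨b, hb, bz, x, xQ, ((C.b_π s N.sQ x xQ).1 hx).symm, k⟩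
  rw [← C.π_comm T.h bz xQ]
  rcases N.p.mem_V.1 this with e | e | e | e <;> rw [e]
  · exact .inl C.π1
  · exact .inl (C.π_z T.h)
  · exact .inr rfl
  · exact .inr (by rw [C.π_mul z T.h.mem s N.sQ, C.π_z T.h, zero_add])

theorem tr (C : H9.WN.Cx Q z n V K) (T : Hy Q z n) (l : K →* ℤˣ) (h : ∀ v ∈ cX C, ∀ r ∈ cR C v, l r = 1)
    (k : K) : l k = 1 := by
  obtain ⟨g, hg, rfl⟩ := C.μ_surj k
  exact triv T (l := fun g => l (C.μ g)) (fun a ha b hb => by rw [C.μ_mul a b ha hb, map_mul])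
    (fun s N r hr rz => h _ ⟨s, N, rfl⟩ _ ((N.cR C).ge (C.mem_imK.2 ⟨r, hr, rz, rfl⟩))) g hg

theorem main [Finite K] (E : EH Q z) (T : Hy Q z 4) (C : H9.WN.Cx Q z 4 V K) (N : Nr Q z s) : False := by
  by_cases h : ∃ s, Nr Q z s ∧ T1 z Q s
  · obtain ⟨s', N', h⟩ := h
    obtain ⟨c, i, hi, S⟩ := exists_std T (irr_cx C T.h (irr E T C N)) N' h
    exact E.std hi S
  obtain ⟨-, hE⟩ := H9.X9.two (T.sy C) (irr E T C N) ⟨_, s, N, rfl⟩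
    (ei C T fun s N k => h ⟨s, N, k⟩) (tr C T)
  have := C.form.fin
  obtain ⟨p, e, f, a, p0, qp, e0, qe, f0, qf, ea, fa, k⟩ := exists_o3 C.form.nd (.inr rfl) C.form.dim
  obtain ⟨r, hr⟩ := hE e a qe e0 ea
  obtain ⟨r', hr'⟩ := hE f a qf f0 fa
  obtain ⟨k1, k2, k3⟩ := k _ _ hr.2 hr'.2
  rw [← map_mul] at k1 k2 k3
  obtain ⟨g, gz, hg⟩ := C.μ_surj (r * r')
  obtain ⟨t, tQ, rfl⟩ := C.π_surj p
  have g2 : g * g * z = z * (g * g) := by rw [mul_assoc, gz, ← mul_assoc, gz, mul_assoc]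
  have g3 : g * g * g * z = z * (g * g * g) := by rw [mul_assoc, gz, ← mul_assoc, g2, mul_assoc]
  refine p0 ((C.π_eq_zero tQ).2 (E.lift gz ?_ (fun gQ => k2 ?_) tQ ((C.q_π t tQ).1 qp) ?_))
  · rw [pow_three', ← C.μ_one _ g3, C.μ_mul _ _ g2 gz, C.μ_mul _ _ gz gz, hg, ← pow_three']
    exact C.form.faith _ fun x => by rw [map_pow, k1]; rfl
  · rw [← hg, (C.μ_one g gz).2 gQ, map_one]
  · exact (C.π_eq t tQ _ (N.nrm gz tQ)).1 (by rw [← C.act g gz t tQ, hg, k3])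

end E9

theorem EH.nwc9 (E : EH Q z) (hc : Nat.card Q = 2 ^ 9) {g : G} (g1 : g * z * g⁻¹ ∈ Q) (g2 : g * z * g⁻¹ ≠ z) :
    False := by
  have T : H75.DW.Hy Q z 4 := ⟨E.h, hc, by norm_num, E.res, E.o2⟩
  have := H9.X9.hy_normal T
  obtain ⟨V, _, _, ⟨C⟩⟩ := H9.WN.exists_cx T.h T.hc
    (QuotientGroup.mk' (Q.subgroupOf (centralizer ({z} : Set G)))) (QuotientGroup.mk'_surjective _)
    fun x => QuotientGroup.eq_one_iff x
  exact E9.main E T C ⟨E.h, T.h8, isConj_iff.2 ⟨g, rfl⟩, g1, g2⟩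

end H16M
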