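import Cfsg.Agent.Lib.M75.IDefs

/-!
Basic facts on frames.
-/

set_option autoImplicit false
set_option linter.unusedSectionVars false
set_option linter.unusedVariables false

namespace H16M

open Cfsg Subgroup H71KM H23M
open scoped commutatorElement

variable {G : Type*} [Group G] [Finite G] {P : Sylow 3 G} {x z u v : G}

namespace IBas

theorem zpow3 {a : G} (ha : a ^ 3 = 1) (k : ℤ) : a ^ (3 * k) = 1 := by
  rw [zpow_mul, show a ^ (3 : ℤ) = 1 from (zpow_natCast a 3).trans ha, one_zpow]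

theorem cases3 {a : G} (ha : a ^ 3 = 1) (k : ℤ) : a ^ k = 1 ∨ a ^ k = a ∨ a ^ k = a⁻¹ := by
  obtain ⟨m, e | e | e⟩ : ∃ m : ℤ, k = 3 * m ∨ k = 3 * m + 1 ∨ k = 3 * m - 1 := by
    refine ⟨(k + 1) / 3, ?_⟩; omega
  · exact .inl (by rw [e, zpow3 ha])
  · exact .inr (.inl (by rw [e, zpow_add_one, zpow3 ha, one_mul]))
  · exact .inr (.inr (by rw [e, zpow_sub_one, zpow3 ha, one_mul]))

theorem cz {a b : G} (h : a * b = b * a) : b ∈ 𝐂(zpowers a) := by
  rw [H70.centralizer_zpowers]; exact mc.2 h.symm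

theorem cj_map (g : G) {E : Subgroup G} (hE : EA 3 E) : EA 3 (E.map (MulAut.conj g).toMonoidHom) := by
  refine ⟨comm_iff.2 ?_, ?_⟩
  · rintro _ ⟨a, ha, rfl⟩ _ ⟨b, hb, rfl⟩
    rw [← map_mul, ← map_mul, hE.le_cent ha b hb]
  · rintro _ ⟨a, ha, rfl⟩
    rw [← map_pow, hE.2 a ha, map_one]

end IBas

open IBas

theorem zp3 {a g : G} (ha : a ^ 3 = 1) : g ∈ zpowers a ↔ g = 1 ∨ g = a ∨ g = a⁻¹ := by
  refine ⟨fun ⟨k, e⟩ => e ▸ cases3 ha k, ?_⟩
  rintro (rfl | rfl | rfl)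
  exacts [one_mem _, mem_zpowers _, inv_mem (mem_zpowers _)]

theorem mem_S2 {a b g : G} (h : a * b = b * a) : g ∈ S2 a b ↔ ∃ i j : ℤ, g = a ^ i * b ^ j := by
  rw [H2.mem_sup_iff_of_le_normalizer (zpowers_le_of_mem (centralizer_le_normalizer _ (cz h)))]
  exact ⟨fun ⟨_, ⟨i, e⟩, _, ⟨j, e'⟩, k⟩ => ⟨i, j, by rw [← k, ← e, ← e']⟩,
    fun ⟨i, j, e⟩ => ⟨_, ⟨i, rfl⟩, _, ⟨j, rfl⟩, e.symm⟩⟩

theorem mem_cent_S2 {a b g : G} : g ∈ 𝐂(S2 a b) ↔ g * a = a * g ∧ g * b = b * g :=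
  ⟨fun h => ⟨(h a (mem_sup_left (mem_zpowers a))).symm, (h b (mem_sup_right (mem_zpowers b))).symm⟩,
    fun h => mem_cent_sup (cz h.1.symm) (mc.2 h.2)⟩

theorem mem_S3 {a b c g : G} (ab : a * b = b * a) (ac : a * c = c * a) (bc : b * c = c * b) :
    g ∈ S3 a b c ↔ ∃ i j k : ℤ, g = a ^ i * b ^ j * c ^ k := by
  rw [H2.mem_sup_iff_of_le_normalizer (zpowers_le_of_mem (centralizer_le_normalizer _
    (mem_cent_S2.2 ⟨ac.symm, bc.symm⟩)))]
  constructor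
  · rintro ⟨w, hw, _, ⟨k, rfl⟩, rfl⟩
    obtain ⟨i, j, rfl⟩ := (mem_S2 ab).1 hw
    exact ⟨i, j, k, rfl⟩
  · rintro ⟨i, j, k, rfl⟩
    exact ⟨_, (mem_S2 ab).2 ⟨i, j, rfl⟩, _, ⟨k, rfl⟩, rfl⟩

theorem ea_zp3 {a : G} (ha : a ^ 3 = 1) : EA 3 (zpowers a) :=
  ⟨inferInstance, fun b hb => by
    rcases (zp3 ha).1 hb with rfl | rfl | rfl
    exacts [one_pow 3, ha, by rw [inv_pow, ha, inv_one]]⟩

theorem ea_S2 {a b : G} (ha : a ^ 3 = 1) (hb : b ^ 3 = 1) (h : a * b = b * a) : EA 3 (S2 a b) :=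
  (ea_zp3 ha).sup (cz h) hb

theorem card_S2 {a b : G} (ha : a ^ 3 = 1) (a1 : a ≠ 1) (hb : b ^ 3 = 1) (h : a * b = b * a)
    (n : b ∉ zpowers a) : Nat.card (S2 a b) = 9 := by
  rw [card_sup (p := 3) (cz h) hb n, Nat.card_zpowers, orderOf_eq_prime ha a1]

theorem ea_S3 {a b c : G} (ha : a ^ 3 = 1) (hb : b ^ 3 = 1) (hc : c ^ 3 = 1) (ab : a * b = b * a)
    (ac : a * c = c * a) (bc : b * c = c * b) : EA 3 (S3 a b c) :=
  (ea_S2 ha hb ab).sup (mem_cent_S2.2 ⟨ac.symm, bc.symm⟩) hc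

theorem card_S3 {a b c : G} (ha : a ^ 3 = 1) (a1 : a ≠ 1) (hb : b ^ 3 = 1) (hc : c ^ 3 = 1) (ab : a * b = b * a)
    (ac : a * c = c * a) (bc : b * c = c * b) (n : b ∉ zpowers a) (n' : c ∉ S2 a b) :
    Nat.card (S3 a b c) = 27 := by
  rw [card_sup (p := 3) (mem_cent_S2.2 ⟨ac.symm, bc.symm⟩) hc n', card_S2 ha a1 hb ab n]

theorem mem_norm_S2 {a b g : G} (ha : g * a * g⁻¹ ∈ S2 a b) (hb : g * b * g⁻¹ ∈ S2 a b) : g ∈ 𝐍(S2 a b) := by
  refine mem_normalizer_fintype fun y hy => ?_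
  have : S2 a b ≤ (S2 a b).comap (MulAut.conj g).toMonoidHom :=
    sup_le (zpowers_le_of_mem ha) (zpowers_le_of_mem hb)
  exact this hy

theorem not_cyclic9 {E : Subgroup G} (hE : EA 3 E) (h : 9 ≤ Nat.card E) : ¬ IsCyclic E := fun hc => by
  have h6 := IsCyclic.exponent_eq_card (α := E)
  have h7 : Monoid.exponent E ∣ 3 := Monoid.exponent_dvd_of_forall_pow_eq_one fun g => Subtype.ext (hE.2 g g.2)
  have := Nat.le_of_dvd (by norm_num) h7
  omega

theorem big_of {W : Subgroup G} {y : G} (hW : EA 3 W) (h : 27 ≤ Nat.card W) (hy : W ≤ centralizer {y}) :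
    Big y := by
  obtain ⟨k, hk⟩ := IsPGroup.iff_card.1 hW.isPGroup
  have : 3 ≤ k := by
    by_contra c
    have := Nat.pow_le_pow_right (n := 3) (by norm_num) (show k ≤ 2 by omega)
    omega
  obtain ⟨K, hK⟩ := Sylow.exists_subgroup_card_pow_prime (G := W) 3 (n := 3) (hk ▸ pow_dvd_pow 3 this)
  exact ⟨K.map W.subtype, hW.mono (map_subtype_le K), by rw [card_subtype, hK]; rfl,
    (map_subtype_le K).trans (by rwa [H70.centralizer_zpowers])⟩

theorem big_conj {y : G} (h : Big y) (g : G) : Big (g * y * g⁻¹) := by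
  obtain ⟨E, h1, h2, h3⟩ := h
  refine big_of (cj_map g h1) (by rw [card_map_of_injective (MulAut.conj g).injective, h2]) ?_
  rintro _ ⟨a, ha, rfl⟩
  have := h3 ha y (mem_zpowers y)
  refine mc.2 ?_
  change g * a * g⁻¹ * _ = _ * (g * a * g⁻¹)
  rw [conj_mul, conj_mul, this]

theorem big_zp {y y' : G} (h : Big y) (hy : y' ∈ zpowers y) : Big y' := by
  obtain ⟨E, h1, h2, h3⟩ := h
  exact ⟨E, h1, h2, h3.trans (centralizer_le (zpowers_le_of_mem hy))⟩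

theorem big_inv {y : G} : Big y⁻¹ ↔ Big y :=
  ⟨fun h => big_zp h (by simp), fun h => big_zp h (by simp)⟩

namespace Fr

variable (F : Fr x z u v)
include F

theorem xz (i : ℤ) : x * z ^ i * x⁻¹ = z ^ i := by
  rw [(show Commute x z from F.zx.symm).zpow_right i |>.eq, mul_inv_cancel_right]

theorem xuj (j : ℤ) : x * u ^ j * x⁻¹ = u ^ j * z ^ j := by
  rw [← conj_zpow, F.xu, (show Commute u z from F.zu.symm).mul_zpow]

theorem xvk (k : ℤ) : x * v ^ k * x⁻¹ = v ^ k * u ^ k := by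
  rw [← conj_zpow, F.xv, (show Commute v u from F.uv.symm).mul_zpow]

theorem xU {w : G} (hw : w ∈ S2 z u) : x * w * x⁻¹ * w⁻¹ ∈ zpowers z := by
  obtain ⟨i, j, rfl⟩ := (mem_S2 F.zu).1 hw
  refine ⟨j, ?_⟩
  have c := (show Commute z u from F.zu).zpow_zpow
  rw [← conj_mul, F.xz, F.xuj, ← (c j j).eq, mul_inv_rev]
  simp only
  group

theorem u_nm : u ∉ zpowers z := fun ⟨i, e⟩ => by
  have := F.xz i
  simp only at e
  rw [e, F.xu] at this
  exact F.z1 (mul_eq_left.1 this)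

theorem v_nm : v ∉ S2 z u := fun h => by
  have := F.xU h
  rw [F.xv, ← F.uv, mul_inv_cancel_right] at this
  exact F.u_nm this

theorem ea_U : EA 3 (S2 z u) := ea_S2 F.z3 F.u3 F.zu

theorem card_U : Nat.card (S2 z u) = 9 := card_S2 F.z3 F.z1 F.u3 F.zu F.u_nm

theorem ea_W : EA 3 (S3 z u v) := ea_S3 F.z3 F.u3 F.v3 F.zu F.zv F.uv

theorem card_W : Nat.card (S3 z u v) = 27 := card_S3 F.z3 F.z1 F.u3 F.v3 F.zu F.zv F.uv F.u_nm F.v_nm

theorem big_W {w : G} (hw : w ∈ S3 z u v) : Big w :=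
  big_of F.ea_W F.card_W.ge fun _ ha => mc_of_mem (F.ea_W.le_cent ha) hw

theorem x_nm : x ∉ zpowers z := fun h => F.nb (F.big_W (mem_sup_left (mem_sup_left h)))

theorem ea_E : EA 3 (S2 z x) := ea_S2 F.z3 F.x3 F.zx

theorem card_E : Nat.card (S2 z x) = 9 := card_S2 F.z3 F.z1 F.x3 F.zx F.x_nm

/-- `⟨z, x⟩` is a maximal elementary abelian subgroup. -/
theorem max {y : G} (y3 : y ^ 3 = 1) (yz : y * z = z * y) (yx : y * x = x * y) : y ∈ S2 z x := by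
  by_contra n
  have e := ea_S3 F.z3 F.x3 y3 F.zx yz.symm yx.symm
  exact F.nb (big_of e (card_S3 F.z3 F.z1 F.x3 y3 F.zx yz.symm yx.symm F.x_nm n).ge fun _ ha =>
    mc_of_mem (e.le_cent ha) (mem_sup_left (mem_sup_right (mem_zpowers x))))

theorem max' {y : G} (y3 : y ^ 3 = 1) (yz : y * z = z * y) (yx : y * x = x * y) (yu : y * u = u * y) :
    y ∈ zpowers z := by
  obtain ⟨i, j, rfl⟩ := (mem_S2 F.zx).1 (F.max y3 yz yx)
  have c : Commute (x ^ j) u := by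
    have := ((show Commute z u from F.zu).zpow_left i).inv_left.mul_left yu
    rwa [inv_mul_cancel_left] at this
  have k : ¬ Commute x u := fun c => F.z1 (by
    have := F.xu
    rw [c.eq, mul_inv_cancel_right] at this
    exact mul_eq_left.1 this.symm)
  rcases cases3 F.x3 j with e | e | e <;> rw [e] at c ⊢
  · exact ⟨i, (mul_one _).symm⟩
  · exact (k c).elim
  · exact (k (Commute.inv_left_iff.1 c)).elim

theorem cjW {w : G} (hw : w ∈ S3 z u v) : w * x * w⁻¹ = w * (x * w⁻¹ * x⁻¹) * x := by group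

theorem onto {w : G} (hw : w ∈ S2 z u) : ∃ g, g * x * g⁻¹ = w * x := by
  obtain ⟨i, j, rfl⟩ := (mem_S2 F.zu).1 hw
  refine ⟨u ^ (-i) * v ^ (-j), ?_⟩
  have c := (show Commute z u from F.zu).zpow_zpow
  have c' := (show Commute u v from F.uv).zpow_zpow
  calc _ = u ^ (-i) * (v ^ (-j) * (x * v ^ j * x⁻¹) * (x * u ^ i * x⁻¹)) * x := by group
    _ = u ^ (-i) * (u ^ j * (u ^ i * z ^ i)) * x := by rw [F.xvk, F.xuj]; group
    _ = u ^ j * z ^ i * x := by group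
    _ = _ := by rw [(c i j).eq]

theorem nb_U {w : G} (hw : w ∈ S2 z u) : ¬ Big (w * x) ∧ ¬ Big (w * x⁻¹) := by
  have k : ∀ w ∈ S2 z u, ¬ Big (w * x) := fun w hw h => by
    obtain ⟨g, e⟩ := F.onto hw
    have := big_conj h g⁻¹
    rw [← e] at this
    exact F.nb (by simpa [mul_assoc] using this)
  refine ⟨k w hw, fun h => k _ (inv_mem hw) ?_⟩
  have := big_conj (big_inv.2 h) w⁻¹
  simpa [mul_assoc] using this

theorem nb_E {e : G} (he : e ∈ S2 z x) (h : Big e) : e ∈ zpowers z := by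
  obtain ⟨i, j, rfl⟩ := (mem_S2 F.zx).1 he
  have m : z ^ i ∈ S2 z u := mem_sup_left ⟨i, rfl⟩
  rcases cases3 F.x3 j with e | e | e <;> rw [e] at h ⊢
  · exact ⟨i, (mul_one _).symm⟩
  · exact ((F.nb_U m).1 h).elim
  · exact ((F.nb_U m).2 h).elim

/-- the normalizer of `⟨z, x⟩` normalizes `⟨z⟩`. -/
theorem nz {g : G} (hg : g ∈ 𝐍(S2 z x)) : g * z * g⁻¹ = z ∨ g * z * g⁻¹ = z⁻¹ :=
  ((zp3 F.z3).1 (F.nb_E (cj_mem hg (mem_sup_left (mem_zpowers z)))
    (big_conj (F.big_W (mem_sup_left (mem_sup_left (mem_zpowers z)))) g))).resolve_left (cj_ne F.z1)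

theorem nx {g : G} (hg : g ∈ 𝐍(S2 z x)) : g * x * g⁻¹ * x⁻¹ ∈ zpowers z ∨ g * x * g⁻¹ * x ∈ zpowers z := by
  obtain ⟨i, j, e⟩ := (mem_S2 F.zx).1 (cj_mem hg (mem_sup_right (mem_zpowers x)))
  rcases cases3 F.x3 j with e' | e' | e' <;> rw [e'] at e
  · refine (F.nb ?_).elim
    have := big_conj (F.big_W (w := z ^ i) (mem_sup_left (mem_sup_left ⟨i, rfl⟩))) g⁻¹
    rw [mul_one] at e
    rw [← e] at this
    simpa [mul_assoc] using this
  · exact .inl ⟨i, by rw [e, mul_inv_cancel_right]⟩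
  · exact .inr ⟨i, by rw [e, inv_mul_cancel_right]⟩

theorem xW : x ∈ 𝐍(S3 z u v) := by
  refine mem_normalizer_fintype fun y hy => ?_
  have mz : z ∈ S3 z u v := mem_sup_left (mem_sup_left (mem_zpowers z))
  have mu : u ∈ S3 z u v := mem_sup_left (mem_sup_right (mem_zpowers u))
  have mv : v ∈ S3 z u v := mem_sup_right (mem_zpowers v)
  have : S3 z u v ≤ (S3 z u v).comap (MulAut.conj x).toMonoidHom := by
    refine sup_le (sup_le (zpowers_le_of_mem ?_) (zpowers_le_of_mem ?_)) (zpowers_le_of_mem ?_) <;>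
      change x * _ * x⁻¹ ∈ S3 z u v
    · rw [← F.zx, mul_inv_cancel_right]; exact mz
    · rw [F.xu]; exact mul_mem mu mz
    · rw [F.xv]; exact mul_mem mv mu
  exact this hy

/-- `x` normalizes `⟨z, u, v⟩`, so they generate a 3-group. -/
theorem p3 : IsPGroup 3 (S3 z u v ⊔ zpowers x : Subgroup G) :=
  F.ea_W.isPGroup.to_sup_of_normal_left' (ea_zp3 F.x3).isPGroup (zpowers_le_of_mem F.xW)

theorem uE : u ∈ 𝐍(S2 z x) := by
  refine mem_norm_S2 ?_ ?_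
  · rw [← F.zu, mul_inv_cancel_right]; exact mem_sup_left (mem_zpowers z)
  · have : u * x * u⁻¹ = z⁻¹ * x := by
      calc _ = u * (x * u * x⁻¹)⁻¹ * x := by group
        _ = _ := by rw [F.xu, ← F.zu]; group
    rw [this]
    exact mul_mem (inv_mem (mem_sup_left (mem_zpowers z))) (mem_sup_right (mem_zpowers x))

end Fr

end H16M
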