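import Cfsg.Agent.Lib.M75.EDefs
import Cfsg.Agent.Lib.M75.IBas
import Cfsg.Agent.Lib.WCn.Big

/-!
An involution of `U_m(2)`, `m ≥ 5`, centralizes an `E₂₇`.
-/

set_option autoImplicit false
set_option linter.unusedSectionVars false
set_option linter.unusedVariables false

namespace H16M

open Cfsg Subgroup H71KM H23M
open scoped commutatorElement

universe u

variable {G : Type u} [Group G] [Finite G] {Q : Subgroup G} {z : G}

namespace EU

open Matrix H11.U
open H30 (F4)

theorem ex_w : ∃ w : ZMod 3 → F4, (∀ a b, w (a + b) = w a * w b) ∧ (∀ a, w a * w a ^ 2 = 1) ∧ w 0 = 1 ∧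
    ∀ a b, w a = w b → a = b :=
  ⟨fun a => H30.F4.w ^ a.val, by decide, by decide, by decide, by decide⟩

theorem ex_f (k : ℕ) : ∃ f : ZMod 3 × ZMod 3 × ZMod 3 → Fin (k + 5) → ZMod 3,
    (∀ x y i, f (x + y) i = f x i + f y i) ∧ (∀ x, ∑ i, f x i = 0) ∧ (∀ x, f x 0 = f x 1) ∧
      ∀ x, (∀ i j, f x i = f x j) → x = 0 := by
  refine ⟨fun x => vecCons x.1 (vecCons x.1 (vecCons x.2.1 (vecCons x.2.2 (vecCons (x.1 - x.2.1 - x.2.2) 0)))),
    fun x y i => ?_, fun x => ?_, fun x => rfl, fun x h => ?_⟩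
  · rw [← Pi.add_apply (vecCons _ _)]
    simp only [cons_add_cons, add_zero, Prod.fst_add, Prod.snd_add]
    congr 6
    ring
  · simp only [Fin.sum_univ_succ, cons_val_zero, cons_val_succ, Pi.zero_apply, Finset.sum_const_zero]
    revert x
    decide
  · have h2 : x.1 = x.2.1 := h 0 (Fin.succ (Fin.succ 0))
    have h3 : x.1 = x.2.2 := h 0 (Fin.succ (Fin.succ (Fin.succ 0)))
    have h4 : x.1 = x.1 - x.2.1 - x.2.2 := h 0 (Fin.succ (Fin.succ (Fin.succ (Fin.succ 0))))
    clear h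
    revert x
    decide

end EU

open Matrix H11.U H30 in
theorem psu_k27 {m : ℕ} (hm : 5 ≤ m) : K27 (PSU m H30.F4 2) := by
  have : IsSq F4 2 := ⟨rfl⟩
  obtain ⟨k, rfl⟩ : ∃ k, m = k + 5 := ⟨m - 5, by omega⟩
  obtain ⟨w, wa, w3, w0, wi⟩ := EU.ex_w
  obtain ⟨f, fa, fs, f01, fi⟩ := EU.ex_f k
  have ws : ∀ (s : Finset (Fin (k + 5))) (g : Fin (k + 5) → ZMod 3), ∏ i ∈ s, w (g i) = w (∑ i ∈ s, g i) :=
    fun s g => by
      induction s using Finset.induction_on with
      | empty => simp [w0]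
      | insert a s ha ih => rw [Finset.prod_insert ha, Finset.sum_insert ha, wa, ih]
  obtain ⟨φ, hφ⟩ : ∃ φ : Multiplicative (ZMod 3 × ZMod 3 × ZMod 3) →* SU (k + 5) F4 2,
      ∀ x, (φ x).1.1 = diagonal fun i => w (f x.toAdd i) := by
    refine ⟨MonoidHom.mk' (fun x => toSU (diagonal fun i => w (f x.toAdd i)) ?_ ?_) fun x y => ?_, fun _ => rfl⟩
    · rw [isIso_iff, diagonal_transpose, diagonal_map (map_zero _), diagonal_mul_diagonal, ← diagonal_one]
      congr 1
      funext i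
      exact w3 _
    · rw [det_diagonal, ws, fs, w0]
    · refine Subtype.ext (Subtype.ext ?_)
      change diagonal _ = diagonal _ * diagonal _
      rw [diagonal_mul_diagonal]
      congr 1
      funext i
      rw [toAdd_mul, fa, wa]
  have h01 : (0 : Fin (k + 5)) ≠ 1 := by simp
  obtain ⟨v, hv⟩ : ∃ v : Fin (k + 5) → F4, v = Pi.single 0 1 + Pi.single 1 1 := ⟨_, rfl⟩
  have vv : hermForm (k + 5) F4 2 v v = 0 := by
    simp only [hv, form_add_left, form_add_right, form_single_single, if_true, if_neg h01, if_neg h01.symm]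
    decide
  have c1 : cj 2 (1 : F4) = -1 := by rw [map_one]; decide
  have inj : Function.Injective ((QuotientGroup.mk' (center (SU (k + 5) F4 2))).comp φ) := by
    refine (injective_iff_map_eq_one _).2 fun x hx => ?_
    obtain ⟨a, ha⟩ := (mem_center_SU_iff (by omega)).1 ((QuotientGroup.eq_one_iff _).1 hx)
    rw [hφ] at ha
    have e : ∀ i, w (f x.toAdd i) = a := fun i => by simpa using congrFun (congrFun ha i) i
    exact fi x.toAdd fun i j => wi _ _ (by rw [e, e])
  refine ⟨((QuotientGroup.mk' (center (SU (k + 5) F4 2))).comp φ).range, QuotientGroup.mk (tv 2 v 1),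
    ⟨inferInstance, ?_⟩, ?_, fun e => ?_, ?_, ?_⟩
  · rintro _ ⟨x, rfl⟩
    rw [← map_pow, show x ^ 3 = 1 by revert x; decide, map_one]
  · rw [← Nat.card_congr (MonoidHom.ofInjective inj).toEquiv]
    simp
  · obtain ⟨a, ha⟩ := (mem_center_SU_iff (by omega)).1 ((QuotientGroup.eq_one_iff _).1 e)
    have := congrFun (tv_mulVec vv c1 (Pi.single 0 1)) 1
    rw [ha, form_single_one_left] at this
    simp [hv, h01, h01.symm] at this
  · rw [← QuotientGroup.mk_mul, tv_mul vv c1 c1, show (1 : F4) + 1 = 0 by decide, tv_zero, QuotientGroup.mk_one]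
  · rintro _ ⟨x, rfl⟩
    refine mc_of_conj ?_
    change ((φ x * tv 2 v 1 * (φ x)⁻¹ : SU (k + 5) F4 2) : PSU (k + 5) F4 2) = _
    have : (φ x).1.1 *ᵥ v = w (f x.toAdd 0) • v := by
      rw [hφ, hv, mulVec_add, diagonal_mulVec_single, diagonal_mulVec_single, ← f01, smul_add, ← Pi.single_smul,
        ← Pi.single_smul]
      rfl
    rw [conj_tv, this, tv_smul vv c1, cj_apply, w3, one_mul]

end H16M
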