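import Cfsg.Agent.Lib.M75.EC
import Cfsg.Agent.Lib.M75.EU
import Cfsg.Agent.S0822
import Cfsg.Agent.Lib.Sp.Order

/-!
The weakly closed case.
-/

set_option autoImplicit false
set_option linter.unusedSectionVars false
set_option linter.unusedVariables false

namespace H16M

open Cfsg Subgroup H71KM H23M
open scoped commutatorElement

universe u

variable {G : Type u} [Group G] [Finite G] {Q : Subgroup G} {z : G}

theorem concl_u42 {F : Type*} [Field F] [Fintype F] (hF : Fintype.card F = 4) (e : G ≃* PSU 4 F 2) :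
    Concl G := by
  have : Fact (Nat.Prime 3) := ⟨Nat.prime_three⟩
  exact ⟨ZMod 3, inferInstance, inferInstance, ZMod.card 3,
    .inr (.inl ⟨e.trans (Cfsg.Agent.S0822.result hF (ZMod.card 3)).some⟩)⟩

theorem EH.wc (E : EH Q z) (hc : 32 < Nat.card Q) (wc : ∀ g, g * z * g⁻¹ ∈ Q → g * z * g⁻¹ = z) :
    Concl G := by
  have := E.simple
  have h := E.h
  have e : closure {s | IsConj z s} = ⊤ := by
    refine (Normal.eq_bot_or_eq_top (H := normalClosure {z}) inferInstance).elim (fun e => ?_) fun e => ?_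
    · exact absurd (mem_bot.1 (e ▸ subset_normalClosure (Set.mem_singleton z))) h.ne_one
    · rw [← e, normalClosure]
      congr 1
      ext
      simp [Group.mem_conjugatesOfSet_iff]
  have : (Q.subgroupOf (centralizer {z})).Normal :=
    ⟨fun x hx g => H95.conj_mem_of_normalizer (H := Q) (h.norm g (H95.mem_cent_iff.1 g.2)) hx⟩
  have f := (MulEquiv.subgroupCongr e).trans topEquiv
  rcases H9.WN.big h E.o2 wc E.hex (QuotientGroup.mk' (Q.subgroupOf (centralizer {z})))
    (QuotientGroup.mk'_surjective _) (fun x => QuotientGroup.eq_one_iff x) hc f.isSimpleGroup with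
    ⟨m, hm, ⟨g⟩⟩ | ⟨h9, ⟨g⟩⟩
  · rcases hm.eq_or_lt with rfl | hm
    · exact concl_u42 H30.F4.card_eq (f.symm.trans g)
    · exact absurd (K27.of_equiv (f.symm.trans g) (psu_k27 hm)) E.k27
  · have c : Nat.card (Matrix.symplecticGroup (Fin 3) (ZMod 2)) = 1451520 := by
      rw [H11.Sp.card_G, Nat.card_zmod]
      decide +kernel
    refine absurd (Dvd.dvd.trans ?_ (card_quotient_dvd_card (Q.subgroupOf (centralizer {z})))) (E.n81 h9)
    rw [Nat.card_congr g.toEquiv, c]
    norm_num

end H16M
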