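import Mathlib
import Cfsg.Agent.Base
import Cfsg.Agent.Lib.KM.B
import Cfsg.Agent.Lib.PComp.Core
import Cfsg.Agent.Lib.Comp.PConstrained

/-!
Groups of characteristic 2 type with 3-constrained 3-locals: interfaces (see `blueprint/M75/README.md`).
-/

set_option autoImplicit false
set_option linter.unusedSectionVars false
set_option linter.unusedVariables false

namespace H23M

open Cfsg Subgroup H71KM
open scoped commutatorElement

instance fact3 : Fact (Nat.Prime 3) := ⟨Nat.prime_three⟩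

/-- the conclusion of the theorem. -/
def Concl (G : Type*) [Group G] : Prop :=
  ∃ (F : Type) (_ : Field F) (_ : Fintype F), Fintype.card F = 3 ∧
    (Nonempty (G ≃* ↥(Cfsg.Lie.chevG2.group F)) ∨ Nonempty (G ≃* Cfsg.PSp 2 F) ∨
      ∃ (K : Type) (_ : Field K) (_ : Fintype K), Fintype.card K = 9 ∧ Nonempty (G ≃* Cfsg.PSU 4 K 3))

variable {G : Type*} [Group G]

/-- `O_{p'}(C(D))`. -/
abbrev th (p : ℕ) (D : Subgroup G) : Subgroup G := H44.coreOf p 𝐂(D)

/-- `O_{p',p}(C(D))`. -/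
def oo (p : ℕ) (D : Subgroup G) : Subgroup G := (pPrimePCore p 𝐂(D)).map (𝐂(D)).subtype

/-- `C(D)` is `p`-constrained with `O_{p'}` of odd order. -/
def OC (p : ℕ) (D : Subgroup G) : Prop := IsPConstrained p 𝐂(D) ∧ Odd (Nat.card (th p D))

/-- `R` is a Sylow `p`-subgroup of `O_{p',p}(C(D))`. -/
def Sy (p : ℕ) (D R : Subgroup G) : Prop := IsPGroup p R ∧ th p D ⊔ R = oo p D

/-- `C(D)` has 3-rank at least 3. -/
def R3 (D : Subgroup G) : Prop := ∃ E : Subgroup G, EA 3 E ∧ Nat.card E = 27 ∧ E ≤ 𝐂(D)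

/-- the weak Klinger-Mason hypothesis. -/
structure WH (p N : ℕ) (G : Type*) [Group G] : Prop where
  odd : p ≠ 2
  h2 : ∀ t : G, t ≠ 1 → t * t = 1 → H70.CharP 2 (centralizer {t})
  max : ∀ t : G, t ≠ 1 → t * t = 1 → ∀ B : Subgroup G, EA p B → B ≤ centralizer {t} → Nat.card B ≤ N
  big : p < N
  oc : ∀ (B : Subgroup G) (t : G), Good p N B t → ∀ D ≤ B, D ≠ ⊥ → OC p D

/-- the hypothesis before odd cores are known. -/
structure Hy0 (G : Type*) [Group G] : Prop where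
  simple : IsSimpleGroup G
  nab : ¬ IsMulCommutative G
  c2 : IsCharacteristicTwoType G
  r2 : ¬ PRankLE 2 2 G
  n3 : ∀ D : Subgroup G, IsPGroup 3 D → D ≠ ⊥ → IsPConstrained 3 𝐍(D)
  c3 : ∀ D : Subgroup G, IsPGroup 3 D → D ≠ ⊥ → IsPConstrained 3 𝐂(D)
  nW : ∀ P : Sylow 3 G, ∃ W : Subgroup G, EA 3 W ∧ 27 ≤ Nat.card W ∧ W ≤ P ∧ (P : Subgroup G) ≤ 𝐍(W) ∧
    ∀ w ∈ W, w ≠ 1 → Odd (Nat.card (th 3 (zpowers w)))

/-- the standing hypothesis. -/
structure Hyp (G : Type*) [Group G] : Prop extends Hy0 G where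
  oc : ∀ D : Subgroup G, EA 3 D → D ≠ ⊥ → R3 D → OC 3 D

/-- an elementary abelian group of order 9 normalizes a nontrivial 2-group. -/
def H9 (G : Type*) [Group G] : Prop :=
  ∃ T E : Subgroup G, IsPGroup 2 T ∧ T ≠ ⊥ ∧ E ≤ 𝐍(T) ∧ EA 3 E ∧ Nat.card E = 9

/-- a good pair with all the local facts. -/
structure Pr (B : Subgroup G) (t : G) : Prop extends Hyp G where
  good : Good 3 9 B t
  card : Nat.card B = 9
  wh : WH 3 9 G
  /-- an `E₉` centralized by an involution lies in an `E₂₇`. -/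
  star : ∀ (B' : Subgroup G) (s : G), Good 3 9 B' s → R3 B'
  /-- no `E₂₇` normalizes a nontrivial 2-group. -/
  no27 : ∀ E T : Subgroup G, EA 3 E → 27 ≤ Nat.card E → IsPGroup 2 T → E ≤ 𝐍(T) → T = ⊥
  /-- no `E₉ × E₄`. -/
  no94 : ∀ (E : Subgroup G) (a b : G), EA 3 E → 9 ≤ Nat.card E → a ∈ 𝐂(E) → b ∈ 𝐂(E) → a * a = 1 → b * b = 1 →
    a * b = b * a → a = 1 ∨ b = 1 ∨ a = b
  /-- no `Z₃ × E₈` when the centralizer of `Z₃` has 3-rank at least 3. -/
  no38 : ∀ (d : G) (V : Subgroup G), d ^ 3 = 1 → d ≠ 1 → R3 (zpowers d) → EA 2 V → V ≤ centralizer {d} →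
    Nat.card V ≤ 4
  d81 : 81 ∣ Nat.card G

/-- `F*(C(t))`. -/
abbrev FS (t : G) := generalizedFittingSubgroup ↥(centralizer ({t} : Set G))

/-- the final data: `F*(C(t))` is extraspecial of width 2, 3 or 4. -/
structure Fin3 (B : Subgroup G) (t : G) : Prop extends Pr B t where
  ord : orderOf t = 2
  symp : IsOfSymplecticType (FS t)
  es : IsExtraspecial 2 (FS t)
  cardQ : Nat.card (FS t) = 2 ^ 5 ∨ Nat.card (FS t) = 2 ^ 7 ∨ Nat.card (FS t) = 2 ^ 9
  cardR : Nat.card (RT t) = Nat.card (FS t)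
  /-- each nontrivial element of `B` centralizes only one involution of `O₂(C(t))`. -/
  one : ∀ y ∈ B, y ≠ 1 → ∀ a ∈ RT t, a ∈ centralizer {y} → a * a = 1 → a = 1 ∨ a = t

end H23M
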