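import Mathlib
import Cfsg.Agent.Lib.M75.Defs
import Cfsg.Agent.Lib.PComp.Local
import Cfsg.Agent.Lib.LocStruct.ConstrMono
import Cfsg.Agent.Lib.Core.CoprimeSylow

/-!
Balance and odd cores.
-/

set_option autoImplicit false
set_option linter.unusedSectionVars false
set_option linter.unusedVariables false

namespace H23M

open Cfsg Subgroup H71KM
open scoped commutatorElement

variable {G : Type*} [Group G] [Finite G] {p : ℕ} [hp : Fact p.Prime]

theorem bal {D D' : Subgroup G} (hD : IsPGroup p D) (hc : IsPConstrained p 𝐂(D')) (h : D ≤ 𝐂(D')) :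
    th p D ⊓ 𝐂(D') ≤ th p D' := by
  have h1 := (H44.local_of_pLayer_eq_bot (H44.isPConstrained_iff_pLayer_eq_bot.1 hc)
    (H68.isPGroup_subgroupOf hD 𝐂(D'))).2
  rw [H69.centralizer_subgroupOf' h, ← inf_subgroupOf_right] at h1
  have h2 := map_mono (f := (𝐂(D')).subtype) h1
  rw [H44.coreOf_subgroupOf_map inf_le_right] at h2
  exact (le_inf inf_le_left (inf_le_inf_right _ (H44.coreOf_le p _))).trans
    ((H44.coreOf_inf_le inf_le_left).trans h2)

namespace BAL

theorem not_cyc {U : Subgroup G} (hU : EA p U) (hc : p < Nat.card U) : ¬ IsCyclic U := fun h => by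
  obtain ⟨g, hg⟩ := h.exists_generator
  rw [← orderOf_eq_card_of_forall_mem_zpowers hg] at hc
  exact absurd (Nat.le_of_dvd hp.out.pos
    (orderOf_dvd_of_pow_eq_one (Subtype.ext (hU.2 g g.2) : g ^ p = 1))) (by omega)

theorem odd_of {A K : Subgroup G} (hA : IsPGroup p A) (hAK : A ≤ 𝐍(K))
    (hK : (Nat.card K).Coprime p)
    (h : ∀ T ≤ K, IsPGroup 2 T → A ≤ 𝐍(T) → T = ⊥) : Odd (Nat.card K) := by
  obtain ⟨T, hT, hn⟩ := H2.exists_invariant_sylowIn hAK
    (H1.coprime_card_of_isPGroup_of_coprime hA hK) (.inl (H44.isSolvable_of_isPGroup hA)) 2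
  have := hT.not_dvd_relIndex
  rw [h T hT.le hT.isPGroup hn, relIndex_bot_left] at this
  exact Nat.odd_iff.2 (by omega)

theorem n_th (D : Subgroup G) : 𝐂(D) ≤ 𝐍(th p D) := H44.le_normalizer_coreOf p _

theorem zp {x : G} (h : x ^ p = 1) : IsPGroup p (zpowers x) :=
  H68.isPGroup_zpowers (k := 1) (by rwa [pow_one])

end BAL

open BAL

theorem odd_step (hp2 : p ≠ 2) {U D : Subgroup G} (hU : EA p U) (hc : p * p ≤ Nat.card U)
    (ho : ∀ u ∈ U, u ≠ 1 → OC p (zpowers u)) (hD : IsPGroup p D) (hUD : U ≤ 𝐂(D)) :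
    Odd (Nat.card (th p D)) := by
  have h2 := hp.out.two_le
  refine odd_of hU.isPGroup (hUD.trans (n_th D)) (H44.coprime_card_coreOf p _) fun T hT h2T hn => ?_
  refine eq_bot_iff.2 (H2.le_of_forall_centralizer_le hU.1 (not_cyc hU (by nlinarith)) hn
    (cop hp2 hU.isPGroup h2T) fun u hu u1 => ?_)
  have h3 : T ⊓ centralizer {u} ≤ th p (zpowers u) := by
    rw [← H70.centralizer_zpowers]
    exact (inf_le_inf_right _ hT).trans (bal hD (ho u hu u1).1
      (le_centralizer_iff.1 ((zpowers_le.2 hu).trans hUD)))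
  exact (H44.eq_bot_of_isPGroup_of_coprime (h2T.to_le inf_le_left)
    (H44.coprime_of_le h3 (Nat.coprime_two_right.2 (ho u hu u1).2))).le

theorem Hy0.hyp (h : Hy0 G) : Hyp G := by
  refine ⟨h, fun D hD D1 ⟨E, hE, cE, hED⟩ => ⟨h.c3 D hD.isPGroup D1, ?_⟩⟩
  obtain ⟨P, hP⟩ := hE.isPGroup.exists_le_sylow
  obtain ⟨W, hW, cW, hWP, hPW, oW⟩ := h.nW P
  have c3 : ∀ x : G, x ^ 3 = 1 → x ≠ 1 → IsPConstrained 3 𝐂(zpowers x) := fun x h1 h2 =>
    h.c3 _ (zp h1) (by simpa using h2)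
  obtain ⟨z, hz, hzP, oz⟩ := H5.exists_mem_centralizer_orderOf_eq P.isPGroup' hWP hPW
    (fun e => by rw [e, card_bot] at cW; omega)
  have cz : Nat.card (zpowers z) = 3 := by rw [Nat.card_zpowers, oz]
  obtain ⟨u, hu, huz, -, hc⟩ := H5.exists_step_of_le P.isPGroup' (zpowers z) hWP hPW
    (fun e => by have := card_le_of_le e; omega)
  have hUW : zpowers z ⊔ zpowers u ≤ W := sup_le (zpowers_le.2 hz) (zpowers_le.2 hu)
  have cU : Nat.card (zpowers z ⊔ zpowers u : Subgroup G) = 9 := by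
    rw [card_sup (H69.centralizer_anti (zpowers_le.2 hz) (hW.le_cent hu)) (hW.2 u hu) huz, cz]
  have zc : ∀ x ∈ zpowers z, ∀ g ∈ (P : Subgroup G), g * x = x * g := fun x hx g hg =>
    (zpowers_le.2 hzP : zpowers z ≤ 𝐂((P : Subgroup G))) hx g hg
  let φ : E →* G := MonoidHom.mk' (fun e => ⁅u, (e : G)⁆) fun a b => by
    have := zc _ (hc b (hP b.2)) a (hP a.2)
    calc ⁅u, ((a * b : E) : G)⁆ = ⁅u, (a : G)⁆ * (a * ⁅u, (b : G)⁆) * (a : G)⁻¹ := by
          simp only [commutatorElement_def, coe_mul]; group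
      _ = _ := by rw [this]; group
  have c1 := φ.ker.card_mul_index
  have c2 : Nat.card φ.range ≤ 3 := cz ▸ card_le_of_le (by
    rintro _ ⟨e, rfl⟩
    exact hc e (hP e.2))
  rw [index_ker, cE, ← card_map_of_injective (K := φ.ker) E.subtype_injective] at c1
  have hE0 : φ.ker.map E.subtype ≤ E := map_subtype_le _
  refine odd_step (by decide) (hE.mono hE0) (by nlinarith) ?_ hD.isPGroup (hE0.trans hED)
  rintro _ ⟨e, he, rfl⟩ e1
  have e3 := hE.2 e e.2
  refine ⟨c3 _ e3 e1, odd_step (by decide) (hW.mono hUW) cU.ge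
    (fun w hw w1 => ⟨c3 w (hW.2 w (hUW hw)) w1, oW w (hUW hw) w1⟩) (zp e3) ?_⟩
  rw [H70.centralizer_zpowers]
  exact sup_le (zpowers_le.2 (mc_of_mem hzP (hP e.2)))
    (zpowers_le.2 (mc.2 (commutatorElement_eq_one_iff_mul_comm.1 he)))

end H23M
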