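import Mathlib
import Cfsg.Agent.Lib.M75.Defs
import Cfsg.Agent.Lib.Core.CoprimeSylow

/-!
Invariant Sylow subgroups of `O_{p',p}(C(D))`.
-/

set_option autoImplicit false
set_option linter.unusedSectionVars false
set_option linter.unusedVariables false

namespace H23M

open Cfsg Subgroup H71KM
open scoped commutatorElement

variable {G : Type*} [Group G] [Finite G] {p : ℕ} [hp : Fact p.Prime] {D R R' : Subgroup G}

theorem oo_le : oo p D ≤ 𝐂(D) := map_subtype_le _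

theorem n_oo : 𝐂(D) ≤ 𝐍(oo p D) := fun g hg => mem_normalizer_fintype fun n hn => by
  obtain ⟨m, hm, rfl⟩ := hn
  exact ⟨_, (H23.pPrimePCore_normal (p := p) (G := 𝐂(D))).conj_mem m hm ⟨g, hg⟩, rfl⟩

namespace SY

theorem th_le : th p D ≤ oo p D := map_mono H23.pPrimeCore_le_pPrimePCore

theorem n_th : 𝐂(D) ≤ 𝐍(th p D) := H44.le_normalizer_coreOf p _

theorem idx : ∃ k, (th p D).relIndex (oo p D) = p ^ k := by
  obtain ⟨k, hk⟩ := IsPGroup.iff_card.1 (H1.isPGroup_pCore (p := p) (G := 𝐂(D) ⧸ pPrimeCore p 𝐂(D)))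
  refine ⟨k, ?_⟩
  rw [← hk, ← H23.map_mk'_pPrimePCore, ← relIndex_ker, QuotientGroup.ker_mk']
  exact relIndex_map_map_of_injective _ _ (subtype_injective _)

theorem syl (h : Sy p D R) : H68.SylowIn p R (oo p D) := by
  have hle : R ≤ oo p D := h.2 ▸ le_sup_right
  refine ⟨hle, h.1, fun Q hQ h1 h2 => le_antisymm (fun q hq => ?_) h1⟩
  obtain ⟨b, hb, a, ha, rfl⟩ := (H68.mem_sup_of_le_normalizer' ((hle.trans oo_le).trans n_th)).1 (h.2.symm ▸ h2 hq)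
  have : b = 1 := H2.eq_one_of_mem_of_coprime
    (H1.coprime_card_of_isPGroup_of_coprime hQ (H44.coprime_card_coreOf p _))
    ((mul_mem_cancel_right (h1 ha)).1 hq) hb
  rwa [this, one_mul]

theorem of_syl (h : H68.SylowIn p R (oo p D)) : Sy p D R := by
  refine ⟨h.isPGroup, le_antisymm (sup_le th_le h.le) (relIndex_eq_one.1 ?_)⟩
  obtain ⟨k, hk⟩ := idx (p := p) (D := D)
  have h1 : (th p D ⊔ R).relIndex (oo p D) ∣ p ^ k := hk ▸ relIndex_dvd_of_le_left _ le_sup_left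
  obtain ⟨j, -, hj⟩ := (Nat.dvd_prime_pow hp.out).1 h1
  rcases j with _ | j
  · rw [hj, pow_zero]
  · exact absurd ((dvd_pow_self p j.succ_ne_zero).trans
      (hj ▸ relIndex_dvd_of_le_left _ le_sup_right)) h.not_dvd_relIndex

end SY

theorem Sy.le (h : Sy p D R) : R ≤ 𝐂(D) := (SY.syl h).le.trans oo_le

theorem Sy.le_self (h : Sy p D R) (hD : EA p D) : D ≤ R :=
  (SY.syl h).le_of_le_normalizer hD.isPGroup
    ((H70.le_pCoreOf hD.isPGroup hD.le_cent (centralizer_le_normalizer _)).trans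
      (map_mono H23.pCore_le_pPrimePCore)) (h.le.trans (centralizer_le_normalizer _))

theorem OC.odd_oo (hp2 : p ≠ 2) (h : OC p D) : Odd (Nat.card (oo p D)) := by
  obtain ⟨k, hk⟩ := SY.idx (p := p) (D := D)
  rw [← H1.card_mul_relIndex_of_le (SY.th_le (p := p) (D := D)), hk]
  exact h.2.mul (hp.out.odd_of_ne_two hp2).pow

theorem Sy.cent_le (h : Sy p D R) (hc : IsPConstrained p 𝐂(D)) : 𝐂(D) ⊓ 𝐂(R) ≤ oo p D := fun x hx => by
  have h1 : H68.SylowIn p (R.subgroupOf 𝐂(D)) (pPrimePCore p 𝐂(D)) :=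
    ⟨fun r hr => by
      obtain ⟨m, hm, e⟩ := (SY.syl h).le hr
      rwa [← Subtype.ext e], H68.isPGroup_subgroupOf h.1 _, fun Q hQ h1 h2 => by
      rw [← (SY.syl h).eq_of_le (hQ.map (𝐂(D)).subtype) (fun r hr => ⟨⟨r, h.le hr⟩, h1 hr, rfl⟩) (map_mono h2)]
      exact (comap_map_eq_self_of_injective (subtype_injective _) Q).symm⟩
  have h2 := hc h1.toSylow
  rw [h1.map_toSylow] at h2
  exact ⟨⟨x, hx.1⟩, h2 fun r hr => Subtype.ext (hx.2 r hr), rfl⟩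

theorem Sy.not_cent (hp2 : p ≠ 2) (h : Sy p D R) (hc : OC p D) {a : G} (ha1 : a ≠ 1) (ha : a * a = 1)
    (haD : a ∈ 𝐂(D)) : ¬ R ≤ centralizer {a} := fun e => by
  have h1 := orderOf_dvd_natCard (⟨a, h.cent_le hc.1 ⟨haD, H70.le_centralizer_singleton_iff.1 e⟩⟩ : oo p D)
  rw [← orderOf_coe, orderOf_eq_prime (p := 2) (by rw [pow_two, ha]) ha1] at h1
  exact (Nat.not_even_iff_odd.2 (hc.odd_oo hp2)) (even_iff_two_dvd.2 h1)

theorem SY.cop2 {K X : Subgroup G} (hK : IsPGroup 2 K) (hX : Odd (Nat.card X)) :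
    (Nat.card K).Coprime (Nat.card X) :=
  H1.coprime_card_of_isPGroup_of_coprime hK (Nat.coprime_two_right.2 hX)

theorem exists_sy (hp2 : p ≠ 2) (hc : OC p D) {K B : Subgroup G} (hK : IsPGroup 2 K) (hKD : K ≤ 𝐂(D))
    (hB : IsPGroup p B) (hBD : B ≤ 𝐂(D)) (hBK : B ≤ 𝐍(K)) : ∃ R, Sy p D R ∧ K ≤ 𝐍(R) ∧ B ≤ 𝐍(R) := by
  obtain ⟨R, hR⟩ := H68.exists_sylowIn p (oo p D)
  have hA : K ⊔ B ≤ 𝐂(D) := sup_le hKD hBD
  have hcop : (Nat.card (K ⊔ B : Subgroup G)).Coprime (Nat.card (th p D)) := by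
    rw [sup_comm]
    exact H44.coprime_card_sup hBK (H1.coprime_card_of_isPGroup_of_coprime hB (H44.coprime_card_coreOf p _))
      (SY.cop2 hK hc.2)
  obtain ⟨k, hk, h1⟩ := H2.exists_invariant_cj (hA.trans SY.n_th) hcop (Or.inl
    (sup_comm K B ▸ H1.isSolvable_sup_of_le_normalizer (H1.isSolvable_of_isPGroup hB)
      (H1.isSolvable_of_isPGroup hK) hBK))
    (H := R) fun a ha => by
      have h2 := hR.cj_of_mem_normalizer (n_oo (hA ha))
      obtain ⟨g, hg, e⟩ := h2.exists_cj_eq hR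
      obtain ⟨b, hb, r, hr, rfl⟩ := (H68.mem_sup_of_le_normalizer' ((h2.le.trans oo_le).trans SY.n_th)).1
        ((SY.of_syl h2).2.symm ▸ hg)
      exact ⟨b, hb, by rwa [H68.cj_mul, H68.cj_eq_of_mem hr] at e⟩
  exact ⟨_, SY.of_syl (hR.cj_of_mem (SY.th_le hk)), le_sup_left.trans h1, le_sup_right.trans h1⟩

theorem Sy.conj (hp2 : p ≠ 2) (hc : OC p D) (h : Sy p D R) (h' : Sy p D R') {V : Subgroup G}
    (hV : IsPGroup 2 V) (hVD : V ≤ 𝐂(D)) (h1 : V ≤ 𝐍(R)) (h2 : V ≤ 𝐍(R')) :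
    ∃ c ∈ 𝐂(V), ∀ x ∈ R, c * x * c⁻¹ ∈ R' := by
  obtain ⟨c, hc1, e⟩ := H2.exists_centralizer_cj_eq_of_sylowIn (hVD.trans n_oo) (SY.cop2 hV (hc.odd_oo hp2))
    (Or.inl (H1.isSolvable_of_isPGroup hV)) (SY.syl h) (SY.syl h') h1 h2
  exact ⟨c, hc1.2, fun x hx => e ▸ H68.conj_mem_cj.2 hx⟩

end H23M
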