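import Mathlib
import Cfsg.Agent.Lib.M75.KB
import Cfsg.Agent.Lib.KM.C

/-!
Klinger-Mason part C with odd cores.
-/

set_option autoImplicit false
set_option linter.unusedSectionVars false
set_option linter.unusedVariables false

namespace H23M

open Cfsg Subgroup H71KM
open scoped commutatorElement

variable {G : Type*} [Group G] [Finite G] {p N : ℕ} [hp : Fact p.Prime] {B : Subgroup G} {t : G}

theorem WH.cop (h : WH p N G) (g : Good p N B t) {D X : Subgroup G} (hD : D ≤ B) (hX : X ≤ RT t) :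
    (Nat.card D).Coprime (Nat.card X) := H71KM.cop h.odd (g.ea.mono hD).isPGroup ((pRT t).to_le hX)

theorem WH.E_eq (h : WH p N G) (g : Good p N B t) : ⁅EE B t, B⁆ = EE B t :=
  H2.commutator_commutator_eq g.nR (h.cop g le_rfl le_rfl)

theorem WH.faith (h : WH p N G) (g : Good p N B t) {b : G} (hb : b ∈ B) (hc : EE B t ≤ centralizer {b}) :
    b = 1 := by
  have h1 := H2.le_centralizer_of_commutator_le (A := zpowers b) (K := RT t) (N := EE B t)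
    (h.cop g (zpowers_le_of_mem hb) g.E_le) (commutator_mono le_rfl (zpowers_le_of_mem hb)) (zp_le_cent hc)
  exact eq_one_of_mem h.odd g.ea.isPGroup (pRT t) hb (h.h2 t g.ne g.sq ⟨g.le hb, h1 (mem_zpowers b)⟩)

theorem WH.lemK (h : WH p N G) (g : Good p N B t) {H : Subgroup G} (h1 : EE B t ≤ H) (h2 : H ≤ RT t)
    (h3 : B ≤ 𝐍(H)) (hs : ∀ x ∈ EE B t, x * x ∈ 𝐂(EE B t) → ∀ y ∈ H, ⁅x, y⁆ ∈ EE B t ⊓ 𝐂(EE B t) →
      ⁅x, y⁆ ∈ zpowers t) : ⁅EE B t, H⁆ ≤ 𝐂(EE B t) ∧ ∀ x ∈ EE B t, x * x ∈ 𝐂(EE B t) := by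
  have hHt := h2.trans (RT_le t)
  have hHE : H ≤ 𝐍(EE B t) := h2.trans nE_R
  obtain ⟨W, hW⟩ : ∃ W, W = EE B t ⊓ H2.relCentralizer H (zpowers t) := ⟨_, rfl⟩
  have hWE : W ≤ EE B t := hW ▸ inf_le_left
  have hWH : ⁅W, H⁆ ≤ zpowers t := (H2.le_relCentralizer_iff.1 (hW ▸ inf_le_right)).2
  have nH : H ≤ 𝐍(W) := hW ▸ H2.le_normalizer_inf hHE (n_rel le_normalizer hHt)
  have nB : B ≤ 𝐍(W) := hW ▸ H2.le_normalizer_inf nE_B (n_rel h3 g.le)
  have hK : W ⊓ 𝐂(W) ≤ 𝐂(EE B t) := by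
    refine le_centralizer_iff.1 (h.E_eq g ▸ H2.commutator_le_centralizer_of_normalizes
      (h1.trans (H2.le_normalizer_inf nH (H2.le_normalizer_centralizer nH))) (le_centralizer_iff.1 ?_))
    exact h.s2 g (inf_le_left.trans (hWE.trans g.E_le)) (inf_le_right.trans (centralizer_le inf_le_left))
      (H2.le_normalizer_inf nB (H2.le_normalizer_centralizer nB))
  have hM : EE B t ⊓ 𝐂(W) ≤ EE B t ⊓ 𝐂(EE B t) := by
    by_contra hn
    obtain ⟨x, hx, x1, x2, x3⟩ := H5.exists_step_of_le ((pRT t).to_le h2) _ (inf_le_left.trans h1)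
      (H2.le_normalizer_inf hHE (H2.le_normalizer_centralizer nH)) hn
    exact x1 ⟨hx.1, hK ⟨hW ▸ ⟨hx.1, n_zp t (g.E_t hx.1), fun y hy => hs x hx.1 (pow_two x ▸ x2.2) y hy (x3 y hy)⟩,
      hx.2⟩⟩
  refine ⟨(le_inf (H2.commutator_le_of_le_normalizer hHE) (commutator_eq_bot_iff_le_centralizer.1
    (commutator_commutator_eq_bot_of_rotate (comm_bot (commutator_comm W H ▸ hWH) g.E_t)
      (comm_bot ((commutator_mono le_rfl h1).trans hWH) hHt)))).trans (hM.trans inf_le_right),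
    fun x hx => (hM ⟨mul_mem hx hx, fun w hw => ?_⟩).2⟩
  have e : ⁅x, w⁆ ∈ zpowers t := commutator_comm W H ▸ hWH <| commutator_mem_commutator (h1 hx) hw
  refine (commutatorElement_eq_one_iff_mul_comm.1 ?_).symm
  rw [comm_sq (zp_le_cent g.E_t e x hx), sq_of_zp g.sq e]

theorem WH.Z_B (h : WH p N G) (g : Good p N B t) : EE B t ⊓ 𝐂(EE B t) ≤ 𝐂(B) :=
  h.s2 g (inf_le_left.trans g.E_le) (inf_le_right.trans (centralizer_le inf_le_left))
    (H2.le_normalizer_inf nE_B (H2.le_normalizer_centralizer nE_B))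

theorem WH.EE_le (h : WH p N G) (g : Good p N B t) :
    ⁅EE B t, EE B t⁆ ≤ zpowers t ∧ ∀ x ∈ EE B t, x * x ∈ 𝐂(EE B t) := by
  have hs : ∀ x ∈ EE B t, x * x ∈ 𝐂(EE B t) → ∀ y ∈ EE B t, ⁅x, y⁆ ∈ EE B t ⊓ 𝐂(EE B t) →
      ⁅x, y⁆ ∈ zpowers t := fun x hx x2 y hy e => h.uniq g (g.E_t e.1) (h.Z_B g e) (by
    rw [← comm_sq (e.2 x hx)]
    exact commutatorElement_eq_one_iff_mul_comm.2 (x2 y hy).symm)
  obtain ⟨h1, h2⟩ := h.lemK g le_rfl g.E_le nE_B hs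
  exact ⟨commutator_le.2 fun x hx y hy => hs x hx (h2 x hx) y hy
    ⟨commutator_le_self _ (commutator_mem_commutator hx hy), h1 (commutator_mem_commutator hx hy)⟩, h2⟩

theorem WH.CB_le (h : WH p N G) (g : Good p N B t) : EE B t ⊓ 𝐂(B) ≤ zpowers t :=
  (H2.inf_centralizer_le_commutator nE_B (h.cop g le_rfl g.E_le) (h.E_eq g).ge).trans (h.EE_le g).1

theorem WH.Z_le (h : WH p N G) (g : Good p N B t) : EE B t ⊓ 𝐂(EE B t) ≤ zpowers t :=
  (le_inf inf_le_left (h.Z_B g)).trans (h.CB_le g)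

theorem WH.sq_mem (h : WH p N G) (g : Good p N B t) {x : G} (hx : x ∈ EE B t) : x * x ∈ zpowers t :=
  h.Z_le g ⟨mul_mem hx hx, (h.EE_le g).2 x hx⟩

theorem WH.ER_le (h : WH p N G) (g : Good p N B t) : ⁅EE B t, RT t⁆ ≤ zpowers t :=
  (le_inf (H2.commutator_le_of_le_normalizer nE_R)
    (h.lemK g g.E_le le_rfl g.nR fun _ _ _ _ _ e => h.Z_le g e).1).trans (h.Z_le g)

theorem WH.CE_le (h : WH p N G) (g : Good p N B t) : RT t ⊓ 𝐂(EE B t) ≤ 𝐂(B) := by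
  have n : B ≤ 𝐍(RT t ⊓ 𝐂(EE B t)) := H2.le_normalizer_inf g.nR (H2.le_normalizer_centralizer nE_B)
  exact H2.le_centralizer_of_commutator_le_centralizer n (h.cop g le_rfl inf_le_left)
    ((le_inf (commutator_mono inf_le_left le_rfl)
      ((H2.commutator_le_of_le_normalizer n).trans inf_le_right)).trans (h.Z_B g))

theorem WH.exists_uv (h : WH p N G) (g : Good p N B t) {D : Subgroup G} (hD : D ≤ B)
    (hn : ¬ EE B t ⊓ 𝐂(D) ≤ 𝐂(B)) : ∃ u ∈ EE B t ⊓ 𝐂(D), ∃ v ∈ EE B t ⊓ 𝐂(D),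
      u * u = t ∧ v * v = t ∧ ⁅v, u⁆ = t := by
  have nX : B ≤ 𝐍(EE B t ⊓ 𝐂(D)) :=
    H2.le_normalizer_inf nE_B (g.ea.le_cent.trans ((centralizer_le hD).trans le_normalizer))
  obtain ⟨u, hu, u2⟩ : ∃ u ∈ EE B t ⊓ 𝐂(D), u * u ≠ 1 := by
    by_contra! h1
    refine hn (h.s2 g (inf_le_left.trans g.E_le) (fun x hx y hy => ?_) nX)
    rw [← inv_eq_of_mul_eq_one_right (h1 _ (mul_mem hy hx)), mul_inv_rev, inv_eq_of_mul_eq_one_right (h1 x hx),
      inv_eq_of_mul_eq_one_right (h1 y hy)]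
  have u3 := ((mem_zp g.sq).1 (h.sq_mem g hu.1)).resolve_left u2
  obtain ⟨β, hβ, h1⟩ : ∃ β ∈ B, ⁅β * u * β⁻¹, u⁆ ≠ 1 := by
    by_contra! h1
    refine u2 (sq_of_zp g.sq (h.CB_le g ⟨hu.1, h.s2 g (V := closure {x | ∃ β ∈ B, x = β * u * β⁻¹})
      ((closure_le _).2 ?_) ((closure_le _).2 ?_) (le_normalizer_closure_iff.2 ?_)
      (subset_closure ⟨1, one_mem _, by group⟩)⟩))
    · rintro _ ⟨β, hβ, rfl⟩
      exact g.E_le (cj_mem (nX hβ) hu).1
    · rintro _ ⟨β, hβ, rfl⟩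
      rw [SetLike.mem_coe, centralizer_closure]
      rintro _ ⟨γ, hγ, rfl⟩
      refine commutatorElement_eq_one_iff_mul_comm.1 ?_
      have := congrArg (fun z => β * z * β⁻¹) (h1 _ (mul_mem (inv_mem hβ) hγ))
      simp only [conjugate_commutatorElement, mul_one, mul_inv_cancel] at this
      rwa [show β * (β⁻¹ * γ * u * (β⁻¹ * γ)⁻¹) * β⁻¹ = γ * u * γ⁻¹ by group] at this
    · rintro b hb _ ⟨β, hβ, rfl⟩
      exact subset_closure ⟨b * β, mul_mem hb hβ, by group⟩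
  have hv := cj_mem (nX hβ) hu
  exact ⟨u, hu, _, hv, u3, by rw [conj_mul, u3, conj_of_mc (g.le hβ)], ((mem_zp g.sq).1
    ((h.EE_le g).1 (commutator_mem_commutator hv.1 hu.1))).resolve_left h1⟩

/-- some nontrivial `y ∈ B` has `C_E(y)` not centralized by `B`. -/
theorem WH.exists_y (h : WH p N G) (g : Good p N B t) :
    ∃ y ∈ B, y ≠ 1 ∧ ¬ EE B t ⊓ 𝐂(zpowers y) ≤ 𝐂(B) := by
  by_contra! h1
  have hc : ¬ IsCyclic B := fun hcyc => by
    have h6 := IsCyclic.exponent_eq_card (α := B)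
    have h7 : Monoid.exponent B ∣ p :=
      Monoid.exponent_dvd_of_forall_pow_eq_one fun x => Subtype.ext (g.ea.2 x x.2)
    rw [h6] at h7
    exact absurd (h.big.trans_le (g.card.trans (Nat.le_of_dvd hp.out.pos h7))) (lt_irrefl _)
  have h2 : EE B t ≤ 𝐂(B) := H2.le_of_forall_centralizer_le g.ea.1 hc nE_B (h.cop g le_rfl g.E_le)
    fun y hy y1 => by rw [← H70.centralizer_zpowers]; exact h1 y hy y1
  exact h.ne_bot' (g.card.trans (Nat.le_mul_of_pos_right _ hp.out.pos)) (eq_bot_iff.2 fun d hd =>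
    h.faith g hd (h2.trans (centralizer_le (Set.singleton_subset_iff.2 hd))))

end H23M
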