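import Mathlib
import Cfsg.Agent.Lib.M75.KC
import Cfsg.Agent.Lib.KM.D

/-!
Klinger-Mason part D with odd cores.
-/

set_option autoImplicit false
set_option linter.unusedSectionVars false
set_option linter.unusedVariables false

namespace H23M

open Cfsg Subgroup H71KM
open scoped commutatorElement

variable {G : Type*} [Group G] [Finite G] {p N : ℕ} [hp : Fact p.Prime] {B : Subgroup G} {t : G}

theorem WH.step4 (h : WH p N G) (g : Good p N B t) : ∃ D ≤ B, N ≤ Nat.card D * p * p ∧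
    ∃ u ∈ EE B t ⊓ 𝐂(D), ∃ v ∈ EE B t ⊓ 𝐂(D), ∃ y ∈ EE B t ⊓ 𝐂(D), ∃ a ∈ EE B t ⊓ 𝐂(D),
      u * u = t ∧ y * y = 1 ∧ a * a = 1 ∧ u ∈ centralizer {y} ∧ a ∈ centralizer {y} ∧
      u * a * u⁻¹ = t * a ∧ v * y * v⁻¹ = t * y := by
  have ex : ∀ D ≤ B, N ≤ Nat.card D * p → ∃ D' ≤ B, (∃ a ∈ B, D' ⊔ zpowers a = B) ∧ ¬ EE B t ⊓ 𝐂(D') ≤ 𝐂(D) :=
    fun D hD hN => by
      by_contra! h1
      exact h.ne_bot' hN (eq_bot_iff.2 fun d hd => h.faith g (hD hd) ((H2.le_of_forall_cocyclic g.ea.1 nE_B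
        (h.cop g le_rfl g.E_le) h1).trans (centralizer_le (Set.singleton_subset_iff.2 hd))))
  obtain ⟨D1, hD1, c1, n1⟩ := ex B le_rfl (g.card.trans (Nat.le_mul_of_pos_right _ hp.out.pos))
  obtain ⟨D2, hD2, c2, n2⟩ := ex D1 hD1 (g.card.trans (card_le g.ea hD1 c1))
  obtain ⟨u1, hu1, v1, hv1, p1, q1, r1⟩ := h.exists_uv g hD1 n1
  obtain ⟨u2, hu2, v2, hv2, p2, q2, r2⟩ := h.exists_uv g hD2 fun e => n2 (e.trans (centralizer_le hD1))
  obtain ⟨d, hd, hd2⟩ := SetLike.not_le_iff_exists.1 fun e : D1 ≤ D2 => n2 (inf_le_right.trans (centralizer_le e))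
  have hdc : d ∈ 𝐂(D2) := centralizer_le hD2 (g.ea.le_cent (hD1 hd))
  have hB : D2 ⊔ zpowers d = B := eq_of_le_of_card_ge (sup_le hD2 (zpowers_le_of_mem (hD1 hd)))
    (card_sup hdc (g.ea.2 d (hD1 hd)) hd2 ▸ card_le g.ea hD2 c2)
  have n21 : D1 ≤ 𝐍(EE B t ⊓ 𝐂(D2)) := hD1.trans
    (H2.le_normalizer_inf nE_B (g.ea.le_cent.trans ((centralizer_le hD2).trans le_normalizer)))
  have cc : EE B t ⊓ 𝐂(D2) ≤ 𝐂(EE B t ⊓ 𝐂(D1)) := by
    rw [← H2.commutator_sup_centralizer n21 (h.cop g hD1 (inf_le_left.trans g.E_le))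
      (Or.inl (H2.isSolvable_of_isMulCommutative (g.ea.mono hD1).1))]
    refine sup_le (commutator_eq_bot_iff_le_centralizer.1 (commutator_commutator_eq_bot_of_rotate ?_
      (comm_bot ((commutator_mono inf_le_left inf_le_left).trans (h.EE_le g).1) (hD1.trans g.le))))
      fun x hx => zp_le_cent (inf_le_left.trans g.E_t) (h.CB_le g ⟨hx.1.1, hB ▸ mem_cent_sup hx.1.2 (mc_of_mem hx.2 hd)⟩)
    rw [commutator_eq_bot_iff_le_centralizer.2 (le_centralizer_iff.1 inf_le_right), commutator_bot_left]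
  have m1 : EE B t ⊓ 𝐂(D1) ≤ EE B t ⊓ 𝐂(D1 ⊓ D2) := inf_le_inf_left _ (centralizer_le inf_le_left)
  have m2 : EE B t ⊓ 𝐂(D2) ≤ EE B t ⊓ 𝐂(D1 ⊓ D2) := inf_le_inf_left _ (centralizer_le inf_le_right)
  have k : ∀ {x y : G}, x ∈ EE B t ⊓ 𝐂(D1) → y ∈ EE B t ⊓ 𝐂(D2) → x * y = y * x := fun hx hy => cc hy _ hx
  have sq : ∀ {x y : G}, x * y = y * x → x * x = t → y * y = t → x * y * (x * y) = 1 := fun {x y} e1 e2 e3 => by
    rw [mul_assoc, ← mul_assoc y, ← e1, mul_assoc x, e3, ← mul_assoc, e2, g.sq]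
  have f : ∀ {x y : G}, x * y = y * x → x * y * x⁻¹ = y := fun e => conj_of_mc (mc.2 e)
  refine ⟨_, inf_le_left.trans hD1, g.card.trans (card_le2 g.ea hD1 hD2 c1 c2), u1, m1 hu1, v1, m1 hv1, u1 * u2,
    mul_mem (m1 hu1) (m2 hu2), v1 * v2, mul_mem (m1 hv1) (m2 hv2), p1, sq (k hu1 hu2) p1 p2, sq (k hv1 hv2) q1 q2,
    mc.2 (by rw [mul_assoc, ← k hu1 hu2]), mc_of_conj ?_, ?_, ?_⟩
  · rw [cj_mul, ← conj_mul (b := v2), f (k hu1 hv2).symm, cj_of_comm r2, ← conj_mul, ← conj_mul, cj_of_comm r1,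
      f (k hv1 hu2), conj_of_mc (g.E_t hv1.1), ← mc.1 (g.E_t hu1.1), mul_assoc, ← mul_assoc t, g.sq, one_mul]
  · rw [← conj_mul, f (k hu1 hv2), cj_of_comm (s := t) (by
      rw [← commutatorElement_inv, r1, inv_eq_of_mul_eq_one_right g.sq]), mul_assoc]
  · rw [← conj_mul, f (k hv1 hu2), cj_of_comm r1, mul_assoc]

theorem WH.inf_le (h : WH p N G) (g : Good p N B t) {y v : G} (hy : y ∈ RT t) (y2 : y * y = 1)
    (hv : v ∈ EE B t) (e : v * y * v⁻¹ = t * y) (ht : t ∉ RT y) : RT t ⊓ RT y ≤ zpowers y := fun r hr => by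
  have dich : ∀ x ∈ EE B t, ∀ s ∈ RT t, x * s * x⁻¹ = s ∨ x * s * x⁻¹ = t * s := fun x hx s hs =>
    ((mem_zp g.sq).1 (h.ER_le g (commutator_mem_commutator hx hs))).imp
      (fun e => (cj_of_comm e).trans (one_mul s)) cj_of_comm
  have k1 : ∀ x ∈ EE B t, x * y * x⁻¹ = y → x * r * x⁻¹ = r := fun x hx e1 =>
    (dich x hx r hr.1).resolve_right fun e2 =>
      ht ((mul_mem_cancel_right (mem_inf.1 hr).2).1 (e2 ▸ cj_mem (nRT y (mc_of_conj e1)) hr.2))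
  have k2 : ∀ x ∈ EE B t, x * y * x⁻¹ = t * y → x * r * x⁻¹ = v * r * v⁻¹ := fun x hx e1 => by
    conv_rhs => rw [← k1 _ (mul_mem (inv_mem hv) hx) (by rw [cj_mul, e1, cj_rev e])]
    group
  have fin : ∀ s ∈ RT t ⊓ RT y, (∀ x ∈ EE B t, x * s * x⁻¹ = s) → s = 1 := fun s hs e1 => by
    by_contra s1
    obtain ⟨z, hz, -, z1, z2⟩ := exists_invol (X := RT t ⊓ RT y ⊓ 𝐂(B)) ((pRT t).to_le (inf_le_left.trans inf_le_left))
      fun e2 => s1 (mem_bot.1 (e2 ▸ ⟨hs, h.CE_le g ⟨hs.1, fun x hx => mc.1 (mc_of_conj (e1 x hx))⟩⟩))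
    exact ht (((mem_zp g.sq).1 (h.uniq g (RT_le t hz.1.1) hz.2 z2)).resolve_left z1 ▸ hz.1.2)
  rcases dich v hv r hr.1 with e1 | e1
  · exact fin r hr (fun x hx => (dich x hx y hy).elim (k1 x hx) fun e2 => (k2 x hx e2).trans e1) ▸ one_mem _
  · refine eq_inv_of_mul_eq_one_left (fin (r * y) (mul_mem hr ⟨hy, mem_RT y2⟩) fun x hx => ?_) ▸
      inv_mem (mem_zpowers y)
    rcases dich x hx y hy with e2 | e2
    · rw [← conj_mul, k1 x hx e2, e2]
    · rw [← conj_mul, k2 x hx e2, e1, e2, ← mc.1 (RT_le t hr.1), mul_assoc, ← mul_assoc t, g.sq, one_mul]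

theorem WH.step6 {y : G} (h : WH p N G) (g : Good p N B y) {D S : Subgroup G} (t2 : t * t = 1) (hD : D ≤ B)
    (hDt : D ≤ centralizer {t}) (hC : RT y ⊓ 𝐂(D) ≤ 𝐂(B)) (hS : S ≤ RT t) (hSy : S ≤ centralizer {y})
    (hSB : S ≤ 𝐍(B)) (ht : t ∈ ⁅S, S⁆) (hR : RT t ⊓ RT y ≤ zpowers y) {x : G} (hx : x ∈ B)
    (tx : t * x * t⁻¹ = x⁻¹) : x = 1 := by
  have hT : zpowers t ≤ S := zpowers_le_of_mem (commutator_le_self _ ht)
  have nS : S ≤ 𝐍(EE B y) := nE hSB hSy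
  have h3 : ∀ e ∈ EE B y, ⁅e, t⁆ ∈ zpowers y → e ∈ centralizer {t} := fun e he e1 => by
    have n : D ≤ 𝐍(EE B y ⊓ H2.relCentralizer (zpowers t) (zpowers y)) :=
      H2.le_normalizer_inf (hD.trans nE_B) (n_rel (hDt.trans (n_zp t)) (hD.trans g.le))
    have m : e ∈ EE B y ⊓ H2.relCentralizer (zpowers t) (zpowers y) := ⟨he, n_zp y (g.E_t he), fun z hz => by
      rcases (mem_zp t2).1 hz with rfl | rfl
      · rw [commutatorElement_one_right]; exact one_mem _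
      · exact e1⟩
    rw [← H2.commutator_sup_centralizer n (h.cop g hD (inf_le_left.trans g.E_le))
      (Or.inl (H2.isSolvable_of_isMulCommutative (g.ea.mono hD).1))] at m
    have k : EE B y ⊓ H2.relCentralizer (zpowers t) (zpowers y) ⊓ 𝐂(D) ≤ centralizer {t} := fun z hz =>
      zpowers_le_of_mem (mc_symm (hSy (hT (mem_zpowers t)))) (h.CB_le g ⟨hz.1.1, hC ⟨g.E_le hz.1.1, hz.2⟩⟩)
    refine sup_le ?_ k m
    rw [← H70.centralizer_zpowers]
    refine commutator_eq_bot_iff_le_centralizer.1 (commutator_commutator_eq_bot_of_rotate ?_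
      (comm_bot ((commutator_comm _ _).trans_le (H2.le_relCentralizer_iff.1 inf_le_right).2) (hD.trans g.le)))
    rw [commutator_comm D, comm_bot le_rfl hDt, commutator_bot_left]
  have h4 : ⁅EE B y ⊓ centralizer {t}, S⁆ ≤ zpowers y := (le_inf ((commutator_mono le_rfl hS).trans
    (le_normalizer_iff_commutator_le_right.1 (inf_le_right.trans (nRT t))))
    ((commutator_mono (inf_le_left.trans g.E_le) le_rfl).trans
      (H2.commutator_le_of_le_normalizer (hSy.trans (nRT y))))).trans hR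
  have h5 : ⁅⁅EE B y, S⁆, EE B y ⊓ centralizer {t}⁆ = ⊥ := commutator_commutator_eq_bot_of_rotate
    (comm_bot ((commutator_comm _ _).trans_le h4) g.E_t)
    (comm_bot ((commutator_mono inf_le_left le_rfl).trans (h.EE_le g).1) hSy)
  have h6 : ⁅zpowers t, EE B y⁆ ≤ EE B y ⊓ centralizer {t} := commutator_le.2 fun s hs e he => by
    have m : ⁅s, e⁆ ∈ EE B y :=
      le_normalizer_iff_commutator_le_right.1 nS (commutator_mem_commutator (hT hs) he)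
    rcases (mem_zp t2).1 hs with rfl | rfl
    · rw [commutatorElement_one_left]; exact one_mem _
    · refine ⟨m, h3 _ m ?_⟩
      have e1 : ⁅⁅s, e⁆, s⁆ = ⁅s, e⁆ * ⁅s, e⁆ := by
        calc ⁅⁅s, e⁆, s⁆ = ⁅s, e⁆ * (s * e * s * e⁻¹ * (s * s)⁻¹) := by
              simp only [commutatorElement_def]; group
          _ = _ := by
            rw [t2, commutatorElement_def, inv_eq_of_mul_eq_one_right t2, inv_one, mul_one]
      exact e1 ▸ h.sq_mem g m
  have hW := H2.commutator_le_of_le_normalizer nS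
  have h7 : ⁅⁅EE B y, S⁆, zpowers t⁆ ≤ zpowers y := (le_inf ((commutator_mono hW hT).trans hW)
    (commutator_eq_bot_iff_le_centralizer.1 (commutator_commutator_eq_bot_of_rotate
      (eq_bot_iff.2 ((commutator_mono h6 le_rfl).trans ((commutator_comm _ _).trans h5).le))
      (comm_bot ((commutator_mono le_rfl hW).trans (h.EE_le g).1) (hT.trans hSy))))).trans (h.Z_le g)
  have h8 : ⁅⁅EE B y, S⁆, S⁆ ≤ zpowers y := (commutator_mono (le_inf hW fun w hw =>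
    h3 w (hW hw) (h7 (commutator_mem_commutator hw (mem_zpowers t)))) le_rfl).trans h4
  have h9 : t ∈ H2.relCentralizer (EE B y) (zpowers y) := H2.le_relCentralizer_iff.2
    ⟨(commutator_le_self _).trans (hSy.trans (n_zp y)), H2.three_subgroups_le (hSy.trans (n_zp y))
      (hSy.trans (n_zp y)) (g.E_t.trans (n_zp y)) (by rwa [commutator_comm S]) h8⟩ ht
  have h10 : x * x ∈ H2.relCentralizer (EE B y) (zpowers y) := by
    have := mul_mem (cj_mem (n_rel nE_B g.le hx) h9) (inv_mem h9)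
    rwa [mul_assoc, mul_assoc, ← mul_assoc t, cj_inv tx, inv_inv] at this
  have h11 := H2.le_centralizer_of_commutator_le (A := zpowers (x * x)) (K := EE B y) (N := zpowers y)
    (h.cop g (zpowers_le_of_mem (mul_mem hx hx)) (zpowers_le_of_mem (mem_RT g.sq)))
    ((commutator_comm _ _).trans_le (H2.le_relCentralizer_iff.1 (zpowers_le_of_mem h10)).2)
    (by rw [H70.centralizer_zpowers]; exact zpowers_le_of_mem (g.le (mul_mem hx hx)))
  exact eq_of_sq_eq h.odd (g.ea.2 x hx) (one_pow p) ((h.faith g (mul_mem hx hx)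
    (H70.le_centralizer_singleton_iff.2 (h11 (mem_zpowers _)))).trans (one_mul 1).symm)

theorem WH.false (h : WH p N G) (big : p * p < N) (g : Good p N B t) : False := by
  obtain ⟨D, hD, hN, u, hu, v, hv, y, hy, a, ha, u2, y2, a2, uy, ay, ua, vy⟩ := h.step4 g
  have eD := g.ea.mono hD
  have tD : t ∈ 𝐂(D) := centralizer_le hD g.tC
  have ty := mc_symm (g.E_t hy.1)
  have oc := h.oc B t g D hD (by
    rintro rfl
    rw [card_bot, one_mul] at hN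
    exact absurd big (not_lt.2 hN))
  have p0 : IsPGroup 2 (RT t ⊓ centralizer {y} ⊓ 𝐂(D) : Subgroup G) := (pRT t).to_le (inf_le_left.trans inf_le_left)
  obtain ⟨R, hR, nR, -⟩ := exists_sy h.odd oc (K := RT t ⊓ centralizer {y} ⊓ 𝐂(D) ⊔ RT y ⊓ 𝐂(D)) (B := ⊥)
    (p0.to_sup_of_normal_right' ((pRT y).to_le inf_le_left) (H2.le_normalizer_inf
      (inf_le_left.trans (inf_le_right.trans (nRT y))) (inf_le_right.trans le_normalizer)))
    (sup_le inf_le_right inf_le_right) IsPGroup.of_bot bot_le bot_le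
  obtain ⟨R', hR', nR', -⟩ := exists_sy h.odd oc (K := RT t ⊓ 𝐂(D)) (B := ⊥) ((pRT t).to_le inf_le_left)
    inf_le_right IsPGroup.of_bot bot_le bot_le
  obtain ⟨c, hc, hcx⟩ := hR'.conj h.odd oc hR p0 inf_le_right ((inf_le_inf_right _ inf_le_left).trans nR')
    (le_sup_left.trans nR)
  have kt : t ∈ RT t ⊓ centralizer {y} ⊓ 𝐂(D) := ⟨⟨mem_RT g.sq, ty⟩, tD⟩
  have ky : y ∈ RT t ⊓ centralizer {y} ⊓ 𝐂(D) := ⟨⟨g.E_le hy.1, mc.2 rfl⟩, hy.2⟩
  have ka : a ∈ RT t ⊓ centralizer {y} ⊓ 𝐂(D) := ⟨⟨g.E_le ha.1, ay⟩, ha.2⟩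
  have ku : u ∈ RT t ⊓ centralizer {y} ⊓ 𝐂(D) := ⟨⟨g.E_le hu.1, uy⟩, hu.2⟩
  have nP : ∀ {s : G}, s ∈ RT t ⊓ centralizer {y} ⊓ 𝐂(D) → s ∈ 𝐍(R ⊓ centralizer {y}) := fun h1 =>
    n_inf (nR (mem_sup_left h1)) (le_normalizer h1.1.2)
  obtain ⟨M, hM, nM, m1, m2⟩ := exists_section (hR.1.to_le inf_le_left) (P := R ⊓ centralizer {y})
    (M := centralizer {t}) fun e => hR'.not_cent h.odd oc g.ne g.sq tD (four_conj h.odd hR'.1 g.ne g.sq y2
      (g.E_t hy.1) (g.E_t hv.1) vy (nR' ⟨mem_RT g.sq, tD⟩) (nR' ⟨g.E_le hy.1, hy.2⟩) (nR' ⟨g.E_le hv.1, hv.2⟩)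
      fun x hx => by
        have e0 : c * x * c⁻¹ ∈ centralizer ({y} : Set G) :=
          mul_mem (mul_mem (mc_of_mem hc ky) (mem_inf.1 hx).2) (inv_mem (mc_of_mem hc ky))
        have e1 := e (mem_inf.2 ⟨hcx x hx.1, e0⟩)
        have e2 := mul_mem (mul_mem (inv_mem (mc_of_mem hc kt)) e1) (mc_of_mem hc kt)
        rwa [show c⁻¹ * (c * x * c⁻¹) * c = x by group] at e2)
  have pM : IsPGroup p M := hR.1.to_le (hM.trans inf_le_left)
  obtain ⟨x, hx, x1, xp, tx⟩ := exists_inverted (P := M ⊓ centralizer {a}) (pM.to_le inf_le_left) g.sq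
    (n_inf (nM (nP kt)) (le_normalizer (mc_symm (g.E_t ha.1)))) fun e => m1 (four_conj h.odd pM g.ne g.sq a2
      (g.E_t ha.1) (g.E_t hu.1) ua (nM (nP kt)) (nM (nP ka)) (nM (nP ku)) e)
  have hx' : u * x * u⁻¹ ∈ M := cj_mem (nM (nP ku)) hx.1
  have xp' : (u * x * u⁻¹) ^ p = 1 := by rw [conj_pow, xp, mul_one, mul_inv_cancel]
  have ax : a * x * a⁻¹ = x := conj_of_mc (mc_symm hx.2)
  have ax' : a * (u * x * u⁻¹) * a⁻¹ = (u * x * u⁻¹)⁻¹ := by
    have e : a * u = u * (t * a) := by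
      rw [← mul_assoc, mc.1 (g.E_t hu.1), mul_assoc, mul_inv_eq_iff_eq_mul.1 ua, mul_assoc, ← mul_assoc, g.sq,
        one_mul]
    rw [← cj_mul, e, cj_mul, cj_mul, ax, tx, cj_inv rfl]
  have xD : ∀ {z : G}, z ∈ M → z ∈ 𝐂(D) := fun hz => hR.le (hM hz).1
  obtain ⟨e1, e2⟩ := two h.odd eD (xD hx.1) (xD hx') xp xp' x1 (cj_ne x1) (comm_of_fix h.odd hx.1 hx' xp'
    (fun z hz => mc_symm (comm_R h.odd hR.1 (g.E_le ha.1) (nR (mem_sup_left ka)) (hM (commutator_le_self _ hz)).1 (m2 hz))) ax ax') tD ha.2 tx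
    ax ax'
  have y1 : y ≠ 1 := fun e => g.ne (by simpa [e] using vy.symm)
  have g' : Good p N (D ⊔ zpowers x ⊔ zpowers (u * x * u⁻¹)) y := ⟨e1, y1, y2, sup_le (sup_le
    (H70.le_centralizer_singleton_iff.2 hy.2) (zpowers_le_of_mem (hM hx.1).2)) (zpowers_le_of_mem (hM hx').2),
    e2 ▸ hN⟩
  have b1 : x ∈ D ⊔ zpowers x ⊔ zpowers (u * x * u⁻¹) := mem_sup_left (mem_sup_right (mem_zpowers x))
  have b2 : u * x * u⁻¹ ∈ D ⊔ zpowers x ⊔ zpowers (u * x * u⁻¹) := mem_sup_right (mem_zpowers _)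
  have nB : ∀ {s : G} {K : Subgroup G}, K = D ⊔ zpowers x ⊔ zpowers (u * x * u⁻¹) → s ∈ 𝐂(D) →
      s * x * s⁻¹ ∈ K → s * (u * x * u⁻¹) * s⁻¹ ∈ K → s ∈ 𝐍(K) := fun {s K} e h1 h2 h3 =>
    mem_normalizer_fintype fun n hn => (e.trans_le (sup_le (sup_le (fun d hd => by
      rw [mem_comap, MulEquiv.coe_toMonoidHom, MulAut.conj_apply, conj_of_mc (mc_of_mem h1 hd), e]
      exact mem_sup_left (mem_sup_left hd)) (zpowers_le_of_mem h2)) (zpowers_le_of_mem h3)) :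
        K ≤ K.comap (MulAut.conj s).toMonoidHom) hn
  have tR : t ∉ RT y := fun e => by
    have := mul_mem (cj_mem (nRT y (hM hx.1).2) e) (inv_mem e)
    rw [mul_assoc, mul_assoc, ← mul_assoc t, cj_inv tx, inv_inv] at this
    exact x1 (eq_of_sq_eq h.odd xp (one_pow p) ((eq_one_of_mem h.odd pM (pRT y) (mul_mem hx.1 hx.1) this).trans
      (one_mul 1).symm))
  refine x1 (h.step6 g' (D := D) (S := zpowers u ⊔ zpowers a) g.sq (le_sup_left.trans le_sup_left) (hD.trans g.le)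
    (fun s hs => mem_cent_sup (mem_cent_sup hs.2 (comm_R h.odd hR.1 hs.1 (nR (mem_sup_right hs)) (hM hx.1).1 (hM hx.1).2))
      (comm_R h.odd hR.1 hs.1 (nR (mem_sup_right hs)) (hM hx').1 (hM hx').2))
    (sup_le (zpowers_le_of_mem (g.E_le hu.1)) (zpowers_le_of_mem (g.E_le ha.1)))
    (sup_le (zpowers_le_of_mem uy) (zpowers_le_of_mem ay))
    (sup_le (zpowers_le_of_mem (nB rfl hu.2 b2 (by rw [← cj_mul, u2, tx]; exact inv_mem b1)))
      (zpowers_le_of_mem (nB rfl ha.2 (ax.symm ▸ b1) (ax'.symm ▸ inv_mem b2)))) ?_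
    (h.inf_le g (g.E_le hy.1) y2 hv.1 vy tR) b1 tx)
  have := commutator_mem_commutator (mem_sup_left (mem_zpowers u) : u ∈ zpowers u ⊔ zpowers a)
    (mem_sup_right (mem_zpowers a) : a ∈ zpowers u ⊔ zpowers a)
  rwa [commutatorElement_def, ua, mul_inv_cancel_right] at this

end H23M
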