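import Mathlib
import Cfsg.Agent.Lib.M75.KD
import Cfsg.Agent.Lib.Loc45.TB

/-!
Elementary abelian 3-subgroups of involution centralizers.
-/

set_option autoImplicit false
set_option linter.unusedSectionVars false
set_option linter.unusedVariables false

namespace H23M

open Cfsg Subgroup H71KM
open scoped commutatorElement

variable {G : Type*} [Group G] [Finite G]

theorem R3.mono {D D' : Subgroup G} (h : R3 D) (hD : D' ≤ D) : R3 D' := by
  obtain ⟨E, h1, h2, h3⟩ := h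
  exact ⟨E, h1, h2, h3.trans (centralizer_le hD)⟩

theorem r3_of_le {D E : Subgroup G} (hE : EA 3 E) (h : 27 ≤ Nat.card E) (hD : E ≤ 𝐂(D)) : R3 D := by
  obtain ⟨H, hH⟩ := Sylow.exists_subgroup_card_pow_prime_of_le_card (n := 3) Nat.prime_three
    hE.isPGroup (by simpa using h)
  refine ⟨H.map E.subtype, hE.mono (map_subtype_le _), ?_, (map_subtype_le _).trans hD⟩
  rw [card_map_of_injective (subtype_injective _), hH]; rfl

theorem Hy0.h2 (h : Hy0 G) (t : G) (t1 : t ≠ 1) (t2 : t * t = 1) : H70.CharP 2 (centralizer {t}) := by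
  rw [← H70.centralizer_zpowers]
  exact (H70.charP_iff.2 (h.c2.2 _ (isPGroup_zp t2) (fun e => t1 (zpowers_eq_bot.1 e)))).of_normal
    (centralizer_le_normalizer _) (H70.normalizer_le_normalizer_centralizer _)

namespace ST

theorem card_cases {B : Subgroup G} (hB : EA 3 B) :
    Nat.card B ≤ 3 ∨ Nat.card B = 9 ∨ 27 ≤ Nat.card B := by
  obtain ⟨k, hk⟩ := hB.isPGroup.exists_card_eq
  rw [hk]
  rcases k with _ | _ | _ | k
  · simp
  · simp
  · simp
  · right; right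
    exact Nat.pow_le_pow_right (n := 3) (by norm_num) (show 3 ≤ k + 1 + 1 + 1 by omega)

theorem ea_zp3 {z : G} (hz : z ^ 3 = 1) : EA 3 (zpowers z) := by
  refine ⟨inferInstance, ?_⟩
  rintro _ ⟨k, rfl⟩
  show (z ^ k) ^ 3 = 1
  rw [← zpow_natCast, ← zpow_mul, mul_comm, zpow_mul, zpow_natCast, hz, one_zpow]

theorem r3_sup {B : Subgroup G} (hB : EA 3 B) (h9 : 9 ≤ Nat.card B) {x : G} (hx : x ∈ 𝐂(B))
    (x3 : x ^ 3 = 1) (hxB : x ∉ B) : R3 B := by
  have e := hB.sup hx x3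
  refine r3_of_le e ?_ (e.le_cent.trans (centralizer_le (SetLike.coe_subset_coe.2 le_sup_left)))
  rw [card_sup hx x3 hxB]; omega

end ST

theorem Hyp.star (h : Hyp G) {B : Subgroup G} {s : G} (g : Good 3 9 B s) : R3 B := by
  by_contra hn
  have hΩ : ∀ x ∈ 𝐂(B), x ^ 3 = 1 → x ∈ B := fun x hx x3 => by
    by_contra hxB
    exact hn (ST.r3_sup g.ea g.card hx x3 hxB)
  obtain ⟨P, hP⟩ := g.ea.isPGroup.exists_le_sylow
  have hP1 : (P : Subgroup G) ≠ ⊥ := by
    intro e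
    have := card_le_of_le hP
    rw [e, card_bot] at this
    have := g.card
    omega
  obtain ⟨z, hzP, hzC, hz3⟩ := H5.exists_mem_centralizer_orderOf_eq P.2 le_rfl le_normalizer hP1
  have z3 : z ^ 3 = 1 := hz3 ▸ pow_orderOf_eq_one z
  have z1 : z ≠ 1 := fun e => by rw [e, orderOf_one] at hz3; omega
  have hzB : z ∈ B := hΩ z (centralizer_le hP hzC) z3
  obtain ⟨W, eW, cW, hWP, -, -⟩ := h.nW P
  have hPz : (P : Subgroup G) ≤ 𝐂(zpowers z) := le_centralizer_iff.1 (zpowers_le.2 hzC)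
  have oc : OC 3 (zpowers z) :=
    h.oc _ (ST.ea_zp3 z3) (fun e => z1 (zpowers_eq_bot.1 e)) (r3_of_le eW cW (hWP.trans hPz))
  have hs : s ∈ 𝐂(zpowers z) := centralizer_le (zpowers_le.2 hzB) g.tC
  have hBz : B ≤ 𝐂(zpowers z) := hP.trans hPz
  have key := H45.TB.tb_odd (p := 3) (by norm_num) oc.1 (A := B.subgroupOf 𝐂(zpowers z))
    (Q := zpowers (⟨s, hs⟩ : 𝐂(zpowers z))) (g.ea.isPGroup.comap_subtype) ?_ ?_ ?_
  · have h1 : s ∈ th 3 (zpowers z) := ⟨⟨s, hs⟩, key (mem_zpowers _), rfl⟩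
    have h2 : orderOf s = 2 := orderOf_eq_prime (by rw [pow_two]; exact g.sq) g.ne
    have h3 := Subgroup.orderOf_dvd_natCard _ h1
    rw [h2] at h3
    exact (Nat.not_even_iff_odd.2 oc.2) (even_iff_two_dvd.2 h3)
  · intro x hx h3
    refine hΩ x (fun b hb => congrArg Subtype.val (hx ⟨b, hBz hb⟩ hb)) ?_
    exact congrArg Subtype.val (h3 ▸ pow_orderOf_eq_one x)
  · intro q hq hd
    rw [Nat.card_zpowers] at hd
    have h2 : orderOf (⟨s, hs⟩ : 𝐂(zpowers z)) ∣ 2 :=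
      orderOf_dvd_of_pow_eq_one (Subtype.ext (by rw [pow_two]; exact g.sq))
    have := (Nat.prime_dvd_prime_iff_eq hq Nat.prime_two).1 (hd.trans h2)
    rw [this]; simp
  · refine le_trans ?_ (centralizer_le_normalizer _)
    refine le_centralizer_iff.1 (zpowers_le.2 fun b hb => Subtype.ext ?_)
    exact g.tC b hb

theorem Hyp.wh (h : Hyp G) : WH 3 9 G := by
  refine ⟨by norm_num, h.toHy0.h2, ?_, by norm_num, fun B t g D hD D1 =>
    h.oc D (g.ea.mono hD) D1 ((h.star g).mono hD)⟩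
  intro t t1 t2 B eB hB
  by_contra hn
  obtain ⟨B0, ⟨e0, t0, s1, s2, h0⟩, hmax⟩ := Set.exists_max_image
    {B : Subgroup G | EA 3 B ∧ ∃ t : G, t ≠ 1 ∧ t * t = 1 ∧ B ≤ centralizer {t}} (fun B => Nat.card B)
    (Set.toFinite _) ⟨B, eB, t, t1, t2, hB⟩
  have h1 : Nat.card B ≤ Nat.card B0 := hmax B ⟨eB, t, t1, t2, hB⟩
  have h27 : 27 ≤ Nat.card B0 := by
    rcases ST.card_cases e0 with h2 | h2 | h2 <;> omega
  have w : WH 3 (Nat.card B0) G := ⟨by norm_num, h.toHy0.h2,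
    fun t t1 t2 B eB hB => hmax B ⟨eB, t, t1, t2, hB⟩, by omega, fun B t g D hD D1 =>
      h.oc D (g.ea.mono hD) D1 (r3_of_le g.ea (h27.trans g.card)
        (g.ea.le_cent.trans (centralizer_le hD)))⟩
  exact w.false (by omega) ⟨e0, s1, s2, h0, le_rfl⟩

theorem Hyp.no27 (h : Hyp G) (E T : Subgroup G) (hE : EA 3 E) (h27 : 27 ≤ Nat.card E) (hT : IsPGroup 2 T)
    (hET : E ≤ 𝐍(T)) : T = ⊥ := by
  by_contra hT1
  obtain ⟨B', t, g⟩ := step0 (p := 3) (N := 27) (by norm_num) (by norm_num) hE h27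
    (fun D hD D1 => h.oc D (hE.mono hD) D1 (r3_of_le hE h27 (hE.le_cent.trans (centralizer_le hD))))
    hT hT1 hET
  have := h.wh.max t g.ne g.sq B' g.ea g.le
  have := g.card
  omega

theorem Hyp.no94 (h : Hyp G) (E : Subgroup G) (a b : G) (hE : EA 3 E) (h9 : 9 ≤ Nat.card E) (ha : a ∈ 𝐂(E))
    (hb : b ∈ 𝐂(E)) (a2 : a * a = 1) (b2 : b * b = 1) (hab : a * b = b * a) : a = 1 ∨ b = 1 ∨ a = b := by
  by_cases a1 : a = 1
  · exact Or.inl a1
  right
  have g : Good 3 9 E a := ⟨hE, a1, a2, fun x hx => mc.2 (ha x hx), h9⟩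
  rcases (mem_zp a2).1 (h.wh.uniq g (mc.2 hab.symm) hb b2) with e | e
  · exact Or.inl e
  · exact Or.inr e.symm

end H23M
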