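import Mathlib
import Cfsg.Agent.Lib.M75.ST

/-!
No `Z₃ × E₈`, a nonabelian Sylow 3-subgroup, and the good pair data.
-/

set_option autoImplicit false
set_option linter.unusedSectionVars false
set_option linter.unusedVariables false

namespace H23M

open Cfsg Subgroup H71KM
open scoped commutatorElement

variable {G : Type*} [Group G] [Finite G]

namespace PR

theorem two_elts {V : Subgroup G} (h : 3 ≤ Nat.card V) :
    ∃ b ∈ V, ∃ c ∈ V, b ≠ 1 ∧ c ≠ 1 ∧ b ≠ c := by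
  haveI := Fintype.ofFinite V
  obtain ⟨x, y, z, hxy, hxz, hyz⟩ := Fintype.two_lt_card_iff.1
    (show 2 < Fintype.card V by rw [← Nat.card_eq_fintype_card]; omega)
  have ne : ∀ {a b : V}, a ≠ b → (a : G) ≠ b := fun h e => h (Subtype.ext e)
  by_cases x1 : (x : G) = 1
  · exact ⟨y, y.2, z, z.2, x1 ▸ (ne hxy).symm, x1 ▸ (ne hxz).symm, ne hyz⟩
  by_cases y1 : (y : G) = 1
  · exact ⟨x, x.2, z, z.2, x1, y1 ▸ (ne hyz).symm, ne hxz⟩
  · exact ⟨x, x.2, y, y.2, x1, y1, ne hxy⟩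

end PR

theorem Hyp.no38 (h : Hyp G) (d : G) (V : Subgroup G) (d3 : d ^ 3 = 1) (d1 : d ≠ 1) (h3 : R3 (zpowers d))
    (hV : EA 2 V) (hVd : V ≤ centralizer {d}) : Nat.card V ≤ 4 := by
  by_contra hn
  have eD := ST.ea_zp3 d3
  have oc : OC 3 (zpowers d) := h.oc _ eD (fun e => d1 (zpowers_eq_bot.1 e)) h3
  have hVD : V ≤ 𝐂(zpowers d) := by rw [H70.centralizer_zpowers]; exact hVd
  have sq : ∀ a ∈ V, a * a = 1 := fun a ha => by rw [← pow_two]; exact hV.2 a ha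
  have cD : Nat.card (zpowers d) = 3 := by
    rw [Nat.card_zpowers]; exact orderOf_eq_prime d3 d1
  obtain ⟨R, hR, hVR, -⟩ := exists_sy (p := 3) (by norm_num) oc hV.isPGroup hVD (B := ⊥)
    IsPGroup.of_bot bot_le bot_le
  have hRV : R ≤ 𝐂(V) := by
    refine H2.le_of_forall_cocyclic hV.1 hVR (cop (p := 2) (q := 3) (by norm_num) hV.isPGroup hR.1) ?_
    rintro V0 hV0 ⟨a, ha, hsup⟩
    have hle : R ⊓ 𝐂(V0) ≤ centralizer {a} := by
      by_contra hc
      have haV0 : a ∈ 𝐂(V0) := centralizer_le hV0 (hV.le_cent ha)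
      obtain ⟨x, hx, x1, x3, hinv⟩ := exists_inverted (hR.1.to_le inf_le_left) (sq a ha)
        (n_inf (hVR ha) (le_normalizer haV0)) hc
      have hxD : x ∉ zpowers d := not_mem_of_inverted (p := 3) (by norm_num) (hVD ha) x3 x1 hinv
      have hxC : x ∈ 𝐂(zpowers d) := hR.le hx.1
      have cE := card_sup hxC x3 hxD
      have c0 := card_le hV hV0 ⟨a, ha, hsup⟩
      obtain ⟨b, hb, c, hc', b1, c1, bc⟩ := PR.two_elts (V := V0) (by omega)
      have cen : ∀ b ∈ V0, b ∈ 𝐂(zpowers d ⊔ zpowers x) := fun b hb =>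
        mem_cent_sup (hVD (hV0 hb)) (mc.2 (hx.2 b hb))
      rcases h.no94 _ b c (eD.sup hxC x3) (by rw [cE, cD]) (cen b hb) (cen c hc') (sq b (hV0 hb))
        (sq c (hV0 hc')) (hV.le_cent (hV0 hc') b (hV0 hb)) with e | e | e
      · exact b1 e
      · exact c1 e
      · exact bc e
    intro x hx
    rw [← hsup]
    exact mem_cent_sup hx.2 (hle hx)
  obtain ⟨b, hb, -, -, b1, -, -⟩ := PR.two_elts (V := V) (by omega)
  exact hR.not_cent (by norm_num) oc b1 (sq b hb) (hVD hb) (fun x hx => mc_of_mem (hRV hx) hb)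

theorem Hyp.d81 (h : Hyp G) {B : Subgroup G} {t : G} (g : Good 3 9 B t) : 81 ∣ Nat.card G := by
  obtain ⟨y, hy, y1, hK⟩ := h.wh.exists_y g
  have hyB : zpowers y ≤ B := zpowers_le.2 hy
  have oc : OC 3 (zpowers y) := h.wh.oc B t g _ hyB (fun e => y1 (zpowers_eq_bot.1 e))
  have hBD : B ≤ 𝐂(zpowers y) := g.ea.le_cent.trans (centralizer_le hyB)
  have nK : B ≤ 𝐍(EE B t ⊓ 𝐂(zpowers y)) := H2.le_normalizer_inf nE_B (hBD.trans le_normalizer)
  have pK : IsPGroup 2 (EE B t ⊓ 𝐂(zpowers y) : Subgroup G) :=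
    (pRT t).to_le (inf_le_left.trans g.E_le)
  obtain ⟨R, hR, hKR, hBR⟩ := exists_sy (p := 3) (by norm_num) oc pK inf_le_right g.ea.isPGroup hBD nK
  have hRB : IsPGroup 3 (R ⊔ B : Subgroup G) := hR.1.to_sup_of_normal_left' g.ea.isPGroup hBR
  obtain ⟨P, hP⟩ := hRB.exists_le_sylow
  obtain ⟨W, eW, cW, hWP, -, -⟩ := h.nW P
  obtain ⟨k, hk⟩ := P.2.exists_card_eq
  have hle := card_le_of_le hWP
  have hk4 : 4 ≤ k := by
    by_contra hc
    have h27 : 3 ^ k ≤ 3 ^ 3 := Nat.pow_le_pow_right (by norm_num) (by omega)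
    have hWe : W = P := eq_of_le_of_card_ge hWP (by omega)
    have hPc : (P : Subgroup G) ≤ 𝐂((P : Subgroup G)) := hWe ▸ eW.le_cent
    have hBC : B ≤ 𝐂(R) := (le_sup_right.trans hP).trans
      (hPc.trans (centralizer_le (SetLike.coe_subset_coe.2 (le_sup_left.trans hP))))
    have h1 : ⁅EE B t ⊓ 𝐂(zpowers y), B⁆ ≤ EE B t ⊓ 𝐂(zpowers y) :=
      H2.commutator_le_of_le_normalizer nK
    have h2 : ⁅EE B t ⊓ 𝐂(zpowers y), B⁆ ≤ 𝐂(R) := by
      rw [commutator_le]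
      intro a ha b hb
      rw [commutatorElement_def, mul_assoc]
      rw [← mul_assoc]
      exact mul_mem (cj_mem (H70.normalizer_le_normalizer_centralizer R (hKR ha)) (hBC hb))
        (inv_mem (hBC hb))
    have h3 : ⁅EE B t ⊓ 𝐂(zpowers y), B⁆ ≠ ⊥ := fun e =>
      hK (commutator_eq_bot_iff_le_centralizer.1 e)
    obtain ⟨a, ha, -, a1, a2⟩ := exists_invol (pK.to_le h1) h3
    exact hR.not_cent (by norm_num) oc a1 a2 (h1 ha).2 (fun x hx => mc.2 (h2 ha x hx))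
  calc 81 = 3 ^ 4 := by norm_num
    _ ∣ 3 ^ k := pow_dvd_pow 3 hk4
    _ ∣ Nat.card G := hk ▸ card_subgroup_dvd_card _

theorem Hyp.pr (h : Hyp G) {B : Subgroup G} {t : G} (g : Good 3 9 B t) : Pr B t :=
  { toHyp := h
    good := g
    card := le_antisymm (h.wh.max t g.ne g.sq B g.ea g.le) g.card
    wh := h.wh
    star := fun _ _ g' => h.star g'
    no27 := h.no27
    no94 := h.no94
    no38 := h.no38
    d81 := h.d81 g }

end H23M
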