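import Mathlib
import Cfsg.Agent.Lib.M75.KC
import Cfsg.Agent.Lib.TwoGrp.Sympl

/-!
`F*(C(t))` is of symplectic type.
-/

set_option autoImplicit false
set_option linter.unusedSectionVars false
set_option linter.unusedVariables false

namespace H23M

open Cfsg Subgroup H71KM
open scoped commutatorElement

variable {G : Type*} [Group G] [Finite G] {B : Subgroup G} {t : G}

theorem fs_eq (h : H70.CharP 2 (centralizer {t})) : FS t = pCore 2 ↥(centralizer ({t} : Set G)) :=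
  H23.fStar_eq_pCore_iff.2 (H70.charP_iff.1 h)

theorem card_RT (h : H70.CharP 2 (centralizer {t})) : Nat.card (RT t) = Nat.card (FS t) := by
  rw [fs_eq h]
  exact card_map_of_injective (centralizer ({t} : Set G)).subtype_injective

theorem WH.symp (h : WH 3 9 G) (g : Good 3 9 B t) : IsOfSymplecticType (FS t) := by
  rw [fs_eq (h.h2 t g.ne g.sq)]
  refine ⟨H1.isPGroup_pCore, fun A hA hc => ?_⟩
  have hV : (A.map (pCore 2 _).subtype).map (centralizer ({t} : Set G)).subtype ≤ RT t :=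
    map_mono (map_subtype_le _)
  have hn : B ≤ 𝐍((A.map (pCore 2 _).subtype).map (centralizer ({t} : Set G)).subtype) := by
    refine g.le.trans (le_trans ?_ (H70.map_normalizer_le _ (A := ⊤) (normalizer_eq_top _).ge))
    rw [← MonoidHom.range_eq_map, range_subtype]
  have h1 := h.s2 g hV (comm_iff.1 inferInstance) hn
  have h2 : ∀ x : A, x * x = 1 → x ≠ 1 → (x.1.1.1 : G) = t := fun x h2 h3 =>
    ((mem_zp g.sq).1 (h.uniq g x.1.1.2 (h1 ⟨_, ⟨_, x.2, rfl⟩, rfl⟩)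
      (congrArg (fun y : A => (y.1.1.1 : G)) h2))).resolve_left fun e =>
        h3 (Subtype.ext (Subtype.ext (Subtype.ext e)))
  exact H13.TG.UI.isCyclic_of_comm (fun x y hx hy x1 y1 => Subtype.ext (Subtype.ext (Subtype.ext
    ((h2 x hx x1).trans (h2 y hy y1).symm)))) (H1.isPGroup_pCore.to_subgroup A) hc

theorem es_facts (h : H70.CharP 2 (centralizer {t})) (t1 : t ≠ 1) (t2 : t * t = 1)
    (es : IsExtraspecial 2 (FS t)) :
    RT t ⊓ 𝐂(RT t) ≤ zpowers t ∧ (∀ q ∈ RT t, q * q ∈ zpowers t) ∧ ⁅RT t, RT t⁆ ≤ zpowers t := by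
  rw [fs_eq h] at es
  obtain ⟨⟨hp, hf, hc⟩, h2⟩ := es
  let t0 : pCore 2 ↥(centralizer ({t} : Set G)) := ⟨⟨t, mc.2 rfl⟩, H70.mem_pCoreOf.1 (mem_RT t2)⟩
  have e : zpowers t0 = center _ := eq_of_le_of_card_ge
    (zpowers_le.2 (mem_center_iff.2 fun x => Subtype.ext (Subtype.ext (mc.1 x.1.2)))) (by
      rw [h2, Nat.card_zpowers, orderOf_eq_prime (p := 2)
        (by rw [pow_two]; exact Subtype.ext (Subtype.ext t2))
        fun e => t1 (congrArg (fun y : pCore 2 ↥(centralizer ({t} : Set G)) => (y.1.1 : G)) e)])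
  have k : ∀ x ∈ center (pCore 2 ↥(centralizer ({t} : Set G))), (x.1.1 : G) ∈ zpowers t := by
    rw [← e]
    rintro _ ⟨n, rfl⟩
    exact ⟨n, rfl⟩
  refine ⟨?_, ?_, commutator_le.2 ?_⟩
  · rintro _ ⟨⟨q, hq, rfl⟩, hq'⟩
    exact k ⟨q, hq⟩ (mem_center_iff.2 fun x => Subtype.ext (Subtype.ext (hq' _ ⟨_, x.2, rfl⟩)))
  · rintro _ ⟨q, hq, rfl⟩
    have := k _ (hf ▸ H5.pow_mem_frattini hp ⟨q, hq⟩)
    rwa [pow_two] at this
  · rintro _ ⟨q, hq, rfl⟩ _ ⟨r, hr, rfl⟩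
    exact k _ (hc.le (commutator_mem_commutator (mem_top ⟨q, hq⟩) (mem_top ⟨r, hr⟩)))

end H23M
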