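import Mathlib
import Cfsg.Agent.Lib.M75.KC

/-!
Fixed points of elements of `B` on `O₂(C(t))`.
-/

set_option autoImplicit false
set_option linter.unusedSectionVars false
set_option linter.unusedVariables false

namespace H23M

open Cfsg Subgroup H71KM
open scoped commutatorElement

variable {G : Type*} [Group G] [Finite G] {B : Subgroup G} {t : G}

namespace Q3

theorem zp_comm {s x : G} (hs : s ∈ zpowers t) (hx : x ∈ centralizer ({t} : Set G)) : s * x = x * s :=
  (zp_le_cent (H := zpowers x) (zpowers_le.2 hx) hs x (mem_zpowers x)).symm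

theorem z0_cent (g : Good 3 9 B t) (hc : ⁅RT t, RT t⁆ ≤ zpowers t) {i : G} (hi : i ∈ RT t)
    (hiB : i ∈ 𝐂(B)) : EE B t ≤ centralizer {i} := by
  rw [commutator_le]
  intro q hq b hb
  have hs : ⁅i, q⁆ ∈ zpowers t := hc (commutator_mem_commutator hi hq)
  have e1 : b * i = i * b := hiB b hb
  have e2 : ⁅i, q⁆ * ⁅q, b⁆ = ⁅q, b⁆ * ⁅i, q⁆ :=
    zp_comm hs (g.E_t (commutator_mem_commutator hq hb))
  have e3 : ⁅i, q⁆ * b = b * ⁅i, q⁆ := zp_comm hs (g.le hb)
  refine mc_symm (mc_of_conj ?_)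
  have e4 : i * b * i⁻¹ = b := by rw [← e1]; group
  have e5 : b * ⁅i, q⁆⁻¹ * b⁻¹ = ⁅i, q⁆⁻¹ := by
    rw [mul_inv_eq_iff_eq_mul, eq_inv_mul_iff_mul_eq, ← mul_assoc, e3]; group
  calc i * ⁅q, b⁆ * i⁻¹
      = ⁅i, q⁆ * q * (i * b * i⁻¹) * q⁻¹ * ⁅i, q⁆⁻¹ * (i * b * i⁻¹)⁻¹ := by
        simp only [commutatorElement_def]; group
    _ = ⁅i, q⁆ * ⁅q, b⁆ * (b * ⁅i, q⁆⁻¹ * b⁻¹) := by
        rw [e4, commutatorElement_def q b]; group
    _ = ⁅q, b⁆ := by rw [e5, e2]; group

end Q3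

theorem Pr.CB (h : Pr B t) (hz : RT t ⊓ 𝐂(RT t) ≤ zpowers t) (hs : ∀ q ∈ RT t, q * q ∈ zpowers t)
    (hc : ⁅RT t, RT t⁆ ≤ zpowers t) : RT t ⊓ 𝐂(B) ≤ zpowers t := by
  have g := h.good
  intro i hi
  by_contra hit
  have sq : ∀ j ∈ RT t ⊓ 𝐂(B), j ∉ zpowers t → j * j = t := fun j hj hn =>
    ((mem_zp g.sq).1 (hs j hj.1)).resolve_left fun e => hn (h.wh.uniq g (RT_le t hj.1) hj.2 e)
  have hsup := H2.commutator_sup_centralizer g.nR (h.wh.cop g le_rfl le_rfl)
    (Or.inl (H2.isSolvable_of_isMulCommutative g.ea.1))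
  obtain ⟨j, hj, hji⟩ : ∃ j ∈ RT t ⊓ 𝐂(B), j ∉ centralizer ({i} : Set G) := by
    by_contra! hn
    have : RT t ≤ centralizer {i} := hsup ▸ sup_le (Q3.z0_cent g hc hi.1 hi.2) hn
    exact hit (hz ⟨hi.1, fun x hx => mc.1 (this hx)⟩)
  have hjt : j ∉ zpowers t := fun e => hji (mc.2 (Q3.zp_comm e (RT_le t hi.1)))
  have cij : ⁅i, j⁆ = t := ((mem_zp g.sq).1 (hc (commutator_mem_commutator hi.1 hj.1))).resolve_left
    fun e => hji (mc.2 (commutatorElement_eq_one_iff_mul_comm.1 e).symm)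
  have i2 := sq i hi hit
  have j2 := sq j hj hjt
  obtain ⟨y, hy, y1, hK⟩ := h.wh.exists_y g
  obtain ⟨u, hu, v, hv, u2, v2, cvu⟩ := h.wh.exists_uv g (zpowers_le.2 hy) hK
  have ui : u * i = i * u := mc.1 (Q3.z0_cent g hc hi.1 hi.2 hu.1)
  have vi : v * i = i * v := mc.1 (Q3.z0_cent g hc hi.1 hi.2 hv.1)
  have uj : u * j = j * u := mc.1 (Q3.z0_cent g hc hj.1 hj.2 hu.1)
  have vj : v * j = j * v := mc.1 (Q3.z0_cent g hc hj.1 hj.2 hv.1)
  have ut : u * t = t * u := mc.1 (g.E_t hu.1)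
  have vt : v * t = t * v := mc.1 (g.E_t hv.1)
  have it : i * t = t * i := mc.1 (RT_le t hi.1)
  have jt : j * t = t * j := mc.1 (RT_le t hj.1)
  have vu : v * u = t * (u * v) := by rw [← cvu, commutatorElement_def]; group
  have ij : i * j = t * (j * i) := by rw [← cij, commutatorElement_def]; group
  have a2 : u * i * (u * i) = 1 := by
    calc u * i * (u * i) = u * (i * u) * i := by group
      _ = (u * u) * (i * i) := by rw [← ui]; group
      _ = 1 := by rw [u2, i2, g.sq]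
  have b2 : v * j * (v * j) = 1 := by
    calc v * j * (v * j) = v * (j * v) * j := by group
      _ = (v * v) * (j * j) := by rw [← vj]; group
      _ = 1 := by rw [v2, j2, g.sq]
  have ab : u * i * (v * j) = v * j * (u * i) := by
    calc u * i * (v * j) = u * (i * v) * j := by group
      _ = u * v * (i * j) := by rw [← vi]; group
      _ = u * (v * t) * (j * i) := by rw [ij]; group
      _ = (u * t) * v * (j * i) := by rw [vt]; group
      _ = t * (u * v) * (j * i) := by rw [ut]; group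
      _ = v * (u * j) * i := by rw [← vu]; group
      _ = v * j * (u * i) := by rw [uj]; group
  have czp : ∀ {x s : G}, x * s = s * x → x ∈ 𝐂(zpowers s) := fun {x s} e => by
    rw [H70.centralizer_zpowers]; exact mc.2 e
  have at' : u * i * t = t * (u * i) := by rw [mul_assoc, it, ← mul_assoc, ut, mul_assoc]
  have bt : v * j * t = t * (v * j) := by rw [mul_assoc, jt, ← mul_assoc, vt, mul_assoc]
  have ha : u * i ∈ 𝐂(zpowers t) := czp at'
  have hb : v * j ∈ 𝐂(zpowers t ⊔ zpowers (u * i)) := mem_cent_sup (czp bt) (mc.2 ab.symm)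
  have na : u * i ∉ zpowers t := by
    intro e
    have e1 := Q3.zp_comm e (g.E_t hv.1)
    have e2 : t * (u * v) * i = u * v * i := by
      rw [← vu, mul_assoc v u i, ← e1, mul_assoc, mul_assoc, vi]
    exact g.ne (mul_right_cancel (b := u * v) (by rw [one_mul]; exact mul_right_cancel e2))
  have nb : v * j ∉ zpowers t ⊔ zpowers (u * i) := by
    intro e
    have hu' : u ∈ 𝐂(zpowers t ⊔ zpowers (u * i)) :=
      mem_cent_sup (czp ut) (mc.2 (by rw [mul_assoc u i u, ← ui]))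
    have e1 : v * j * u = u * (v * j) := hu' _ e
    have e2 : t * (u * v) * j = u * v * j := by
      rw [← vu, mul_assoc v u j, uj, ← mul_assoc, e1, mul_assoc]
    exact g.ne (mul_right_cancel (b := u * v) (by rw [one_mul]; exact mul_right_cancel e2))
  have p2 : ∀ {x : G}, x * x = 1 → x ^ 2 = 1 := fun e => by rw [pow_two]; exact e
  have e1 := (ea_zp g.sq).sup ha (p2 a2)
  have e2 := e1.sup hb (p2 b2)
  have c1 : Nat.card (zpowers t) = 2 := by
    rw [Nat.card_zpowers]; exact orderOf_eq_prime (p2 g.sq) g.ne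
  have c2 := card_sup (p := 2) ha (p2 a2) na
  have c3 := card_sup (p := 2) hb (p2 b2) nb
  have r3 : R3 (zpowers y) := by
    obtain ⟨E, q1, q2, q3⟩ := h.star B t g
    exact ⟨E, q1, q2, q3.trans (centralizer_le (zpowers_le.2 hy))⟩
  have := h.no38 y _ (g.ea.2 y hy) y1 r3 e2
    (sup_le (sup_le (zpowers_le.2 (mc_symm (g.le hy))) (zpowers_le.2
      (mul_mem (mc_of_mem hu.2 (mem_zpowers y)) (mc_of_mem hi.2 hy)))) (zpowers_le.2
      (mul_mem (mc_of_mem hv.2 (mem_zpowers y)) (mc_of_mem hj.2 hy))))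
  omega

theorem Pr.one (h : Pr B t) (hc : ⁅RT t, RT t⁆ ≤ zpowers t) (hB : RT t ⊓ 𝐂(B) ≤ zpowers t) :
    ∀ y ∈ B, y ≠ 1 → ∀ a ∈ RT t, a ∈ centralizer {y} → a * a = 1 → a = 1 ∨ a = t := by
  have g := h.good
  intro y hy y1 a ha hay a2
  have hay' : a ∈ 𝐂(zpowers y) := by rw [H70.centralizer_zpowers]; exact hay
  have h1 : ∀ β ∈ B, ⁅β * a * β⁻¹, a⁆ = 1 := by
    intro β hβ
    rw [commutatorElement_eq_one_iff_mul_comm]
    by_cases hβy : β ∈ zpowers y
    · rw [hay' β hβy, mul_inv_cancel_right]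
    have β3 : β ^ 3 = 1 := g.ea.2 β hβ
    have βy : β ∈ 𝐂(zpowers y) := centralizer_le (zpowers_le.2 hy) (g.ea.le_cent hβ)
    have hsup : zpowers y ⊔ zpowers β = B := by
      refine eq_of_le_of_card_ge (sup_le (zpowers_le.2 hy) (zpowers_le.2 hβ)) ?_
      rw [card_sup βy β3 hβy, h.card, Nat.card_zpowers, orderOf_eq_prime (g.ea.2 y hy) y1]
    have a1 := cj_mem (g.nR hβ) ha
    have a2' := cj_mem (g.nR hβ) a1
    set n := a * (β * a * β⁻¹) * (β * (β * a * β⁻¹) * β⁻¹) with hn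
    have nR : n ∈ RT t := mul_mem (mul_mem ha a1) a2'
    have β3' : β * β * β = 1 := by rw [← β3, pow_three, mul_assoc]
    have e1 : β * n * β⁻¹ = ⁅a⁻¹, n⁆ * n := by
      calc β * n * β⁻¹ = a⁻¹ * n * ((β * β * β) * a * (β * β * β)⁻¹) := by rw [hn]; group
        _ = ⁅a⁻¹, n⁆ * n := by rw [β3', commutatorElement_def]; group
    have e2 : β * n * β⁻¹ = n := by
      rcases (mem_zp g.sq).1 (hc (commutator_mem_commutator (inv_mem ha) nR)) with e | e
      · rw [e1, e, one_mul]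
      · exfalso
        rw [e] at e1
        have bt : β * t * β⁻¹ = t := conj_of_mc (g.le hβ)
        have e3 : β * (β * n * β⁻¹) * β⁻¹ = n := by
          calc β * (β * n * β⁻¹) * β⁻¹ = (β * t * β⁻¹) * (β * n * β⁻¹) := by
                conv_lhs => rw [e1]
                group
            _ = n := by rw [bt, e1, ← mul_assoc, g.sq, one_mul]
        have e4 : β * n * β⁻¹ = n := by
          calc β * n * β⁻¹ = (β * β * β) * n * (β * β * β)⁻¹ := by
                conv_lhs => rw [← e3]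
                group
            _ = n := by rw [β3']; group
        rw [e4] at e1
        exact g.ne (mul_right_cancel (b := n) (by rw [one_mul]; exact e1.symm))
    have ny : n ∈ 𝐂(zpowers y) :=
      mul_mem (mul_mem hay' (mul_mem (mul_mem βy hay') (inv_mem βy)))
        (mul_mem (mul_mem βy (mul_mem (mul_mem βy hay') (inv_mem βy))) (inv_mem βy))
    have nB : n ∈ 𝐂(B) := hsup ▸ mem_cent_sup ny (mc_symm (mc_of_conj e2))
    have nt := hB ⟨nR, nB⟩
    have s1 : β * a * β⁻¹ * (β * a * β⁻¹) = 1 := cj_sq a2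
    have s2 : β * (β * a * β⁻¹) * β⁻¹ * (β * (β * a * β⁻¹) * β⁻¹) = 1 := cj_sq s1
    have e5 : a * (β * a * β⁻¹) = n * (β * (β * a * β⁻¹) * β⁻¹) := by
      rw [hn, mul_assoc (a * (β * a * β⁻¹)), s2, mul_one]
    have e6 : a * (β * a * β⁻¹) * (a * (β * a * β⁻¹)) = 1 := by
      have c := Q3.zp_comm nt (RT_le t a2')
      rw [e5]
      generalize β * (β * a * β⁻¹) * β⁻¹ = w at c s2
      calc n * w * (n * w) = n * (w * n) * w := by group
        _ = (n * n) * (w * w) := by rw [← c]; group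
        _ = 1 := by rw [sq_of_zp g.sq nt, s2, mul_one]
    rw [← inv_eq_of_mul_eq_one_right e6, mul_inv_rev, inv_eq_of_mul_eq_one_right a2,
      inv_eq_of_mul_eq_one_right s1]
  refine (mem_zp g.sq).1 (hB ⟨ha, h.wh.s2 g (V := closure {x | ∃ β ∈ B, x = β * a * β⁻¹})
      ((closure_le _).2 ?_) ((closure_le _).2 ?_) (le_normalizer_closure_iff.2 ?_)
      (subset_closure ⟨1, one_mem _, by group⟩)⟩)
  · rintro _ ⟨β, hβ, rfl⟩
    exact cj_mem (g.nR hβ) ha
  · rintro _ ⟨β, hβ, rfl⟩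
    rw [SetLike.mem_coe, centralizer_closure]
    rintro _ ⟨γ, hγ, rfl⟩
    refine commutatorElement_eq_one_iff_mul_comm.1 ?_
    have := congrArg (fun z => β * z * β⁻¹) (h1 _ (mul_mem (inv_mem hβ) hγ))
    simp only [conjugate_commutatorElement, mul_one, mul_inv_cancel] at this
    rwa [show β * (β⁻¹ * γ * a * (β⁻¹ * γ)⁻¹) * β⁻¹ = γ * a * γ⁻¹ by group] at this
  · rintro b hb _ ⟨β, hβ, rfl⟩
    exact subset_closure ⟨b * β, mul_mem hb hβ, by group⟩

end H23M
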