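import Mathlib
import Cfsg.Agent.Lib.M75.KC
import Cfsg.Agent.S2934

/-!
The width of `O₂(C(t))`.
-/

set_option autoImplicit false
set_option linter.unusedSectionVars false
set_option linter.unusedVariables false

namespace H23M

open Cfsg Subgroup H71KM
open scoped commutatorElement

variable {G : Type*} [Group G] [Finite G] {B : Subgroup G} {t : G}

theorem Pr.cardQ (h : Pr B t)
    (one : ∀ y ∈ B, y ≠ 1 → ∀ a ∈ RT t, a ∈ centralizer {y} → a * a = 1 → a = 1 ∨ a = t) :
    Nat.card (RT t) = 2 ^ 5 ∨ Nat.card (RT t) = 2 ^ 7 ∨ Nat.card (RT t) = 2 ^ 9 := by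
  have g := h.good
  let φ : B →* MulAut (RT t) := (RT t).normalizerMonoidHom.comp (inclusion g.nR)
  have hφ : ∀ (b : B) (x : RT t), φ b x = x → (x : G) ∈ centralizer {(b : G)} := fun b x e =>
    mc_symm (mc_of_conj (congrArg Subtype.val e))
  have inj : Function.Injective φ := (injective_iff_map_eq_one φ).2 fun b hb =>
    Subtype.ext (h.wh.faith g b.2 fun x hx => hφ b ⟨x, g.E_le hx⟩ (by rw [hb]; rfl))
  refine (Cfsg.Agent.S2934.result (pRT t) (p := 3) (by decide) φ.range
    (g.ea.isPGroup.of_surjective _ φ.rangeRestrict_surjective) ⟨⟨?_⟩⟩ (fun hc => ?_) ?_).2.2.1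
  · rintro ⟨_, a, rfl⟩ ⟨_, b, rfl⟩
    refine Subtype.ext ?_
    show φ a * φ b = φ b * φ a
    rw [← map_mul, ← map_mul, g.ea.1.1.1 a b]
  · obtain ⟨x, hx⟩ := (isCyclic_of_surjective _ (MonoidHom.ofInjective inj).symm.surjective :
      IsCyclic B).exists_generator
    have h1 := orderOf_eq_card_of_forall_mem_zpowers hx
    have h2 := orderOf_dvd_of_pow_eq_one (Subtype.ext (g.ea.2 x x.2) : x ^ 3 = 1)
    rw [h1, h.card] at h2
    omega
  · rintro _ ⟨b, rfl⟩ b1 x y hx hy ex ey
    have k : ∀ x : RT t, orderOf x = 2 → φ b x = x → (x : G) = t := fun x hx e =>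
      (one b b.2 (fun e => b1 (by rw [show b = 1 from Subtype.ext e, map_one])) x x.2 (hφ b x e)
        (by rw [← coe_mul, ← pow_two, ← hx, pow_orderOf_eq_one, coe_one])).resolve_left fun e => by
          rw [show x = 1 from Subtype.ext e, orderOf_one] at hx; omega
    exact Subtype.ext ((k x hx ex).trans (k y hy ey).symm)

end H23M
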