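import Mathlib
import Cfsg.Agent.Lib.M75.Defs
import Cfsg.Agent.S1480
import Cfsg.Agent.Lib.PComp.Local
import Cfsg.Agent.Lib.Core.CoprimeSylow

/-!
A self-centralizing normal subgroup of rank 3 normalizes no 2-group.
-/

set_option autoImplicit false
set_option linter.unusedSectionVars false
set_option linter.unusedVariables false

namespace H23M

open Cfsg Subgroup H71KM
open scoped commutatorElement

variable {G : Type*} [Group G] [Finite G]

namespace NB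

theorem inv_cj {B Y : Subgroup G} {g : G} (hg : g ∈ 𝐍(B)) (h : Y ∈ invSubgroups ⊤ B {2}) :
    H68.cj g Y ∈ invSubgroups ⊤ B {2} :=
  ⟨le_top, by rw [H68.card_cj]; exact h.2.1, by
    rw [← H68.cj_normalizer, ← H68.cj_eq_of_mem_normalizer hg]
    exact H68.cj_mono g h.2.2⟩

theorem max_cj {B Y : Subgroup G} {g : G} (hg : g ∈ 𝐍(B)) (h : Y ∈ maxInvSubgroups ⊤ B {2}) :
    H68.cj g Y ∈ maxInvSubgroups ⊤ B {2} :=
  ⟨inv_cj hg h.1, fun R hR hle => by
    rw [← h.2 _ (inv_cj (inv_mem hg) hR) (H68.cj_le_iff.1 hle), H68.cj_cj_inv]⟩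

end NB

theorem nb_of (P : Sylow 3 G) (B : Subgroup G) (hB : IsSCN (P : Subgroup G) B) (hB3 : ¬ PRankLE 3 2 B)
    (hPinv : ∀ X : Subgroup G, IsPGroup 2 X → (P : Subgroup G) ≤ 𝐍(X) → X = ⊥)
    (n3 : ∀ D : Subgroup G, IsPGroup 3 D → D ≠ ⊥ → IsPConstrained 3 𝐍(D))
    (T : Subgroup G) (hT : IsPGroup 2 T) (hBT : B ≤ 𝐍(T)) : T = ⊥ := by
  have hC : B ≤ 𝐂(B) := hB.2.2.ge.trans inf_le_right
  have hS := H44.SylowIn.inf_of_subnIn (H68.sylowIn_of_le P hB.2.1)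
    (H44.subnIn_centralizer_normalizer B)
  rw [hB.2.2] at hS
  obtain ⟨Q, hTQ, hQ⟩ := Finite.exists_le_maximal (p := fun Y => Y ∈ invSubgroups ⊤ B {2})
    (a := T) ⟨le_top, H1.isPiSubgroup_singleton_iff.2 hT, hBT⟩
  have hQ' : Q ∈ maxInvSubgroups ⊤ B {2} := ⟨hQ.1, fun R hR hle => (hQ.eq_of_le hR hle).symm⟩
  obtain ⟨k, -, hk⟩ := H2.exists_invariant_cj (A := (P : Subgroup G))
    (K := piCoreOf (primesNotDvd 3) 𝐂(B)) (H := Q)
    ((H2.le_normalizer_centralizer hB.2.1).trans (H1.normalizer_le_normalizer_piCoreOf _))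
    (H1.coprime_card_of_isPGroup_of_coprime P.isPGroup' (H1.isPiSubgroup_not_dvd_iff.1
      (H1.isPiSubgroup_mono (H1.isPiSubgroup_piCoreOf _) fun q hq => hq.2)))
    (.inl (H44.isSolvable_of_isPGroup P.isPGroup')) fun g hg => by
      obtain ⟨k, hk, e⟩ := Cfsg.Agent.S1480.result 3 n3 (fun h => absurd h (by decide)) B
        hS.isPGroup (comm_iff.2 hC) hB3 (fun x hx h3 => hS.le_of_normalizes h3 (zpowers_le.2 hx)
          ((zpowers_le.2 hx).trans (centralizer_le_normalizer _)) (mem_zpowers x)) 2 (by decide)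
        _ (NB.max_cj (hB.2.1 hg) hQ') Q hQ'
      exact ⟨k, hk, e.symm⟩
  have := hPinv _ (H68.isPGroup_cj k (H1.isPiSubgroup_singleton_iff.1 hQ.1.2.1)) hk
  exact eq_bot_iff.2 (H68.cj_eq_bot_iff.1 this ▸ hTQ)

end H23M
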