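import Mathlib
import Cfsg.Agent.Lib.M75.Defs
import Cfsg.Agent.Lib.M75.NB
import Cfsg.Agent.Lib.LocStruct.ConstrMono

/-!
The first hypothesis structure from the statement.
-/

set_option autoImplicit false
set_option linter.unusedSectionVars false
set_option linter.unusedVariables false

namespace H23M

open Cfsg Subgroup H71KM
open scoped commutatorElement

variable {G : Type*} [Group G] [Finite G]

namespace HZ0

theorem odd_of {A K : Subgroup G} (hA : IsPGroup 3 A) (hAK : A ≤ 𝐍(K))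
    (hK : (Nat.card K).Coprime 3)
    (h : ∀ T : Subgroup G, IsPGroup 2 T → A ≤ 𝐍(T) → T = ⊥) : Odd (Nat.card K) := by
  obtain ⟨T, hT, hn⟩ := H2.exists_invariant_sylowIn hAK
    (H1.coprime_card_of_isPGroup_of_coprime hA hK) (.inl (H44.isSolvable_of_isPGroup hA)) 2
  have := hT.not_dvd_relIndex
  rw [h T hT.isPGroup hn, relIndex_bot_left] at this
  exact Nat.odd_iff.2 (by omega)

theorem th_cj (g w : G) : th 3 (zpowers (g * w * g⁻¹)) = H68.cj g (th 3 (zpowers w)) := by
  have e : zpowers (g * w * g⁻¹) = H68.cj g (zpowers w) :=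
    (MonoidHom.map_zpowers (MulAut.conj g).toMonoidHom w).symm
  rw [e, th, ← H68.cj_centralizer]
  exact (H44.map_coreOf_of_injective (f := (MulAut.conj g).toMonoidHom) (MulAut.conj g).injective _).symm

/-- the elements of order dividing 3 of an abelian subgroup -/
def om (B : Subgroup G) (h : B ≤ 𝐂(B)) : Subgroup G where
  carrier := {b | b ∈ B ∧ b ^ 3 = 1}
  one_mem' := ⟨one_mem _, one_pow _⟩
  mul_mem' {a b} ha hb := ⟨mul_mem ha.1 hb.1, by
    rw [(show Commute a b from h hb.1 a ha.1).mul_pow, ha.2, hb.2, mul_one]⟩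
  inv_mem' {a} ha := ⟨inv_mem ha.1, by rw [inv_pow, ha.2, inv_one]⟩

end HZ0

open HZ0 in
theorem hy0_of [IsSimpleGroup G] (hG : ¬ IsMulCommutative G) (r2 : ¬ PRankLE 2 2 G)
    (c2 : IsCharacteristicTwoType G) (P : Sylow 3 G) (B : Subgroup G) (hB : IsSCN (P : Subgroup G) B)
    (hB3 : ¬ PRankLE 3 2 B)
    (hPinv : ∀ X : Subgroup G, IsPGroup 2 X → (P : Subgroup G) ≤ 𝐍(X) → X = ⊥)
    (h3con : ∀ R : Subgroup G, IsPGroup 3 R → R ≠ ⊥ → 𝐍(R) ≠ ⊤ → IsPConstrained 3 𝐍(R)) : Hy0 G := by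
  have n3 : ∀ D : Subgroup G, IsPGroup 3 D → D ≠ ⊥ → IsPConstrained 3 𝐍(D) := fun D hD D1 =>
    h3con D hD D1 fun e => by
      rcases (normalizer_eq_top_iff.1 e).eq_bot_or_eq_top with e | e
      · exact D1 e
      · subst e
        have := (hD.of_equiv topEquiv).isNilpotent
        exact hG ⟨⟨IsSimpleGroup.comm_iff_isSolvable.2 inferInstance⟩⟩
  refine ⟨inferInstance, hG, c2, r2, n3,
    fun D hD D1 => (H69.isPConstrained_normalizer_iff hD).1 (n3 D hD D1), fun P' => ?_⟩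
  have hC : B ≤ 𝐂(B) := hB.2.2.ge.trans inf_le_right
  have hWB : om B hC ≤ B := fun x hx => hx.1
  have hW : EA 3 (om B hC) :=
    ⟨comm_iff.2 (hWB.trans (hC.trans (H69.centralizer_anti hWB))), fun x hx => hx.2⟩
  have cW : 27 ≤ Nat.card (om B hC) := by
    by_contra hc
    refine hB3 fun A _ h2 => ?_
    obtain ⟨n, hn⟩ := IsPGroup.iff_card.1 hW.isPGroup
    have h3 : Nat.card (A.map B.subtype) ≤ Nat.card (om B hC) := card_le_of_le (by
      rintro _ ⟨a, ha, rfl⟩
      exact ⟨a.2, by rw [← map_pow, h2 a ha, map_one]⟩)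
    rw [card_map_of_injective B.subtype_injective, hn] at h3
    refine h3.trans (Nat.pow_le_pow_right (by norm_num) ?_)
    by_contra h4
    exact hc (hn ▸ Nat.pow_le_pow_right (n := 3) (i := 3) (by norm_num) (by omega))
  have nW : (P : Subgroup G) ≤ 𝐍(om B hC) := H68.le_normalizer_of_forall_cj_le fun g hg =>
    H68.cj_le_iff'.2 fun x hx => ⟨cj_mem (hB.2.1 hg) hx.1, by rw [conj_pow, hx.2]; group⟩
  obtain ⟨g, -, e⟩ := (H68.sylowIn_top P).exists_cj_eq (H68.sylowIn_top P')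
  have := hW.1
  refine ⟨H68.cj g (om B hC), ⟨inferInstanceAs (IsMulCommutative (map _ _)), ?_⟩,
    by rwa [H68.card_cj], e ▸ H68.cj_mono g (hWB.trans hB.1),
    by rw [← e, ← H68.cj_normalizer]; exact H68.cj_mono g nW, ?_⟩
  · rintro _ ⟨x, hx, rfl⟩
    rw [← map_pow, hx.2, map_one]
  · rintro _ ⟨x, hx, rfl⟩ -
    have : Odd (Nat.card (th 3 (zpowers x))) := odd_of (P.isPGroup'.to_le hB.1)
      ((hC.trans (H69.centralizer_anti (zpowers_le.2 hx.1))).trans (H44.le_normalizer_coreOf 3 _))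
      (H44.coprime_card_coreOf 3 _) (nb_of P B hB hB3 hPinv n3)
    rw [← H68.card_cj g, ← th_cj] at this
    exact this

end H23M
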