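import Cfsg.Agent.Lib.M75.ITr

/-!
The isolated case.
-/

set_option autoImplicit false
set_option linter.unusedSectionVars false
set_option linter.unusedVariables false

namespace H16M

open Cfsg Subgroup H71KM H23M
open scoped commutatorElement

variable {G : Type*} [Group G] [Finite G] {P : Sylow 3 G} {x z u v : G}

theorem iso (h : Hyp G) (h9 : H9 G) : ∃ (B : Subgroup G) (t : G), Good 3 9 B t := by
  by_contra! ng
  obtain ⟨T, E, hT, T1, hET, hE, c9⟩ := h9
  obtain ⟨y, hy, y1, hc⟩ := H2.exists_inf_centralizer_ne_bot hE.1 (not_cyclic9 hE c9.ge) hET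
    (cop (by decide) hE.isPGroup hT) T1
  have nb : ¬ Big y := fun b => by
    obtain ⟨B, t, g⟩ := h.step0y hE c9 hy y1 b (hT.to_le inf_le_left) hc
      (fun e he => n_inf (hET he) (le_normalizer (mc_of_mem (hE.le_cent he) hy))) inf_le_right
    exact ng B t g
  obtain ⟨S, hS, fn⟩ := H4.exists_sylow_ge_not_dvd_relIndex hE.isPGroup (le_normalizer (H := E))
  obtain ⟨a, b, c, F, rfl⟩ := exists_frP h.toHy0 S hE c9 hS hy nb
  exact Cx.false ⟨F, h, ng, fn⟩ hT T1 hET

end H16M
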