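import Cfsg.Agent.Lib.M75.IDefs
import Cfsg.Agent.Lib.LargeExtra.Setting

/-!
The final lists: the data on a large extraspecial subgroup (see `blueprint/M75/README_h16.md`).
-/

set_option autoImplicit false
set_option linter.unusedSectionVars false
set_option linter.unusedVariables false

namespace H16M

open Cfsg Subgroup H71KM H23M

variable {G : Type*} [Group G]

/-- `F*(C(t))` as a subgroup of `G`. -/
abbrev QQ (t : G) : Subgroup G := (FS t).map (centralizer ({t} : Set G)).subtype

/-- the noncentral involutions of `Q`. -/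
def II (Q : Subgroup G) (z : G) : Set G := {s | s ∈ Q ∧ s * s = 1 ∧ s ≠ 1 ∧ s ≠ z}

/-- the data used to shorten the lists. -/
structure EH (Q : Subgroup G) (z : G) : Prop where
  simple : IsSimpleGroup G
  nab : ¬ IsMulCommutative G
  h : H95.L3 Q z
  o2 : ∀ N : Subgroup G, IsPGroup 2 N → (∀ x ∈ N, x * z = z * x) →
    (∀ g, g * z = z * g → ∀ x ∈ N, g * x * g⁻¹ ∈ N) → N ≤ Q
  /-- elements of order 3 of `C(z)` centralize no noncentral involution of `Q`. -/
  w3 : ∀ y, y ^ 3 = 1 → y ≠ 1 → y * z = z * y → ∀ s ∈ Q, s * s = 1 → y * s = s * y → s = 1 ∨ s = z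
  e9 : ∃ E : Subgroup G, EA 3 E ∧ Nat.card E = 9 ∧ E ≤ centralizer {z}
  k27 : ¬ K27 G

theorem eqns_edefs : True := by
  have := @II.eq_1.{0}
  trivial

end H16M
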