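import Mathlib
import Cfsg.Agent.Lib.M75.Defs
import Cfsg.Agent.S1296
import Cfsg.Agent.Lib.LocStruct.ConstrMono

/-!
Characteristic 2 type from 2-constraint.
-/

set_option autoImplicit false
set_option linter.unusedSectionVars false
set_option linter.unusedVariables false

namespace H23M

open Cfsg Subgroup H71KM
open scoped commutatorElement

variable {G : Type*} [Group G] [Finite G]

theorem c2_of [IsSimpleGroup G] (hG : ¬ IsMulCommutative G) (A : Subgroup G) (hA3 : ¬ PRankLE 2 2 A)
    (hcon : ∀ T : Subgroup G, IsPGroup 2 T → T ≠ ⊥ → IsPConstrained 2 𝐍(T)) :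
    ¬ PRankLE 2 2 G ∧ IsCharacteristicTwoType G := by
  have r2 : ¬ PRankLE 2 2 G := fun h => hA3 fun E h1 h2 => by
    rw [← card_map_of_injective (K := E) A.subtype_injective]
    refine h _ inferInstance ?_
    rintro _ ⟨a, ha, rfl⟩
    rw [← map_pow, h2 a ha, map_one]
  have ev : Even (Nat.card G) := by
    by_contra ho
    refine r2 fun E _ h2 => ?_
    rw [H44.eq_bot_of_isPGroup_of_coprime (p := 2) (P := E)
      (H68.isPGroup_iff_forall.2 fun x hx => ⟨1, by rw [pow_one, h2 x hx]⟩)
      ((Nat.coprime_two_right.2 (Nat.not_even_iff_odd.1 ho)).coprime_dvd_left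
        E.card_subgroup_dvd_card), card_bot]
    norm_num
  have h1 : ∀ N : Subgroup G, N.Normal → N.index ≠ 2 := fun N hn h => by
    rcases hn.eq_bot_or_eq_top with e | e
    · rw [e, index_bot] at h
      have := isCyclic_of_prime_card (p := 2) h
      exact hG inferInstance
    · rw [e, index_top] at h
      omega
  have h2 : oddCore G = ⊥ :=
    (Normal.eq_bot_or_eq_top (inferInstance : (oddCore G).Normal)).resolve_right fun e =>
      Nat.not_even_iff_odd.2 (Nat.coprime_two_right.1 (H1.pPrimeCore_eq_top_iff.1 e)) ev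
  refine ⟨r2, ((Cfsg.Agent.S1296.result ev h1 h2).resolve_left r2).resolve_left ?_⟩
  rintro ⟨t, ht, K, hK, hq⟩
  have hp := H44.isPGroup_zpowers_of_orderOf ht
  have h3 := (H69.isPConstrained_normalizer_iff hp).1 (hcon _ hp fun e => by
    rw [zpowers_eq_bot.1 e, orderOf_one] at ht; omega)
  rw [H70.centralizer_zpowers, H23.isPConstrained_iff_layer_eq_bot] at h3
  have h4 : K = ⊥ := eq_bot_iff.2 (h3 ▸ le_sSup (show K ∈ {K | IsComponent K} from ⟨hK, hq⟩))
  subst h4
  exact not_subsingleton_iff_nontrivial.2 hq.2.toNontrivial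
    (QuotientGroup.mk_surjective.subsingleton)

end H23M
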