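import Cfsg.Agent.Lib.M75.EDefs
import Cfsg.Agent.Lib.M75.IBas
import Cfsg.Agent.Lib.GL.Basic
import Cfsg.Agent.S2135

/-!
Involution centralizers in `L₄(3)`, `A₉` and `J₃`.
-/

set_option autoImplicit false
set_option linter.unusedSectionVars false
set_option linter.unusedVariables false

namespace H16M

open Cfsg Subgroup H71KM H23M
open scoped commutatorElement

universe u

variable {G : Type u} [Group G] [Finite G] {Q : Subgroup G} {z : G}

namespace EL

abbrev S4 := Matrix.SpecialLinearGroup (Fin 4) (ZMod 3)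

def ms : S4 := ⟨!![0,-1,0,0;1,0,0,0;0,0,0,-1;0,0,1,0], by decide +kernel⟩
def ma : S4 := ⟨!![1,0,1,0;0,1,0,1;0,0,1,0;0,0,0,1], by decide +kernel⟩
def mb : S4 := ⟨!![1,0,0,-1;0,1,1,0;0,0,1,0;0,0,0,1], by decide +kernel⟩
def my : S4 := ⟨!![0,0,-1,0;0,0,0,-1;1,0,1,-1;0,1,1,1], by decide +kernel⟩
def mw : S4 := ⟨!![1,1,0,0;0,1,0,0;0,0,1,0;0,0,0,1], by decide +kernel⟩

theorem a3 : ma ^ 3 = 1 := by decide +kernel
theorem b3 : mb ^ 3 = 1 := by decide +kernel
theorem y5 : my ^ 5 = 1 := by decide +kernel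
theorem ab : ma * mb = mb * ma := by decide +kernel
theorem as : ma * ms = ms * ma := by decide +kernel
theorem bs : mb * ms = ms * mb := by decide +kernel
theorem ys : my * ms = ms * my := by decide +kernel
theorem n_s : mw * ms ≠ ms * mw := by decide +kernel
theorem n_a : my * ma ≠ ma * my := by decide +kernel
theorem n_b : my * mb ≠ mb * my := by decide +kernel
theorem n_ab : my * (ma * mb) ≠ (ma * mb) * my := by decide +kernel
theorem n_aab : my * (ma * ma * mb) ≠ (ma * ma * mb) * my := by decide +kernel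

theorem ss : ms * ms ∈ center S4 := by
  rw [Matrix.SpecialLinearGroup.mem_center_iff]
  exact ⟨-1, by decide, by decide +kernel⟩

theorem card_cent {H : Type*} [Group H] (e : G ≃* H) (t : G) :
    Nat.card (centralizer ({t} : Set G)) = Nat.card (centralizer ({e t} : Set H)) := by
  refine Nat.card_congr (e.toEquiv.subtypeEquiv fun x => ?_)
  rw [mem_centralizer_singleton_iff, mem_centralizer_singleton_iff]
  change _ ↔ e x * e t = e t * e x
  rw [← map_mul, ← map_mul, e.apply_eq_iff_eq]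

end EL

open EL in
theorem l43 {F : Type*} [Field F] [Fintype F] (hF : Fintype.card F = 3)
    (e : G ≃* Matrix.ProjectiveSpecialLinearGroup (Fin 4) F) :
    ∃ (B : Subgroup G) (s y : G), Good 3 9 B s ∧ y ^ 5 = 1 ∧ y ≠ 1 ∧ y * s = s * y := by
  obtain ⟨φ⟩ := H10.nonempty_ringEquiv_of_card_eq (F := F) (K := ZMod 3)
    (by rw [Nat.card_eq_fintype_card, hF, Nat.card_zmod])
  let e' : G ≃* S4 ⧸ center S4 := e.trans (H10.pslCongr φ)
  let f : S4 →* G := e'.symm.toMonoidHom.comp (QuotientGroup.mk' _)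
  have hf : ∀ x, f x = 1 ↔ x ∈ center S4 := fun x => by
    change e'.symm (QuotientGroup.mk x) = 1 ↔ _
    rw [map_eq_one_iff _ e'.symm.injective, QuotientGroup.eq_one_iff]
  have hn : ∀ x w : S4, w * x ≠ x * w → f x ≠ 1 := fun x w h h1 =>
    h (mem_center_iff.1 ((hf x).1 h1) w)
  have ha : f ma ^ 3 = 1 := by rw [← map_pow, a3, map_one]
  have hb : f mb ^ 3 = 1 := by rw [← map_pow, b3, map_one]
  have hab : f ma * f mb = f mb * f ma := by rw [← map_mul, ab, map_mul]
  have hnb : f mb ∉ zpowers (f ma) := by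
    rw [zp3 ha]
    rintro (h | h | h)
    · exact hn _ _ n_b h
    · refine hn _ _ n_aab ?_
      rw [map_mul, map_mul, h, ← ha, pow_three, mul_assoc]
    · refine hn _ _ n_ab ?_
      rw [map_mul, h, mul_inv_cancel]
  refine ⟨S2 (f ma) (f mb), f ms, f my, ⟨ea_S2 ha hb hab, hn _ _ n_s, ?_, ?_, ?_⟩, ?_, ?_, ?_⟩
  · rw [← map_mul, hf]; exact ss
  · refine sup_le ?_ ?_ <;> rw [zpowers_le, mc, ← map_mul, ← map_mul]
    · rw [as]
    · rw [bs]
  · rw [card_S2 ha (hn _ _ n_a) hb hab hnb]
  · rw [← map_pow, y5, map_one]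
  · exact hn _ _ n_a.symm
  · rw [← map_mul, ys, map_mul]

theorem a9 (e : G ≃* alternatingGroup (Fin 9)) {t : G} (ht : orderOf t = 2) :
    ¬ 9 ∣ Nat.card (centralizer ({t} : Set G)) := by
  intro h9
  rw [EL.card_cent e] at h9
  set g : Equiv.Perm (Fin 9) := (e t).1 with hg
  have ho : orderOf g = 2 := by rw [hg, Subgroup.orderOf_coe, MulEquiv.orderOf_eq, ht]
  obtain ⟨n, hn⟩ := Equiv.Perm.cycleType_prime_order (σ := g) (by rw [ho]; norm_num)
  rw [ho] at hn
  have h1 := Equiv.Perm.sum_cycleType_le g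
  have h2 := Equiv.Perm.sign_of_cycleType g
  have h3 := Equiv.Perm.nat_card_centralizer g
  have h4 : Equiv.Perm.sign g = 1 := Equiv.Perm.mem_alternatingGroup.1 (e t).2
  have h5 : Nat.card (centralizer ({e t} : Set (alternatingGroup (Fin 9)))) ∣
      Nat.card (centralizer ({g} : Set (Equiv.Perm (Fin 9)))) := by
    refine card_dvd_of_injective (((alternatingGroup (Fin 9)).subtype.comp
      (centralizer ({e t} : Set (alternatingGroup (Fin 9)))).subtype).codRestrict _ fun x => ?_) ?_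
    · rw [mem_centralizer_singleton_iff]
      exact congrArg Subtype.val (mem_centralizer_singleton_iff.1 x.2)
    · intro x y h
      exact Subtype.ext (Subtype.ext (congrArg
        (fun z : centralizer ({g} : Set (Equiv.Perm (Fin 9))) => z.1) h))
  have h6 := h9.trans h5
  rw [h3] at h6
  rw [h4] at h2
  rw [hn] at h1 h2 h6
  simp only [Multiset.sum_replicate, smul_eq_mul, Fintype.card_fin, Multiset.card_replicate] at h1 h2
  have hn4 : n ≤ 3 := by omega
  interval_cases n
  · revert h2; decide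
  · revert h6; decide
  · revert h2; decide
  · revert h6; decide

theorem j3 (e : Spor.IsoJ3 G) {t : G} (ht : orderOf t = 2) :
    ¬ 9 ∣ Nat.card (centralizer ({t} : Set G)) := by
  obtain ⟨F, _, _, ω, hF, hω, ⟨e⟩⟩ := e
  obtain ⟨hc, t0, ht0, Q, _, -, hQ, -, -, ⟨φ⟩⟩ := Cfsg.Agent.S2135.result hF ω hω
  obtain ⟨c, hc⟩ := isConj_iff.1 (hc (e t) t0 (by rw [MulEquiv.orderOf_eq, ht]) ht0)
  have h1 := EL.card_cent (e.trans (MulAut.conj c)) t
  have h2 : (e.trans (MulAut.conj c)) t = t0 := hc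
  have h3 := card_eq_card_quotient_mul_card_subgroup Q
  have h4 : Nat.card (alternatingGroup (Fin 5)) = 60 := by
    have := two_mul_nat_card_alternatingGroup (α := Fin 5)
    rw [Nat.card_perm, Nat.card_eq_fintype_card (α := Fin 5), Fintype.card_fin] at this
    simp only [Nat.factorial] at this
    omega
  rw [h1, h2, h3, Nat.card_congr φ.toEquiv, h4, hQ]
  decide

end H16M
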