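import Cfsg.Agent.Lib.M75.EDefs
import Cfsg.Agent.Lib.M75.IBas
import Cfsg.Agent.Lib.TwoFusion.ZStarIso
import Cfsg.Agent.Lib.Transfer.NormalComplement
import Cfsg.Agent.Lib.Transfer.Control

/-!
Consequences of the final data.
-/

set_option autoImplicit false
set_option linter.unusedSectionVars false
set_option linter.unusedVariables false

namespace H16M

open Cfsg Subgroup H71KM H23M
open scoped commutatorElement

universe u

variable {G : Type u} [Group G] [Finite G] {Q : Subgroup G} {z : G}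

theorem card_QQ (t : G) : Nat.card (QQ t) = Nat.card (FS t) := H95.card_map_cent _

namespace EAx

theorem o2 (t : G) (N : Subgroup G) (h1 : IsPGroup 2 N) (h2 : ∀ x ∈ N, x * t = t * x)
    (h3 : ∀ g, g * t = t * g → ∀ x ∈ N, g * x * g⁻¹ ∈ N) : N ≤ QQ t := fun x hx => by
  have : (N.subgroupOf (centralizer {t})).Normal := ⟨fun y hy g => h3 g (mc.1 g.2) y hy⟩
  exact ⟨⟨x, mc.2 (h2 x hx)⟩, H23.pCore_le_fStar 2
    (H1.le_pCore (hN := this) (h1.comap_of_injective _ (subtype_injective _)) hx), rfl⟩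

/-- every element of order 3 centralizing `t` lies in an `E₉` centralizing `t`. -/
theorem in9 {B : Subgroup G} {t y : G} (g : Good 3 9 B t) (y3 : y ^ 3 = 1) (y1 : y ≠ 1) (yt : y * t = t * y) :
    ∃ B' : Subgroup G, Good 3 9 B' t ∧ y ∈ B' := by
  obtain ⟨S, k, hk, h1, h2⟩ := H4.exists_conj_le_common_sylow (K := centralizer {t}) (ea_zp3 y3).isPGroup
    (zpowers_le_of_mem (mc.2 yt)) g.ea.isPGroup g.le
  have hR : IsPGroup 3 ((S : Subgroup G) ⊓ centralizer {t} : Subgroup G) := S.isPGroup'.to_inf_left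
  have yR : y ∈ (S : Subgroup G) ⊓ centralizer {t} := ⟨h1 (mem_zpowers y), mc.2 yt⟩
  obtain ⟨c, hc, cc, c3⟩ := H5.exists_mem_centralizer_orderOf_eq hR le_rfl le_normalizer
    (fun e => y1 (mem_bot.1 (e ▸ yR)))
  have c1 : c ≠ 1 := fun e => by simp [e] at c3
  have c3' : c ^ 3 = 1 := c3 ▸ pow_orderOf_eq_one c
  have fin : ∀ w ∈ (S : Subgroup G) ⊓ centralizer {t}, w ^ 3 = 1 → w ∉ zpowers c → Good 3 9 (S2 c w) t :=
    fun w hw w3 n => ⟨ea_S2 c3' w3 (cc w hw).symm, g.ne, g.sq,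
      sup_le (zpowers_le_of_mem hc.2) (zpowers_le_of_mem hw.2), (card_S2 c3' c1 w3 (cc w hw).symm n).ge⟩
  by_cases hy : y ∈ zpowers c
  swap
  · exact ⟨_, fin y yR y3 hy, mem_sup_right (mem_zpowers y)⟩
  obtain ⟨b, hb, n⟩ : ∃ b ∈ B, k * b * k⁻¹ ∉ zpowers c := by
    by_contra! e
    have : B.map (MulAut.conj k).toMonoidHom ≤ zpowers c := by
      rintro _ ⟨b, hb, rfl⟩
      exact e b hb
    have := card_le_of_le this
    rw [card_map_of_injective (MulAut.conj k).injective, Nat.card_zpowers, c3] at this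
    have := g.card
    omega
  exact ⟨_, fin _ (mem_inf.2 ⟨h2 b hb, mul_mem (mul_mem hk (g.le hb)) (inv_mem hk)⟩)
    (by rw [conj_pow, g.ea.2 b hb, mul_one, mul_inv_cancel]) n, mem_sup_left hy⟩

end EAx

theorem eh_of (all : All G) {B : Subgroup G} {t : G} (g : Good 3 9 B t) : EH (QQ t) t := by
  have F := all B t g
  have e : RT t = QQ t := eq_of_le_of_card_ge
    (EAx.o2 t _ (pRT t) (fun x hx => mc.1 (RT_le t hx)) fun k hk x hx => cj_mem (nRT t (mc.2 hk)) hx)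
    (by rw [card_QQ, F.cardR])
  refine ⟨F.simple, F.nab, H95.L3_of_fStar' F.ord rfl F.es, EAx.o2 t, fun y y3 y1 yt s hs s2 ys => ?_,
    ⟨B, g.ea, F.card, g.le⟩, fun ⟨E, s, h1, h2, h3, h4, h5⟩ => ?_⟩
  · obtain ⟨B', g', hy⟩ := EAx.in9 g y3 y1 yt
    exact (all B' t g').one y hy y1 s (e ▸ hs) (mc.2 ys.symm) s2
  · exact h3 (mem_bot.1 (F.no27 E _ h1 h2 (isPGroup_zp h4) (h5.trans (n_zp s)) ▸ mem_zpowers s))

theorem K27.of_equiv {H : Type*} [Group H] (e : G ≃* H) (h : K27 H) : K27 G := by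
  obtain ⟨E, s, h1, h2, h3, h4, h5⟩ := h
  refine ⟨E.map e.symm.toMonoidHom, e.symm s, ⟨comm_iff.2 ?_, ?_⟩, ?_, by simpa using h3,
    by rw [← map_mul, h4, map_one], ?_⟩
  · rintro _ ⟨a, ha, rfl⟩ _ ⟨b, hb, rfl⟩
    rw [← map_mul, ← map_mul, h1.le_cent ha b hb]
  · rintro _ ⟨a, ha, rfl⟩
    rw [← map_pow, h1.2 a ha, map_one]
  · rwa [card_map_of_injective e.symm.injective]
  · rintro _ ⟨a, ha, rfl⟩
    exact mc.2 ((map_mul e.symm a s).symm.trans ((congrArg e.symm (mc.1 (h5 ha))).trans (map_mul e.symm s a)))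

namespace EH

variable (E : EH Q z)
include E

theorem zbot : center G = ⊥ := by
  have := E.simple
  refine (inferInstance : (center G).Normal).eq_bot_or_eq_top.resolve_right fun e => ?_
  obtain ⟨u, -, v, -, hne⟩ := E.h.nonab
  exact hne (mem_center_iff.1 (e.ge (mem_top v)) u)

theorem res : pResidual 2 G = ⊤ := by
  have := E.simple
  refine H4.pResidual_eq_top_of_commutator_eq_top
    ((inferInstance : (commutator G).Normal).eq_bot_or_eq_top.resolve_left fun e => ?_)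
  exact E.h.ne_one (mem_bot.1 (E.zbot ▸ ((commutator_eq_bot_iff_center_eq_top G).1 e).ge (mem_top z)))

theorem hex : ∃ g, g * z * g⁻¹ ≠ z ∧ g * z * g⁻¹ * z = z * (g * z * g⁻¹) := by
  have := E.simple
  have hz : orderOf z = 2 := orderOf_eq_prime (by rw [pow_two, E.h.sq]) E.h.ne_one
  by_contra! k
  obtain ⟨N, hN, h1, h2⟩ := H41.Isolated.zstar_exists (z := z) ⟨hz, fun y hy => by
    by_contra e
    exact k y e hy.symm⟩
  rcases hN.eq_bot_or_eq_top with rfl | rfl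
  · have : z ∈ center G := mem_center_iff.2 fun g =>
      (mul_inv_eq_iff_eq_mul.1 (mul_inv_eq_one.1 (mem_bot.1 (h2 g)))).symm
    exact E.h.ne_one (mem_bot.1 (E.zbot ▸ this))
  · rw [card_top] at h1
    exact (Nat.not_even_iff_odd.2 h1) (even_iff_two_dvd.2 (hz ▸ orderOf_dvd_natCard z))

/-- 3-subgroups of `C(z)` act semiregularly on the noncentral involutions of `Q`. -/
theorem sr {R : Subgroup G} (hR : IsPGroup 3 R) (Rz : R ≤ centralizer {z}) {I : Set G} (hI : I ⊆ II Q z)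
    (hn : ∀ r ∈ R, ∀ s ∈ I, r * s * r⁻¹ ∈ I) : Nat.card R ∣ I.ncard := by
  have h2 : ∀ a ∈ R, ∀ b ∈ I, a * b = b * a → a = 1 := fun a ha b hb e => by
    by_contra a1
    obtain ⟨y, hy, -, y3⟩ := H5.exists_mem_centralizer_orderOf_eq (hR.to_le (zpowers_le_of_mem ha)) le_rfl
      le_normalizer (fun e => a1 (mem_bot.1 (e ▸ mem_zpowers a)))
    obtain ⟨b1, b2, b3, b4⟩ := hI hb
    exact (E.w3 y (y3 ▸ pow_orderOf_eq_one y) (fun e => by simp [e] at y3)
      (mc.1 (Rz (zpowers_le_of_mem ha hy))) b b1 b2 (mc.1 (zpowers_le_of_mem (mc.2 e) hy))).elim b3 b4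
  let _ : MulAction R I :=
    { smul := fun a b => ⟨a * b * (a : G)⁻¹, hn a a.2 b b.2⟩
      one_smul := fun b => Subtype.ext (show ((1 : R) : G) * b * ((1 : R) : G)⁻¹ = b by simp)
      mul_smul := fun a a' b => Subtype.ext (show ((a * a' : R) : G) * b * ((a * a' : R) : G)⁻¹ =
        a * (a' * b * (a' : G)⁻¹) * (a : G)⁻¹ by simp [mul_assoc]) }
  rw [← Nat.card_coe_set_eq, Nat.card_congr (MulAction.selfEquivOrbitsQuotientProd (G := R) (X := I)
    fun b => eq_bot_iff.2 fun a ha => Subtype.ext (h2 a a.2 b b.2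
      (mul_inv_eq_iff_eq_mul.1 (congrArg Subtype.val ha)))), Nat.card_prod]
  exact dvd_mul_left _ _

/-- `w3` for elements of order 3 modulo `Q`. -/
theorem lift {g s : G} (gz : g * z = z * g) (g3 : g ^ 3 ∈ Q) (gQ : g ∉ Q) (hs : s ∈ Q) (s2 : s * s = 1)
    (e : g * s * g⁻¹ = s ∨ g * s * g⁻¹ = s * z) : s = 1 ∨ s = z := by
  have e2 : Commute (g ^ 2) s := by
    rw [commute_iff_eq, ← mul_inv_eq_iff_eq_mul, pow_two, cj_mul]
    rcases e with e | e
    · rw [e, e]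
    · rw [e, ← conj_mul, e, gz, mul_inv_cancel_right, mul_assoc, E.h.sq, mul_one]
  refine E.w3 ((g ^ 2) ^ 2) ?_ (fun e1 => gQ ?_) (((show Commute g z from gz).pow_left 2).pow_left 2) s hs s2
    (e2.pow_left 2)
  · rw [← E.h.pow_four g3]; group
  · have : g = (g ^ 3)⁻¹ * (g ^ 2) ^ 2 := by group
    rw [this, e1, mul_one]
    exact inv_mem g3

/-- `C(z)` normalizes no elementary abelian subgroup of `Q` except `⟨z⟩`. -/
theorem noA {A : Subgroup G} (hA : A ≤ Q) (h2 : ∀ a ∈ A, a * a = 1)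
    (hn : ∀ g, g * z = z * g → ∀ a ∈ A, g * a * g⁻¹ ∈ A) : ∀ a ∈ A, a = 1 ∨ a = z := by
  obtain ⟨B, h3, h4, h5⟩ := E.e9
  have : A ≤ zpowers z := H2.le_of_forall_centralizer_le h3.1 (not_cyclic9 h3 h4.ge)
    (fun b hb => mem_normalizer_fintype (hn b (mc.1 (h5 hb)))) (cop (by decide) h3.isPGroup (E.h.isPGroup.to_le hA))
    fun y hy y1 a ha => (mem_zp E.h.sq).2
      (E.w3 y (h3.2 y hy) y1 (mc.1 (h5 hy)) a (hA ha.1) (h2 a ha.1) (mc.1 ha.2).symm)
  exact fun a ha => (mem_zp E.h.sq).1 (this ha)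

end EH

end H16M
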