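import Cfsg.Agent.Lib.M75.EA
import Cfsg.Agent.Lib.WCn.Cx
import Cfsg.Agent.Lib.QF.Classify

/-!
Counting the noncentral involutions.
-/

set_option autoImplicit false
set_option linter.unusedSectionVars false
set_option linter.unusedVariables false

namespace H16M

open Cfsg Subgroup H71KM H23M
open scoped commutatorElement

universe u

variable {G : Type u} [Group G] [Finite G] {Q : Subgroup G} {z : G}

theorem EC_two (h : H95.L3 Q z) {n : ℕ} {V : Type u} [AddCommGroup V] [Module (ZMod 2) V] {K : Type*} [Group K]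
    (C : H9.WN.Cx Q z n V K) : (II Q z).ncard = 2 * {v | C.q v = 0 ∧ v ≠ 0}.ncard := by
  choose s hs hπ using C.π_surj
  have hz : ∀ v, C.π (s v * z) = v := fun v => by rw [C.π_mul _ (hs v) _ h.mem, C.π_z h, add_zero, hπ]
  have i1 : Function.Injective s := fun v w e => by rw [← hπ v, e, hπ]
  have i2 : Function.Injective fun v => s v * z := fun v w e => i1 (mul_right_cancel e)
  have key : ∀ x ∈ Q, C.q (C.π x) = 0 → C.π x ≠ 0 → x ∈ II Q z := fun x hx h1 h2 =>
    ⟨hx, (C.q_π x hx).1 h1, fun e => h2 ((C.π_eq_zero hx).2 (Or.inl e)),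
      fun e => h2 ((C.π_eq_zero hx).2 (Or.inr e))⟩
  have e : II Q z = s '' {v | C.q v = 0 ∧ v ≠ 0} ∪ (fun v => s v * z) '' {v | C.q v = 0 ∧ v ≠ 0} := by
    ext x
    constructor
    · rintro ⟨hx, x2, x1, xz⟩
      have hv : C.π x ∈ {v | C.q v = 0 ∧ v ≠ 0} :=
        ⟨(C.q_π x hx).2 x2, fun e => ((C.π_eq_zero hx).1 e).elim x1 xz⟩
      rcases (C.π_eq _ (hs (C.π x)) x hx).1 (hπ _) with e | e
      · exact Or.inl ⟨_, hv, e.symm⟩
      · exact Or.inr ⟨_, hv, e.symm⟩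
    · rintro (⟨v, hv, rfl⟩ | ⟨v, hv, rfl⟩)
      · exact key _ (hs v) (by rw [hπ]; exact hv.1) (by rw [hπ]; exact hv.2)
      · exact key _ (Q.mul_mem (hs v) h.mem) (by rw [hz]; exact hv.1) (by rw [hz]; exact hv.2)
  rw [e, Set.ncard_union_eq, Set.ncard_image_of_injective _ i1, Set.ncard_image_of_injective _ i2, two_mul]
  rw [Set.disjoint_left]
  rintro _ ⟨v, -, rfl⟩ ⟨w, -, e⟩
  have e' : s w * z = s v := e
  have : w = v := by rw [← hz w, e', hπ]
  rw [this] at e'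
  exact h.ne_one (mul_eq_left.1 e')

theorem EC_tr {V W : Type*} [AddCommGroup V] [Module (ZMod 2) V] [AddCommGroup W] [Module (ZMod 2) W]
    (q : V → ZMod 2) (r : W → ZMod 2) (Φ : W ≃ₗ[ZMod 2] V) (h : ∀ x, q (Φ x) = r x) :
    {v | q v = 0 ∧ v ≠ 0}.ncard = Nat.card {x // r x = 0 ∧ x ≠ 0} := by
  rw [← Nat.card_coe_set_eq]
  refine (Nat.card_congr (Φ.toEquiv.subtypeEquiv fun x => ?_)).symm
  change r x = 0 ∧ x ≠ 0 ↔ q (Φ x) = 0 ∧ Φ x ≠ 0
  rw [h, Φ.map_ne_zero_iff]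

theorem EC_card (h : H95.L3 Q z) {n : ℕ} (hc : Nat.card Q = 2 ^ (2 * n + 1)) :
    (II Q z).ncard = 2 * Nat.card {x // quadFormPlus n (ZMod 2) x = 0 ∧ x ≠ 0} ∨
      (II Q z).ncard = 2 * Nat.card {x // quadFormMinus (n - 1) (ZMod 2) 1 1 x = 0 ∧ x ≠ 0} := by
  have : (Q.subgroupOf (centralizer {z})).Normal :=
    ⟨fun x hx g => (mem_normalizer_iff.1 (h.norm g (mem_centralizer_singleton_iff.1 g.2)) _).1 hx⟩
  obtain ⟨V, _, _, ⟨C⟩⟩ := H9.WN.exists_cx h hc (QuotientGroup.mk' (Q.subgroupOf (centralizer {z})))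
    (QuotientGroup.mk'_surjective _) (fun x => QuotientGroup.eq_one_iff x)
  haveI := C.form.fin
  rw [EC_two h C]
  rcases H66.exists_equiv_plus_or_minus C.form.nd C.form.dim
    (H66.aniso_one_iff.2 (by decide) : H66.Aniso (1 : ZMod 2) 1) with ⟨Φ, hΦ⟩ | ⟨-, Φ, hΦ⟩
  · exact Or.inl (by rw [EC_tr _ _ Φ hΦ])
  · exact Or.inr (by rw [EC_tr _ _ Φ hΦ])

theorem EC_p2 : Nat.card {x // quadFormPlus 2 (ZMod 2) x = 0 ∧ x ≠ 0} = 9 := by
  rw [Nat.card_eq_fintype_card]; decide +kernel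

theorem EC_m1 : Nat.card {x // quadFormMinus 1 (ZMod 2) 1 1 x = 0 ∧ x ≠ 0} = 5 := by
  rw [Nat.card_eq_fintype_card]; decide +kernel

theorem EC_p4 : Nat.card {x // quadFormPlus 4 (ZMod 2) x = 0 ∧ x ≠ 0} = 135 := by
  rw [Nat.card_eq_fintype_card]; decide +kernel

theorem EC_m3 : Nat.card {x // quadFormMinus 3 (ZMod 2) 1 1 x = 0 ∧ x ≠ 0} = 119 := by
  rw [Nat.card_eq_fintype_card]; decide +kernel

theorem card_II5 (h : H95.L3 Q z) (hc : Nat.card Q = 2 ^ 5) : (II Q z).ncard = 18 ∨ (II Q z).ncard = 10 := by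
  rcases EC_card (n := 2) h hc with e | e
  · exact Or.inl (by rw [e, EC_p2])
  · exact Or.inr (by rw [e, EC_m1])

theorem card_II9 (h : H95.L3 Q z) (hc : Nat.card Q = 2 ^ 9) : (II Q z).ncard = 270 ∨ (II Q z).ncard = 238 := by
  rcases EC_card (n := 4) h hc with e | e
  · exact Or.inl (by rw [e, EC_p4])
  · exact Or.inr (by rw [e, EC_m3])

theorem EC_conj (h : H95.L3 Q z) {r s : G} (rz : r * z = z * r) (hs : s ∈ II Q z) : r * s * r⁻¹ ∈ II Q z := by
  obtain ⟨hQ, s2, s1, sz⟩ := hs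
  refine ⟨(mem_normalizer_iff.1 (h.norm r rz) _).1 hQ, ?_, fun e => s1 ?_, fun e => sz ?_⟩
  · calc r * s * r⁻¹ * (r * s * r⁻¹) = r * (s * s) * r⁻¹ := by group
      _ = 1 := by rw [s2]; group
  · calc s = r⁻¹ * (r * s * r⁻¹) * r := by group
      _ = 1 := by rw [e]; group
  · calc s = r⁻¹ * (r * s * r⁻¹) * r := by group
      _ = r⁻¹ * (r * z) := by rw [e, rz, mul_assoc]
      _ = z := by group

theorem EC_dvd (E : EH Q z) {R : Subgroup G} (hR : IsPGroup 3 R) (Rz : R ≤ centralizer {z}) :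
    Nat.card R ∣ (II Q z).ncard :=
  E.sr hR Rz subset_rfl fun r hr s hs => EC_conj E.h (mem_centralizer_singleton_iff.1 (Rz hr)) hs

theorem EH.n81 (E : EH Q z) (hc : Nat.card Q = 2 ^ 9) : ¬ 81 ∣ Nat.card (centralizer ({z} : Set G)) := by
  intro hd
  haveI : Fact (Nat.Prime 3) := ⟨Nat.prime_three⟩
  obtain ⟨R, hR⟩ := Sylow.exists_subgroup_card_pow_prime (G := centralizer ({z} : Set G)) 3 (n := 4) hd
  have hc' : Nat.card (R.map (centralizer ({z} : Set G)).subtype) = 3 ^ 4 := by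
    rw [card_map_of_injective (subtype_injective _), hR]
  have := EC_dvd E (IsPGroup.of_card hc') (map_subtype_le R)
  rw [hc'] at this
  rcases card_II9 E.h hc with e | e <;> rw [e] at this <;> exact absurd this (by decide)

theorem EC_semi {A : Subgroup G} {B : Set G}
    (h1 : ∀ a ∈ A, ∀ b ∈ B, a * b * a⁻¹ ∈ B) (h2 : ∀ a ∈ A, ∀ b ∈ B, a * b = b * a → a = 1) :
    Nat.card A ∣ B.ncard := by
  letI : MulAction A B :=
    { smul := fun a b => ⟨a * b * (a : G)⁻¹, h1 a a.2 b b.2⟩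
      one_smul := fun b => Subtype.ext (show ((1 : A) : G) * b * ((1 : A) : G)⁻¹ = b by simp)
      mul_smul := fun a a' b => Subtype.ext (show ((a * a' : A) : G) * b * ((a * a' : A) : G)⁻¹ =
        a * (a' * b * (a' : G)⁻¹) * (a : G)⁻¹ by simp [mul_assoc]) }
  rw [← Nat.card_coe_set_eq, Nat.card_congr (MulAction.selfEquivOrbitsQuotientProd (G := A) (X := B)
    fun b => eq_bot_iff.2 fun a ha => Subtype.ext (h2 a a.2 b b.2
      (mul_inv_eq_iff_eq_mul.1 (congrArg Subtype.val ha)))), Nat.card_prod]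
  exact dvd_mul_left _ _

/-- an element of order five centralizes no noncentral involution of `Q` -/
theorem EC_five (h : H95.L3 Q z) (hc : Nat.card Q = 2 ^ 5) {x : G} (x5 : x ^ 5 = 1) (xz : x * z = z * x)
    {s : G} (hs : s ∈ II Q z) (c0 : x * s = s * x) : x = 1 := by
  classical
  have := Fintype.ofFinite Q
  let c : MulAut Q := Q.normalizerMonoidHom ⟨x, h.norm x xz⟩
  have c5 : c ^ 5 = 1 := by
    rw [← map_pow]; exact (congrArg _ (Subtype.ext x5)).trans (map_one _)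
  have : Fact (Nat.Prime 5) := ⟨by decide⟩
  have m := Equiv.Perm.card_fixedPoints_modEq (f := MulAction.toEndHom (α := Q) c) (p := 5) (n := 1)
    (by rw [pow_one, ← map_pow, c5, map_one])
  have e : Nat.card (Function.fixedPoints (MulAction.toEndHom (α := Q) c)) =
      Nat.card (Q ⊓ centralizer {x} : Subgroup G) := Nat.card_congr
    { toFun := fun y => ⟨y.1, y.1.2, mem_centralizer_singleton_iff.2
        (mul_inv_eq_iff_eq_mul.1 (congrArg Subtype.val y.2)).symm⟩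
      invFun := fun y => ⟨⟨y.1, y.2.1⟩, Subtype.ext (mul_inv_eq_iff_eq_mul.2
        (mem_centralizer_singleton_iff.1 y.2.2).symm)⟩
      left_inv := fun _ => rfl
      right_inv := fun _ => rfl }
  obtain ⟨k, hk, e2⟩ := (Nat.dvd_prime_pow Nat.prime_two).1
    (hc ▸ card_dvd_of_le (inf_le_left : Q ⊓ centralizer {x} ≤ Q))
  rw [Fintype.card_eq_nat_card, Fintype.card_eq_nat_card, e, hc, e2] at m
  have h3 : 3 ≤ 2 ^ k := by
    rw [← e2, ← SetLike.coe_sort_coe, Nat.card_coe_set_eq]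
    have hsub : ({1, z, s} : Set G) ⊆ (Q ⊓ centralizer {x} : Subgroup G) := by
      rintro y (rfl | rfl | rfl)
      · exact one_mem _
      · exact mem_inf.2 ⟨h.mem, mem_centralizer_singleton_iff.2 xz.symm⟩
      · exact mem_inf.2 ⟨hs.1, mem_centralizer_singleton_iff.2 c0.symm⟩
    have h33 : ({1, z, s} : Set G).ncard = 3 :=
      Set.ncard_eq_three.2 ⟨1, z, s, h.ne_one.symm, hs.2.2.1.symm, hs.2.2.2.symm, rfl⟩
    rw [← h33]
    exact Set.ncard_le_ncard hsub
  obtain rfl : k = 5 := by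
    interval_cases k <;> first | rfl | exact absurd m (by decide) | exact absurd h3 (by decide)
  have e3 : Q ⊓ centralizer {x} = Q := eq_of_le_of_card_ge inf_le_left (by rw [hc, e2])
  refine (h.cent x fun y hy => mem_centralizer_singleton_iff.1 (e3.ge hy).2).resolve_right fun e4 => h.ne_one ?_
  rw [← x5, e4, show z ^ 5 = (z * z) ^ 2 * z by rw [← pow_two, ← pow_mul, ← pow_succ], h.sq, one_pow, one_mul]

theorem EH.k5 (E : EH Q z) (hc : Nat.card Q = 2 ^ 5) {y : G} (y5 : y ^ 5 = 1) (yz : y * z = z * y) : y = 1 := by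
  by_contra y1
  haveI : Fact (Nat.Prime 5) := ⟨by decide⟩
  obtain ⟨B, -, hB, Bz⟩ := E.e9
  have h9 := EC_dvd E (IsPGroup.of_card (n := 2) (by rw [hB]; norm_num)) Bz
  have hle : zpowers y ≤ centralizer {z} := zpowers_le.2 (mem_centralizer_singleton_iff.2 yz)
  have h5 : Nat.card (zpowers y) ∣ (II Q z).ncard := by
    refine EC_semi (fun a ha s hs => EC_conj E.h (mem_centralizer_singleton_iff.1 (hle ha)) hs)
      fun a ha s hs c => EC_five E.h hc ?_ (mem_centralizer_singleton_iff.1 (hle ha)) hs c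
    obtain ⟨i, rfl⟩ := ha
    change (y ^ i) ^ 5 = 1
    rw [← zpow_natCast, ← zpow_mul, mul_comm, zpow_mul, zpow_natCast, y5, one_zpow]
  rw [Nat.card_zpowers, orderOf_eq_prime y5 y1] at h5
  rw [hB] at h9
  rcases card_II5 E.h hc with e | e
  · rw [e] at h5
    exact absurd h5 (by decide)
  · rw [e] at h9
    exact absurd h9 (by decide)

end H16M
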