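import Mathlib
import Cfsg.Agent.Lib.X9.Stab

/-!
The standard systems of width 4 contain no `E₉` all of whose elements fix no singular vector.
-/

set_option autoImplicit false
set_option linter.unusedSectionVars false
set_option linter.unusedVariables false
set_option maxRecDepth 100000

namespace H23M.K9

open H95 H4.LX Subgroup H9.WC H75.DW Cfsg H9.X9
open H39.MS (lm)

universe u

/-- `M` has order 3 and fixes the nonzero singular vector `a`. -/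
def Fx (M a : ℕ) : Prop := mm M (mm M M) = I8 ∧ M ≠ I8 ∧ a < 256 ∧ a ≠ 0 ∧ q0 a = 0 ∧ lm M a = a

instance instDecFx (M a : ℕ) : Decidable (Fx M a) := by unfold Fx; infer_instance

/-- coset representatives -/
def rp : List (ℕ × ℕ) := [(1, 0), (63, 1), (16, 7), (16, 6), (16, 5), (16, 4), (16, 1), (16, 3), (16, 2)]

/-- the points of system 8 -/
def x8 : List ℕ := [1, 16, 63, 93, 123, 153, 179, 215, 245]

/-- the elements of order 3 of `L₂(8)` -/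
def l3 : List ℕ := [0xba761e3f60a0f010, 0x8294fad7b0508010, 0x1842249990204010, 0xfc48527b40d03010, 0x86be2cf5d0f07010, 0xde1c285d2070c010, 0x844a96b3f080b010, 0xb070f0168a4ed3f, 0x6f5812b3f3d2683f, 0x12374ab349f3213f, 0x942d16d72157f33f, 0x3baf82d7d285a43f, 0x29cf1a7bba21763f, 0xcf1ae67b9b76ba3f, 0xf0d08012869c25d, 0x2d166ed7b7def65d, 0x166e3bd769f6b75d, 0x92145ff541c2755d, 0x5f864bf5f641835d, 0x491ef33fde75415d, 0xeda4ba3f9fea345d, 0x4b2c38f5d548fc7b, 0x145f73f52961b47b, 0xd08030148cf297b, 0x967d6fb361d5e67b, 0x7d6febb3b4e6617b, 0x69b7ab5dfc52337b, 0xabde1c5d9dfcae7b, 0x902040181244299, 0x1a9dae7ba5db8199, 0xae87337bffa57e99, 0x1ecc573fc37eff99, 0xcc57d23fbdffc399, 0x1c759f5de7813c99, 0xeaf6835ddb5abd99, 0x289f345df97d25b3, 0x9f34b75d8425f9b3, 0xdbbdc399ce586fb3, 0x7ea51899a1f937b3, 0x40a0701eb84a1b3, 0xb9ecafd7dca1ebb3, 0xaf5543d796dc7db3, 0xffe73c99ec5578d7, 0x3c18db99c1ecb9d7,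 0x4852cf7bb9783bd7, 0x9dd5877b82fa43d7, 0xd9cd67f5fa6ec1d7, 0xcd6714f594c1fad7, 0x2050b01af4382d7, 0xbd5aff99aa4b73f5, 0x5affe799e173aaf5, 0x68ed9b3fd96738f5, 0x9b85763f86d9bef5, 0xf925ceb3becd2cf5, 0xeb1237b3925fe1f5, 0x60f0c01cde167f5]

theorem eqns_k9a : True := by
  have := @Fx.eq_1
  have := @rp.eq_1
  have := @x8.eq_1
  have := @l3.eq_1
  trivial

theorem d0 : ∀ v < 256, InX 8 v → ∃ p ∈ rp, InX 8 p.1 ∧ p.2 < 8 ∧ lm (re 8 p.1 p.2) v = 1 ∧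
    mm (re 8 p.1 p.2) (re 8 p.1 p.2) = I8 := by decide +kernel

theorem d1 : ∀ p ∈ rp, ∀ k < 8, ∀ t ∈ stl 8, ∀ M ∈ [mm (re 8 p.1 p.2) (mm (re 8 1 k) t)],
    mm M (mm M M) = I8 → M = I8 ∨ (∃ v ∈ x8, Fx M v) ∨ M ∈ l3 := by decide +kernel

theorem d2 : ∀ M ∈ l3, ∀ N ∈ l3, mm M N = mm N M → N = M ∨ N = mm M M := by decide +kernel

theorem d3 : ∀ i ∈ [0, 1, 2, 5, 6, 7, 9], ∃ p ∈ [(3, 16, 3, 6), (1, 16, 7, 12), (1, 14, 2, 4), (2, 16, 6, 10),
    (1, 2, 4, 4)], InX i 1 ∧ InX i p.2.1 ∧ p.1 < 8 ∧ p.2.2.1 < 8 ∧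
      Fx (mm (re i 1 p.1) (re i p.2.1 p.2.2.1)) p.2.2.2 := by decide +kernel

variable {G : Type u} [Group G] [Finite G] {z : G} {Q : Subgroup G} {c : G → ℕ} {i M N a : ℕ}

/-- no element of order 3 of `C(z)` centralizes a noncentral involution of `Q`. -/
def One (z : G) (Q : Subgroup G) : Prop :=
  ∀ y x : G, y ^ 3 = 1 → y ≠ 1 → y * z = z * y → x ∈ Q → x * y = y * x → x * x = 1 → x = 1 ∨ x = z

theorem p4 (C : Co z Q c) {q : G} (hq : q ∈ Q) : q ^ 4 = 1 := by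
  have e : q ^ 4 = q * q * (q * q) := by rw [show 4 = 2 + 2 from rfl, pow_add, pow_two]
  rcases q0_01 (c q) with h | h
  · rw [e, (C.sq hq).2 h, one_mul]
  · rw [e, (C.sq' hq).2 h, C.h.sq]

theorem no_fx (C : Co z Q c) (o : One z Q) (hM : HM z Q c M) (f : Fx M a) : False := by
  obtain ⟨g, hg⟩ := hM
  obtain ⟨f1, f2, f3, f4, f5, f6⟩ := f
  have g3 : g * (g * g) ∈ Q := C.mem_Q (f1 ▸ C.act_mul hg (C.act_mul hg hg))
  have hy := C.act_mulQ hg g3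
  have y3 : (g * (g * (g * g))) ^ 3 = 1 := by
    rw [← p4 C g3]; simp only [pow_succ, pow_zero, one_mul, mul_assoc]
  generalize g * (g * (g * g)) = y at hy y3
  obtain ⟨x, hx, rfl⟩ := C.surj a f3
  have z2 : z * z = 1 := C.h.sq
  have e : y * x * y⁻¹ = x := ((C.fix_iff hy hx).1 f6).elim id fun e => by
    have e2 : y * (y * x * y⁻¹) * y⁻¹ = x := by
      rw [e, ← conj_mul, e, hy.cz, mul_inv_cancel_right, mul_assoc, z2, mul_one]
    have e3 : y * (y * (y * x * y⁻¹) * y⁻¹) * y⁻¹ = y ^ 3 * x * (y ^ 3)⁻¹ := by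
      simp only [pow_succ, pow_zero, one_mul, mul_assoc, mul_inv_rev]
    rwa [e2, y3, one_mul, inv_one, mul_one] at e3
  exact f4 ((C.zero hx).2 (o y x y3 (fun e1 => f2 (C.uniq (e1 ▸ hy) (C.act_Q (one_mem Q)))) hy.cz hx
    (mul_inv_eq_iff_eq_mul.1 e).symm ((C.sq hx).2 f5)))

theorem hre (S : Std i z Q c) {v k : ℕ} (hv : InX i v) (hk : k < 8) : HM z Q c (re i v k) :=
  ((S.R v hv _).2 ⟨k, hk, rfl⟩).hm

theorem std7 (S : Std i z Q c) (hi : i ∈ [0, 1, 2, 5, 6, 7, 9]) (o : One z Q) : False := by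
  obtain ⟨p, -, h1, h2, h3, h4, f⟩ := d3 i hi
  exact no_fx S.toCo o (S.toCo.hm_mul (hre S h1 h3) (hre S h2 h4)) f

theorem mem_l3 (S : Std 8 z Q c) (o : One z Q) (hM : HM z Q c M) (h3 : mm M (mm M M) = I8) (h1 : M ≠ I8) :
    M ∈ l3 := by
  have hi : 8 ∈ [0, 1, 2, 5, 6, 7, 8, 9] := by decide
  have hv := S.orbX hi hM (inX_one 8 (by decide)).1
  obtain ⟨p, hp, e1, e2, e3, e4⟩ := d0 _ hv.1 hv
  obtain ⟨k, hk, t, ht, -, e⟩ := S.fix1 hi (by decide) (S.toCo.hm_mul (hre S e1 e2) hM)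
    (by rw [lm_mm _ _ (by decide), e3])
  have e5 : M = mm (re 8 p.1 p.2) (mm (re 8 1 k) t) := by
    rw [← e, ← mm_assoc, e4, I8_mm (S.toCo.hm_iso hM).1]
  rcases d1 p hp k hk t ht M (List.mem_singleton.2 e5) h3 with h | ⟨v, -, f⟩ | h
  · exact absurd h h1
  · exact (no_fx S.toCo o hM f).elim
  · exact h

theorem eq_one (C : Co z Q c) {y : G} (y3 : y ^ 3 = 1) (hy : y ∈ Q) : y = 1 := by
  have := p4 C hy
  rwa [pow_succ, y3, one_mul] at this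

theorem std8 (S : Std 8 z Q c) (o : One z Q) {y w : G} (y3 : y ^ 3 = 1) (w3 : w ^ 3 = 1) (y1 : y ≠ 1)
    (yz : y * z = z * y) (wz : w * z = z * w) (yw : y * w = w * y) (hn : w ∉ zpowers y) : False := by
  have C := S.toCo
  obtain ⟨M, hM⟩ := C.exists_act yz
  obtain ⟨N, hN⟩ := C.exists_act wz
  have k : ∀ {y M}, y ^ 3 = 1 → y ≠ 1 → Act z Q c y M → M ∈ l3 := fun {y M} y3 y1 h =>
    mem_l3 S o ⟨y, h⟩ (C.uniq (C.act_mul h (C.act_mul h h)) (by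
      rw [show y * (y * y) = y ^ 3 by simp only [pow_succ, pow_zero, one_mul, mul_assoc], y3]
      exact C.act_Q (one_mem Q))) fun e => y1 (eq_one C y3 (C.mem_Q (e ▸ h)))
  have cm : ∀ {x : G}, x ∈ zpowers y → x⁻¹ * w ∈ Q → False := fun {x} hx hq => by
    obtain ⟨n, rfl⟩ := hx
    have e := eq_one C (y := (y ^ n)⁻¹ * w) (by
      rw [((Commute.zpow_left yw n).inv_left).mul_pow, w3, mul_one, inv_pow, ← zpow_natCast, ← zpow_mul,
        mul_comm, zpow_mul, zpow_natCast, y3, one_zpow, inv_one]) hq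
    exact hn ⟨n, inv_mul_eq_one.1 e⟩
  rcases d2 M (k y3 y1 hM) N (k w3 (fun e => hn (e ▸ one_mem _)) hN)
    (C.uniq (C.act_mul hM hN) (yw ▸ C.act_mul hN hM)) with e | e
  · exact cm (mem_zpowers y) (C.div_mem hM (e ▸ hN))
  · exact cm (mul_mem (mem_zpowers y) (mem_zpowers y)) (C.div_mem (C.act_mul hM hM) (e ▸ hN))

end H23M.K9
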