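import Cfsg.Agent.Lib.M75.EA
import Cfsg.Agent.Lib.X9.Main
import Cfsg.Agent.Lib.M75.K9a

/-!
The standard systems of width four.
-/

set_option autoImplicit false
set_option linter.unusedSectionVars false
set_option linter.unusedVariables false

namespace H16M

open Cfsg Subgroup H71KM H23M
open scoped commutatorElement

universe u

variable {G : Type u} [Group G] [Finite G] {Q : Subgroup G} {z : G}

theorem EH.std (E : EH Q z) {i : ℕ} {c : G → ℕ} (hi : i ∈ [0, 1, 2, 5, 6, 7, 8, 9]) (S : H9.X9.Std i z Q c) :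
    False := by
  have o : K9.One z Q := fun y x y3 y1 yz hx xy x2 => E.w3 y y3 y1 yz x hx x2 xy.symm
  by_cases h8 : i = 8
  · subst h8
    obtain ⟨B, hB, h9, hz⟩ := E.e9
    obtain ⟨⟨y, hy⟩, y1⟩ := (ne_bot_iff_exists_ne_one (H := B)).1 fun e => by
      rw [e, card_bot] at h9
      exact absurd h9 (by decide)
    have y1' : y ≠ 1 := fun e => y1 (Subtype.ext e)
    obtain ⟨w, hw, hn⟩ := SetLike.not_le_iff_exists.1 fun l : B ≤ zpowers y => by
      have := card_le_of_le l
      rw [h9, Nat.card_zpowers, orderOf_eq_prime (hB.2 y hy) y1'] at this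
      exact absurd this (by decide)
    exact K9.std8 S o (hB.2 y hy) (hB.2 w hw) y1' (mc.1 (hz hy)) (mc.1 (hz hw)) (hB.le_cent hw y hy) hn
  · refine K9.std7 S ?_ o
    simp only [List.mem_cons, List.not_mem_nil, or_false] at hi ⊢
    omega

end H16M
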