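import Cfsg.Agent.Lib.M75.IBas

/-!
Recognizing the members of the flag.
-/

set_option autoImplicit false
set_option linter.unusedSectionVars false
set_option linter.unusedVariables false

namespace H16M

open Cfsg Subgroup H71KM H23M
open scoped commutatorElement

variable {G : Type*} [Group G] [Finite G] {P : Sylow 3 G} {x z u v : G}

namespace Pw

theorem cjz {a b c : G} (h : a * b * a⁻¹ = c * b) (ac : Commute a c) (l : ℤ) :
    a ^ l * b * (a ^ l)⁻¹ = c ^ l * b := by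
  have h' : a⁻¹ * b * a = c⁻¹ * b := by
    calc a⁻¹ * b * a = a⁻¹ * (c⁻¹ * (a * b * a⁻¹)) * a := by rw [h]; group
      _ = c⁻¹ * b := by rw [← mul_assoc, ac.inv_inv.eq]; group
  induction l using Int.induction_on with
  | zero => simp
  | succ n ih =>
    calc a ^ ((n : ℤ) + 1) * b * (a ^ ((n : ℤ) + 1))⁻¹ = a * (a ^ (n : ℤ) * b * (a ^ (n : ℤ))⁻¹) * a⁻¹ := by group
      _ = c ^ (n : ℤ) * (a * b * a⁻¹) := by rw [ih, ← mul_assoc, (ac.zpow_right n).eq]; group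
      _ = _ := by rw [h]; group
  | pred n ih =>
    calc a ^ (-(n : ℤ) - 1) * b * (a ^ (-(n : ℤ) - 1))⁻¹
        = a⁻¹ * (a ^ (-(n : ℤ)) * b * (a ^ (-(n : ℤ)))⁻¹) * a := by group
      _ = c ^ (-(n : ℤ)) * (a⁻¹ * b * a) := by
        rw [ih, ← mul_assoc, (ac.inv_left.zpow_right (-n)).eq]; group
      _ = _ := by rw [h']; group

theorem cube {a b c : G} (h : b * a * b⁻¹ = c * a) (ca : Commute c a) (cb : Commute c b) (c3 : c ^ 3 = 1) :
    (a * b) ^ 3 = a ^ 3 * b ^ 3 := by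
  have e : b ^ (2 : ℤ) * a * (b ^ (2 : ℤ))⁻¹ = c ^ (2 : ℤ) * a := cjz h cb.symm 2
  calc (a * b) ^ 3 = a * (b * a * b⁻¹) * (b ^ (2 : ℤ) * a * (b ^ (2 : ℤ))⁻¹) * b ^ 3 := by
        rw [pow_three']; group
    _ = (a * c) * (a * c ^ (2 : ℤ)) * a * b ^ 3 := by rw [h, e]; group
    _ = (c * a) * (c ^ (2 : ℤ) * a) * a * b ^ 3 := by rw [← ca.eq, ← (ca.zpow_left 2).eq]
    _ = c * (a * c ^ (2 : ℤ)) * a * a * b ^ 3 := by group
    _ = c ^ 3 * a ^ 3 * b ^ 3 := by rw [← (ca.zpow_left 2).eq, pow_three' a, pow_three' c, zpow_two]; simp only [mul_assoc]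
    _ = _ := by rw [c3, one_mul]

theorem zc {a : G} (h : a ^ 3 = 1) (i : ℤ) : (a ^ i) ^ 3 = 1 := by
  rw [← zpow_natCast, ← zpow_mul, mul_comm, zpow_mul, zpow_natCast, h, one_zpow]

theorem ux (F : Fr x z u v) (k : ℤ) : u ^ k * x * (u ^ k)⁻¹ = z⁻¹ ^ k * x := by
  refine cjz ?_ (Commute.inv_right F.zu.symm) k
  calc u * x * u⁻¹ = z⁻¹ * (z * u) * x * u⁻¹ := by group
    _ = _ := by rw [F.zu, ← F.xu]; group

theorem vx (F : Fr x z u v) (k : ℤ) : v ^ k * x * (v ^ k)⁻¹ = u⁻¹ ^ k * x := by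
  refine cjz ?_ (Commute.inv_right F.uv.symm) k
  calc v * x * v⁻¹ = u⁻¹ * (u * v) * x * v⁻¹ := by group
    _ = _ := by rw [F.uv, ← F.xv]; group

theorem comm_of {d f a : G} (h : d * a * d⁻¹ = f * a * f⁻¹) : d⁻¹ * f * a = a * (d⁻¹ * f) := by
  calc d⁻¹ * f * a = d⁻¹ * (f * a * f⁻¹) * f := by group
    _ = _ := by rw [← h]; group

end Pw

open Pw

theorem Fr.pw1 (F : Fr x z u v) {f : G} (f3 : f ^ 3 = 1) (fz : f * z = z * f)
    (fx : f * x * f⁻¹ * x⁻¹ ∈ zpowers z) (fu : f * u * f⁻¹ * u⁻¹ ∈ zpowers z) (hb : Big f) : f ∈ S2 z u := by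
  obtain ⟨i, hi⟩ := mem_zpowers_iff.1 fx
  obtain ⟨j, hj⟩ := mem_zpowers_iff.1 fu
  have zu : Commute z u := F.zu
  have zx : Commute z x := F.zx
  have e1 : x ^ j * u * (x ^ j)⁻¹ = z ^ j * u := cjz (F.xu.trans zu.eq.symm) zx.symm j
  have c1 : (u ^ (-i) * x ^ j)⁻¹ * f * x = x * ((u ^ (-i) * x ^ j)⁻¹ * f) := comm_of (by
    calc u ^ (-i) * x ^ j * x * (u ^ (-i) * x ^ j)⁻¹ = u ^ (-i) * x * (u ^ (-i))⁻¹ := by group
      _ = z ^ i * x := by rw [ux F]; group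
      _ = _ := by rw [hi]; group)
  have c2 : (u ^ (-i) * x ^ j)⁻¹ * f * u = u * ((u ^ (-i) * x ^ j)⁻¹ * f) := comm_of (by
    calc u ^ (-i) * x ^ j * u * (u ^ (-i) * x ^ j)⁻¹
        = u ^ (-i) * (x ^ j * u * (x ^ j)⁻¹) * (u ^ (-i))⁻¹ := by group
      _ = z ^ j * u := by rw [e1, ← mul_assoc, ← (zu.zpow_zpow j (-i)).eq]; group
      _ = _ := by rw [hj]; group)
  have c3 : Commute z ((u ^ (-i) * x ^ j)⁻¹ * f) :=
    ((zu.zpow_right _).mul_right (zx.zpow_right _)).inv_right.mul_right fz.symm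
  have d3 : (u ^ (-i) * x ^ j) ^ 3 = 1 := by
    rw [cube (c := (z ^ j) ^ (-i)) _ ((zu.zpow_left j).zpow_zpow _ _) ((zx.zpow_left j).zpow_zpow _ _)
      (zc (zc F.z3 _) _), zc F.u3, zc F.x3, one_mul]
    rw [← conj_zpow, e1, (zu.zpow_left j).mul_zpow]
  obtain ⟨y, rfl⟩ : ∃ y, f = u ^ (-i) * x ^ j * y := ⟨_, (mul_inv_cancel_left _ f).symm⟩
  rw [inv_mul_cancel_left] at c1 c2 c3
  have c4 : Commute (u ^ (-i) * x ^ j) y :=
    (Commute.zpow_left c2.symm _).mul_left (Commute.zpow_left c1.symm _)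
  rw [c4.mul_pow, d3, one_mul] at f3
  have m : u ^ (-i) * y ∈ S2 z u := mul_mem (mem_sup_right (zpow_mem_zpowers _ _))
    (mem_sup_left (F.max' f3 c3.eq.symm c1 c2))
  rw [mul_assoc, (Commute.zpow_left c1.symm j).eq, ← mul_assoc] at hb ⊢
  rcases (zp3 F.x3).1 (zpow_mem_zpowers x j) with e | e | e <;> rw [e] at hb ⊢
  · rwa [mul_one]
  · exact absurd hb (F.nb_U m).1
  · exact absurd hb (F.nb_U m).2

theorem Fr.pw2 (F : Fr x z u v) {f : G} (f3 : f ^ 3 = 1) (fz : f * z = z * f) (fu : f * u = u * f)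
    (fx : f * x * f⁻¹ * x⁻¹ ∈ S2 z u) (fv : f * v * f⁻¹ * v⁻¹ ∈ S2 z u) : f ∈ S3 z u v := by
  obtain ⟨i, j, hi⟩ := (mem_S2 F.zu).1 fx
  have zu : Commute z u := F.zu
  have zv : Commute z v := F.zv
  have uv : Commute u v := F.uv
  have dW : v ^ (-j) * u ^ (-i) ∈ S3 z u v :=
    mul_mem (mem_sup_right (zpow_mem_zpowers _ _)) (mem_sup_left (mem_sup_right (zpow_mem_zpowers _ _)))
  have vW : v ∈ S3 z u v := mem_sup_right (mem_zpowers v)
  have cW : ∀ a ∈ S3 z u v, ∀ b ∈ S3 z u v, Commute a b := fun a ha b hb => F.ea_W.le_cent hb a ha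
  have c1 : (v ^ (-j) * u ^ (-i))⁻¹ * f * x = x * ((v ^ (-j) * u ^ (-i))⁻¹ * f) := comm_of (by
    calc v ^ (-j) * u ^ (-i) * x * (v ^ (-j) * u ^ (-i))⁻¹
        = v ^ (-j) * (u ^ (-i) * x * (u ^ (-i))⁻¹) * (v ^ (-j))⁻¹ := by group
      _ = z⁻¹ ^ (-i) * (v ^ (-j) * x * (v ^ (-j))⁻¹) := by
        rw [ux F, ← mul_assoc, ← (zv.inv_left.zpow_zpow (-i) (-j)).eq]; group
      _ = z ^ i * u ^ j * x := by rw [vx F]; group
      _ = _ := by rw [← hi]; group)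
  have c2 : Commute u ((v ^ (-j) * u ^ (-i))⁻¹ * f) :=
    ((uv.zpow_right _).mul_right ((Commute.refl u).zpow_right _)).inv_right.mul_right fu.symm
  have c3 : Commute z ((v ^ (-j) * u ^ (-i))⁻¹ * f) :=
    ((zv.zpow_right _).mul_right (zu.zpow_right _)).inv_right.mul_right fz.symm
  obtain ⟨y, rfl⟩ : ∃ y, f = v ^ (-j) * u ^ (-i) * y := ⟨_, (mul_inv_cancel_left _ f).symm⟩
  rw [inv_mul_cancel_left] at c1 c2 c3
  obtain ⟨c, hc, e⟩ : ∃ c ∈ S2 z u, y * v * y⁻¹ = c * v := by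
    refine ⟨_, fv, ?_⟩
    generalize v ^ (-j) * u ^ (-i) = d at *
    have := cW _ (mul_mem (mem_sup_left fv) vW) _ dW
    calc y * v * y⁻¹ = d⁻¹ * (d * y * v * (d * y)⁻¹ * v⁻¹ * v * d) := by group
      _ = _ := by rw [this.eq]; group
  have cx : c * x = x * c := by
    have h1 : x * (y * v * y⁻¹) * x⁻¹ = y * (v * u) * y⁻¹ := by
      rw [← F.xv]
      calc x * (y * v * y⁻¹) * x⁻¹ = (x * y) * v * (x * y)⁻¹ := by group
        _ = _ := by rw [← c1]; group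
    have h2 : y * (v * u) * y⁻¹ = c * (x * v * x⁻¹) := by
      rw [F.xv, ← mul_assoc c, ← e, mul_assoc _ y⁻¹, ← c2.inv_right.eq]; group
    rw [e, h2] at h1
    calc c * x = c * (x * v * x⁻¹) * (x * v⁻¹) := by group
      _ = _ := by rw [← h1]; group
  have cU : ∀ a ∈ S2 z u, c * a = a * c := fun a ha => (F.ea_U.le_cent hc a ha).symm
  have cz := F.max' (F.ea_U.2 c hc) (cU z (mem_sup_left (mem_zpowers z))) cx
    (cU u (mem_sup_right (mem_zpowers u)))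
  have cy : Commute c y := by
    obtain ⟨k, rfl⟩ := mem_zpowers_iff.1 cz
    exact c3.zpow_left k
  have cv := cW c (mem_sup_left hc) v vW
  rw [cube (c := c ^ (-j)) _ ((cW c (mem_sup_left hc) _ dW).zpow_left _) (cy.zpow_left _)
    (zc (F.ea_U.2 c hc) _), F.ea_W.2 _ dW, one_mul] at f3
  · exact mul_mem dW (mem_sup_left (mem_sup_left (F.max' f3 c3.eq.symm c1 c2.eq.symm)))
  · calc y * (v ^ (-j) * u ^ (-i)) * y⁻¹ = (y * v * y⁻¹) ^ (-j) * (y * u ^ (-i)) * y⁻¹ := by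
          rw [conj_zpow]; group
      _ = _ := by rw [e, cv.mul_zpow, ← (c2.zpow_left (-i)).eq]; group

end H16M
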