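import Cfsg.Agent.Lib.M75.IFr
import Cfsg.Agent.Lib.M75.IPw
import Cfsg.Agent.Lib.Transfer.NormalComplement

/-!
Two flags for the same `x` and `z` are conjugate.
-/

set_option autoImplicit false
set_option linter.unusedSectionVars false
set_option linter.unusedVariables false

namespace H16M

open Cfsg Subgroup H71KM H23M
open scoped commutatorElement

variable {G : Type*} [Group G] [Finite G] {P : Sylow 3 G} {x z u v : G}

namespace Adj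

open FrX

/-- the stabilizer of the coset `K a`. -/
theorem st (K : Subgroup G) (a : G) : ∃ L : Subgroup G, ∀ n, n ∈ L ↔ n ∈ 𝐍(K) ∧ n * a * n⁻¹ * a⁻¹ ∈ K := by
  refine ⟨⟨⟨⟨{n | n ∈ 𝐍(K) ∧ n * a * n⁻¹ * a⁻¹ ∈ K}, fun {n m} hn hm => ⟨mul_mem hn.1 hm.1, ?_⟩⟩,
    one_mem _, by simp⟩, fun {n} hn => ⟨inv_mem hn.1, ?_⟩⟩, fun _ => Iff.rfl⟩
  · convert mul_mem (cj_mem hn.1 hm.2) hn.2 using 1; group
  · convert cj_mem (inv_mem hn.1) (inv_mem hn.2) using 1; group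

theorem flip {K : Subgroup G} {a b : G} (h : a * b * a⁻¹ * b⁻¹ ∈ K) : b * a * b⁻¹ * a⁻¹ ∈ K := by
  convert inv_mem h using 1; group

theorem one_of {K : Subgroup G} {a b : G} (h : a * b = b * a) : a * b * a⁻¹ * b⁻¹ ∈ K := by
  rw [h]; simp

theorem cube {a : G} (k : G) (h : a ^ 3 = 1) : (k * a * k⁻¹) ^ 3 = 1 := by
  rw [conj_pow, h, mul_one, mul_inv_cancel]

theorem xu (F : Fr x z u v) : x * u * x⁻¹ * u⁻¹ ∈ zpowers z := F.xU (mem_sup_right (mem_zpowers u))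

theorem xv (F : Fr x z u v) : x * v * x⁻¹ * v⁻¹ ∈ S2 z u := by
  rw [F.xv, ← F.uv, mul_inv_cancel_right]
  exact mem_sup_right (mem_zpowers u)

theorem star (h : Hy0 G) (F : Fr x z u v) (S : Sylow 3 G) (hx : x ∈ S) (hz : z ∈ S) (hu : u ∈ S) :
    ∃ z' u' v', FrP S x z' u' v' ∧ zpowers z' = zpowers z ∧ S2 z' u' = S2 z u := by
  obtain ⟨z', u', v', F', e⟩ := exists_frP h S F.ea_E F.card_E (sup_le (zpowers_le.2 hz) (zpowers_le.2 hx))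
    (mem_sup_right (mem_zpowers x)) F.nb
  have ez := zp_eq F.z3 (F.nb_E (e ▸ mem_sup_left (mem_zpowers z'))
    (F'.big_W (mem_sup_left (mem_sup_left (mem_zpowers z'))))) F'.z1
  refine ⟨z', u', v', F', ez, (eq_of_le_of_card_ge (sup_le (ez.ge.trans le_sup_left) (zpowers_le.2 ?_))
    (by rw [F.card_U, F'.card_U])).symm⟩
  exact F'.pw1 F.u3 (F'.Pz u hu) (ez ▸ flip (xu F)) (F'.Pu u hu)
    (F.big_W (mem_sup_left (mem_sup_right (mem_zpowers u))))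

end Adj

open Adj

theorem Fr.adj (h : Hy0 G) (F : Fr x z u v) {u' v' : G} (u3 : u' ^ 3 = 1) (v3 : v' ^ 3 = 1)
    (zu : z * u' = u' * z) (zv : z * v' = v' * z) (uv : u' * v' = v' * u') (nu : u' ∉ zpowers z)
    (nv : v' ∉ S2 z u') (xu : x * u' * x⁻¹ * u'⁻¹ ∈ zpowers z) (xv : x * v' * x⁻¹ * v'⁻¹ ∈ S2 z u') :
    ∃ n, n * z = z * n ∧ n * x * n⁻¹ * x⁻¹ ∈ S2 z u ∧ n * u' * n⁻¹ ∈ S2 z u ∧ n * v' * n⁻¹ ∈ S3 z u v := by
  have bu : Big u' := big_of (ea_S3 F.z3 u3 v3 zu zv uv) (card_S3 F.z3 F.z1 u3 v3 zu zv uv nu nv).ge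
    fun a ha => mc.2 ((ea_S3 F.z3 u3 v3 zu zv uv).le_cent (mem_sup_left (mem_sup_right (mem_zpowers u'))) a ha)
  have zU : z ∈ S2 z u := mem_sup_left (mem_zpowers z)
  have uU : u ∈ S2 z u := mem_sup_right (mem_zpowers u)
  obtain ⟨L, hL⟩ := st (zpowers z) x
  obtain ⟨L1, hL1⟩ := st (zpowers z) u
  obtain ⟨L2, hL2⟩ := st (S2 z u) x
  have mN : ∀ n, n * z = z * n → n * x * n⁻¹ * x⁻¹ ∈ zpowers z → n ∈ centralizer {z} ⊓ L := fun n h1 h2 =>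
    ⟨mc.2 h1, (hL n).2 ⟨n_zp z (mc.2 h1), h2⟩⟩
  have mH : ∀ n, n * z = z * n → n * u * n⁻¹ * u⁻¹ ∈ zpowers z → n * x * n⁻¹ * x⁻¹ ∈ S2 z u →
      n ∈ centralizer {z} ⊓ L1 ⊓ L2 := fun n h1 h2 h3 =>
    ⟨⟨mc.2 h1, (hL1 n).2 ⟨n_zp z (mc.2 h1), h2⟩⟩, (hL2 n).2 ⟨mem_norm_S2 (by rwa [h1, mul_inv_cancel_right])
      (by simpa using mul_mem (mem_sup_left h2) uU), h3⟩⟩
  -- first step
  have u'N := mN u' zu.symm (Adj.flip xu)
  obtain ⟨S, k, hk, hS, hf⟩ := H4.exists_conj_le_common_sylow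
    (F.p3.to_le (sup_le_sup_right (le_sup_left : S2 z u ≤ S3 z u v) (zpowers x)))
    (sup_le (sup_le (zpowers_le.2 (mN z rfl (one_of F.zx))) (zpowers_le.2 (mN u F.zu.symm (Adj.flip (Adj.xu F)))))
      (zpowers_le.2 (mN x F.zx.symm (one_of rfl)))) (ea_zp3 u3).isPGroup (zpowers_le.2 u'N)
  obtain ⟨z1, u1, v1, F1, ez, eU⟩ := star h F S (hS (mem_sup_right (mem_zpowers x))) (hS (mem_sup_left zU))
    (hS (mem_sup_left uU))
  have fS := hf u' (mem_zpowers u')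
  have fN := mul_mem (mul_mem hk u'N) (inv_mem hk)
  have kz : k * z = z * k := mc.1 hk.1
  have fU : k * u' * k⁻¹ ∈ S2 z u :=
    eU ▸ F1.pw1 (cube k u3) (F1.Pz _ fS) (ez ▸ ((hL _).1 fN.2).2) (F1.Pu _ fS) (big_conj bu k)
  have eF : S2 z (k * u' * k⁻¹) = S2 z u := eq_of_le_of_card_ge (sup_le le_sup_left (zpowers_le.2 fU)) (by
    rw [F.card_U, card_S2 F.z3 F.z1 (cube k u3) (mc.1 fN.1).symm fun hn => nu ?_]
    simpa [mul_assoc] using cj_mem (inv_mem (n_zp z hk.1)) hn)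
  have vz : k * v' * k⁻¹ * z = z * (k * v' * k⁻¹) :=
    mc.1 (mul_mem (mul_mem hk.1 (mc.2 zv.symm)) (inv_mem hk.1))
  have vC : k * v' * k⁻¹ ∈ 𝐂(S2 z u) := by
    rw [← eF]
    refine mem_cent_S2.2 ⟨vz, ?_⟩
    calc k * v' * k⁻¹ * (k * u' * k⁻¹) = k * (v' * u') * k⁻¹ := by group
      _ = _ := by rw [← uv]; group
  have vH : k * v' * k⁻¹ ∈ centralizer {z} ⊓ L1 ⊓ L2 := by
    refine mH _ vz (one_of (vC u uU).symm) ?_
    obtain ⟨i, hi⟩ := mem_zpowers_iff.1 ((hL _).1 (inv_mem hk).2).2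
    obtain ⟨a, b, hab⟩ := (mem_S2 zu).1 (mul_mem (mul_mem (mem_sup_left (zpow_mem_zpowers z i)) (Adj.flip xv))
      (inv_mem (mem_sup_left (zpow_mem_zpowers z i))))
    have e : k⁻¹ * x * k = z ^ i * x := by rw [hi]; group
    have : k * v' * k⁻¹ * x * (k * v' * k⁻¹)⁻¹ * x⁻¹ = z ^ a * (k * u' * k⁻¹) ^ b := by
      calc _ = k * (v' * (k⁻¹ * x * k) * v'⁻¹ * (k⁻¹ * x * k)⁻¹) * k⁻¹ := by group
        _ = k * (z ^ i * (v' * x * v'⁻¹ * x⁻¹) * (z ^ i)⁻¹) * k⁻¹ := by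
          rw [e, ← mul_assoc v', ← (Commute.zpow_left zv i).eq]; group
        _ = _ := by rw [hab, ← mul_assoc, (Commute.zpow_right kz a).eq, conj_zpow]; group
    rw [this]
    exact mul_mem (zpow_mem zU a) (zpow_mem fU b)
  -- second step
  have vH' := mH v F.zv.symm (one_of F.uv.symm) (Adj.flip (Adj.xv F))
  obtain ⟨S', k', hk', hS', hf'⟩ := H4.exists_conj_le_common_sylow F.p3
    (sup_le (sup_le (sup_le (zpowers_le.2 (mH z rfl (one_of F.zu) (one_of F.zx)))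
      (zpowers_le.2 (mH u F.zu.symm (one_of rfl) (mem_sup_left (Adj.flip (Adj.xu F)))))) (zpowers_le.2 vH'))
      (zpowers_le.2 (mH x F.zx.symm (Adj.xu F) (one_of rfl)))) (ea_zp3 (cube k v3)).isPGroup (zpowers_le.2 vH)
  obtain ⟨z2, u2, v2, F2, ez2, eU2⟩ := star h F S' (hS' (mem_sup_right (mem_zpowers x)))
    (hS' (mem_sup_left (mem_sup_left zU))) (hS' (mem_sup_left (mem_sup_left uU)))
  have key : ∀ y ∈ S', y ^ 3 = 1 → y ∈ 𝐂(S2 z u) → y ∈ L2 → y ∈ S3 z2 u2 v2 := fun y yS y3 yC yL =>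
    F2.pw2 y3 (F2.Pz y yS) (yC u2 (eU2 ▸ mem_sup_right (mem_zpowers u2))).symm (eU2 ▸ ((hL2 y).1 yL).2)
      (F2.Pv y yS)
  have eW : S3 z u v = S3 z2 u2 v2 := eq_of_le_of_card_ge (sup_le (eU2.ge.trans le_sup_left) (zpowers_le.2
    (key v (hS' (mem_sup_left (mem_sup_right (mem_zpowers v)))) F.v3 (mem_cent_S2.2 ⟨F.zv.symm, F.uv.symm⟩)
      vH'.2))) (by rw [F.card_W, F2.card_W])
  have kN := ((hL2 _).1 hk'.2).1
  refine ⟨k' * k, mc.1 (mul_mem hk'.1.1 hk.1), ?_, ?_, ?_⟩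
  · convert mul_mem (cj_mem kN (mem_sup_left ((hL _).1 hk.2).2)) ((hL2 _).1 hk'.2).2 using 1; group
  · rw [cj_mul]; exact cj_mem kN fU
  · rw [cj_mul, eW]
    refine key _ (hf' _ (mem_zpowers _)) (cube k' (cube k v3)) (fun w hw => ?_)
      (mul_mem (mul_mem hk'.2 vH.2) (inv_mem hk'.2))
    have := vC _ (cj_mem (inv_mem kN) hw)
    generalize k * v' * k⁻¹ = y at *
    calc w * (k' * y * k'⁻¹) = k' * (k'⁻¹ * w * k'⁻¹⁻¹ * y) * k'⁻¹ := by group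
      _ = _ := by rw [this]; group

end H16M
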