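import Cfsg.Agent.Lib.M75.Defs

/-!
The isolated case: frames in a Sylow 3-subgroup (see `blueprint/M75/README_h16.md`).
-/

set_option autoImplicit false
set_option linter.unusedSectionVars false
set_option linter.unusedVariables false

namespace H16M

open Cfsg Subgroup H71KM H23M

variable {G : Type*} [Group G]

/-- no involution centralizes an `E₉`. -/
def NG (G : Type*) [Group G] : Prop := ∀ (B : Subgroup G) (t : G), ¬ Good 3 9 B t

/-- the centralizer of `y` has 3-rank at least 3. -/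
abbrev Big (y : G) : Prop := R3 (zpowers y)

/-- the subgroup generated by two elements. -/
abbrev S2 (a b : G) : Subgroup G := zpowers a ⊔ zpowers b

/-- the subgroup generated by three elements. -/
abbrev S3 (a b c : G) : Subgroup G := zpowers a ⊔ zpowers b ⊔ zpowers c

/-- `x` acts uniserially on `⟨z, u, v⟩ ≅ E₂₇` and lies in no `E₂₇`. -/
structure Fr (x z u v : G) : Prop where
  x3 : x ^ 3 = 1
  z3 : z ^ 3 = 1
  u3 : u ^ 3 = 1
  v3 : v ^ 3 = 1
  z1 : z ≠ 1
  zu : z * u = u * z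
  zv : z * v = v * z
  uv : u * v = v * u
  zx : z * x = x * z
  xu : x * u * x⁻¹ = u * z
  xv : x * v * x⁻¹ = v * u
  nb : ¬ Big x

/-- a frame whose flag is stabilized by the Sylow subgroup `P`. -/
structure FrP (P : Sylow 3 G) (x z u v : G) : Prop extends Fr x z u v where
  xP : x ∈ P
  zP : z ∈ P
  uP : u ∈ P
  vP : v ∈ P
  Pz : ∀ g ∈ P, g * z = z * g
  Pu : ∀ g ∈ P, g * u * g⁻¹ * u⁻¹ ∈ zpowers z
  Pv : ∀ g ∈ P, g * v * g⁻¹ * v⁻¹ ∈ S2 z u

/-- `g` acts on the flag with signs `a`, `b`, `c`. -/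
def Sg (z u v g : G) (a b c : ℤ) : Prop :=
  g * z * g⁻¹ = z ^ a ∧ g * u * g⁻¹ * (u ^ b)⁻¹ ∈ zpowers z ∧ g * v * g⁻¹ * (v ^ c)⁻¹ ∈ S2 z u

/-- the centralizer of `⟨z, x⟩` in `P`. -/
abbrev XX (P : Sylow 3 G) (x z : G) : Subgroup G := (P : Subgroup G) ⊓ 𝐂(S2 z x)

/-- the standing situation of the isolated case. -/
structure Cx (P : Sylow 3 G) (x z u v : G) : Prop extends FrP P x z u v where
  hyp : Hyp G
  ng : NG G
  fn : ¬ 3 ∣ (P : Subgroup G).relIndex 𝐍(S2 z x)

/-- the final data hold for every good pair. -/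
def All (G : Type*) [Group G] : Prop := ∀ (B : Subgroup G) (t : G), Good 3 9 B t → Fin3 B t

/-- an involution centralizes an `E₂₇`. -/
def K27 (G : Type*) [Group G] : Prop :=
  ∃ (E : Subgroup G) (s : G), EA 3 E ∧ 27 ≤ Nat.card E ∧ s ≠ 1 ∧ s * s = 1 ∧ E ≤ centralizer {s}

/-- some involution with centralizer of odd index has centralizer of order `n`. -/
def CI (G : Type*) [Group G] (n : ℕ) : Prop :=
  ∃ s : G, orderOf s = 2 ∧ Nat.card (centralizer ({s} : Set G)) = n ∧ Odd (centralizer ({s} : Set G)).index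

theorem eqns_idefs : True := by
  have := @NG.eq_1.{0}
  have := @Sg.eq_1.{0}
  have := @All.eq_1.{0}
  have := @K27.eq_1.{0}
  have := @CI.eq_1.{0}
  trivial

end H16M
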