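import Cfsg.Agent.Lib.M75.IBas

/-!
Existence of frames.
-/

set_option autoImplicit false
set_option linter.unusedSectionVars false
set_option linter.unusedVariables false

namespace H16M

open Cfsg Subgroup H71KM H23M
open scoped commutatorElement

variable {G : Type*} [Group G] [Finite G] {P : Sylow 3 G} {x z u v : G}

namespace FrX

theorem step (P : Sylow 3 G) {W : Subgroup G} (hWP : W ≤ P) (hN : (P : Subgroup G) ≤ 𝐍(W)) (K : Subgroup G)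
    (h : Nat.card K < Nat.card W) : ∃ a ∈ W, a ∉ K ∧ ∀ g ∈ P, g * a * g⁻¹ * a⁻¹ ∈ K := by
  obtain ⟨a, ha, haK, -, hc⟩ := H5.exists_step_of_le P.2 K hWP hN
    (fun hle => absurd (card_le_of_le hle) (by omega))
  refine ⟨a, ha, haK, fun g hg => ?_⟩
  have := inv_mem (hc g hg)
  rwa [commutatorElement_inv, commutatorElement_def] at this

theorem zp_eq {a b : G} (ha : a ^ 3 = 1) (hb : b ∈ zpowers a) (b1 : b ≠ 1) : zpowers b = zpowers a := by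
  rcases (zp3 ha).1 hb with rfl | rfl | rfl
  · exact absurd rfl b1
  · rfl
  · exact zpowers_inv

theorem card_zp {a : G} (ha : a ^ 3 = 1) : Nat.card (zpowers a) ≤ 3 := by
  rw [Nat.card_zpowers]
  exact Nat.le_of_dvd (by norm_num) (orderOf_dvd_of_pow_eq_one ha)

theorem comm1 {a b : G} (h : a * b * a⁻¹ * b⁻¹ = 1) : a * b = b * a := by
  rwa [mul_inv_eq_one, mul_inv_eq_iff_eq_mul] at h

/-- the commutator condition passes from `u` to `⟨z, u⟩`. -/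
theorem cj_S2 {g w : G} (zu : z * u = u * z) (gz : g * z = z * g) (gu : g * u * g⁻¹ * u⁻¹ ∈ zpowers z)
    (hw : w ∈ S2 z u) : g * w * g⁻¹ * w⁻¹ ∈ zpowers z := by
  obtain ⟨i, j, rfl⟩ := (mem_S2 zu).1 hw
  obtain ⟨k, hk⟩ := mem_zpowers_iff.1 gu
  have e : g * u * g⁻¹ = z ^ k * u := by rw [hk]; group
  have : g * (z ^ i * u ^ j) * g⁻¹ * (z ^ i * u ^ j)⁻¹ = z ^ (k * j) := by
    calc g * (z ^ i * u ^ j) * g⁻¹ * (z ^ i * u ^ j)⁻¹
        = (g * z ^ i) * g⁻¹ * (g * u * g⁻¹) ^ j * (u ^ j)⁻¹ * (z ^ i)⁻¹ := by rw [conj_zpow]; group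
      _ = _ := by
        rw [(Commute.zpow_right gz i).eq, e, (Commute.zpow_left zu k).mul_zpow]; group
  rw [this]
  exact zpow_mem_zpowers _ _

end FrX

open FrX

theorem exists_frP (h : Hy0 G) (P : Sylow 3 G) {E : Subgroup G} (hE : EA 3 E) (h9 : Nat.card E = 9)
    (hEP : E ≤ P) {x : G} (hx : x ∈ E) (nb : ¬ Big x) : ∃ z u v, FrP P x z u v ∧ E = S2 z x := by
  obtain ⟨W, hW, h27, hWP, hN, -⟩ := h.nW P
  have cW : ∀ a ∈ W, ∀ b ∈ W, a * b = b * a := fun a ha b hb => hW.le_cent hb a ha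
  have bW : ∀ w ∈ W, Big w := fun w hw => big_of hW h27 fun a ha => mc.2 (cW a ha w hw)
  have x3 := hE.2 x hx
  have xP : x ∈ P := hEP hx
  obtain ⟨z0, z0W, z01, hz0⟩ := step P hWP hN ⊥ (by rw [card_bot]; omega)
  have z3 := hW.2 _ z0W
  have z1 : z0 ≠ 1 := fun e => z01 (mem_bot.2 e)
  have Pz : ∀ g ∈ P, g * z0 = z0 * g := fun g hg => comm1 (mem_bot.1 (hz0 g hg))
  obtain ⟨u0, u0W, u0n, hu0⟩ := step P hWP hN (zpowers z0) (by have := card_zp z3; omega)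
  have c9 := card_S2 z3 z1 (hW.2 _ u0W) (cW _ z0W _ u0W) u0n
  obtain ⟨v, vW, vn, hv⟩ := step P hWP hN (S2 z0 u0) (by omega)
  have zW : zpowers z0 ≤ W := zpowers_le.2 z0W
  have UW : S2 z0 u0 ≤ W := sup_le zW (zpowers_le.2 u0W)
  have M : ∀ y, y ^ 3 = 1 → y ∈ 𝐂(E) → y ∈ E := fun y y3 hy => by
    by_contra hn
    exact nb (big_of (hE.sup hy y3) (by rw [card_sup hy y3 hn, h9])
      (sup_le (fun a ha => mc.2 (hE.le_cent hx a ha)) (zpowers_le.2 (mc.2 (hy x hx).symm))))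
  have z0E : z0 ∈ E := M _ z3 fun e he => Pz e (hEP he)
  have xn : x ∉ zpowers z0 := fun hx' => nb (big_zp (bW _ z0W) hx')
  have hE2 : E = S2 z0 x := (eq_of_le_of_card_ge (sup_le (zpowers_le.2 z0E) (zpowers_le.2 hx))
    (by rw [card_S2 z3 z1 x3 (Pz x xP).symm xn, h9])).symm
  have CW : ∀ y ∈ W, x * y = y * x → y ∈ zpowers z0 := fun y yW yx => by
    have yE : y ∈ S2 z0 x := by
      rw [← hE2]
      exact M y (hW.2 y yW) (by rw [hE2]; exact mem_cent_S2.2 ⟨cW _ yW _ z0W, yx.symm⟩)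
    obtain ⟨i, j, rfl⟩ := (mem_S2 (Pz x xP).symm).1 yE
    have : x ^ j ∈ W := (W.mul_mem_cancel_left (zpow_mem z0W i)).1 yW
    rcases (zp3 x3).1 (zpow_mem_zpowers x j) with e | e | e <;> rw [e] at this ⊢
    · rw [mul_one]; exact zpow_mem_zpowers _ _
    · exact absurd (bW _ this) nb
    · exact absurd (big_inv.1 (bW _ this)) nb
  have hU : ∀ w ∈ S2 z0 u0, ∀ g ∈ P, g * w * g⁻¹ * w⁻¹ ∈ zpowers z0 := fun w hw g hg =>
    cj_S2 (cW _ z0W _ u0W) (Pz g hg) (hu0 g hg) hw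
  obtain ⟨u, hu⟩ : ∃ u, u = x * v * x⁻¹ * v⁻¹ := ⟨_, rfl⟩
  have uU : u ∈ S2 z0 u0 := hu ▸ hv x xP
  have un : u ∉ zpowers z0 := fun hn => by
    obtain ⟨c, hc⟩ : ∃ c, c = x * u0 * x⁻¹ * u0⁻¹ := ⟨_, rfl⟩
    have cz : c ∈ zpowers z0 := hc ▸ hu0 x xP
    rw [← zp_eq z3 cz fun e => u0n (CW _ u0W (comm1 (hc ▸ e)))] at hn
    obtain ⟨m, hm⟩ := mem_zpowers_iff.1 hn
    have e1 : x * u0 * x⁻¹ = c * u0 := by rw [hc]; group
    have e2 : x * v * x⁻¹ = v * c ^ m := by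
      rw [← cW _ (zpow_mem (zW cz) m) _ vW, hm, hu]; group
    have := CW (v * u0 ^ (-m)) (mul_mem vW (zpow_mem u0W _)) (by
      calc x * (v * u0 ^ (-m)) = (x * v * x⁻¹) * (x * u0 * x⁻¹) ^ (-m) * x := by rw [conj_zpow]; group
        _ = _ := by rw [e1, e2, (show Commute c u0 from cW _ (zW cz) _ u0W).mul_zpow]; group)
    exact vn ((mul_mem_cancel_right (mem_sup_right (zpow_mem_zpowers u0 (-m)))).1 (mem_sup_left this))
  obtain ⟨z, hz⟩ : ∃ z, z = x * u * x⁻¹ * u⁻¹ := ⟨_, rfl⟩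
  have zz : z ∈ zpowers z0 := hz ▸ hU u uU x xP
  have zn : z ≠ 1 := fun e => un (CW _ (UW uU) (comm1 (hz ▸ e)))
  have ez := zp_eq z3 zz zn
  have Pz' : ∀ g ∈ P, g * z = z * g := fun g hg => by
    obtain ⟨k, rfl⟩ := mem_zpowers_iff.1 zz
    exact Commute.zpow_right (Pz g hg) k
  have eU : S2 z u = S2 z0 u0 := eq_of_le_of_card_ge (sup_le (ez.le.trans le_sup_left) (zpowers_le.2 uU)) (by
    rw [c9, card_S2 (hW.2 _ (zW zz)) zn (hW.2 _ (UW uU)) (cW _ (zW zz) _ (UW uU)) (ez ▸ un)])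
  refine ⟨z, u, v, ⟨⟨x3, hW.2 _ (zW zz), hW.2 _ (UW uU), hW.2 _ vW, zn, cW _ (zW zz) _ (UW uU), cW _ (zW zz) _ vW,
    cW _ (UW uU) _ vW, (Pz' x xP).symm, ?_, ?_, nb⟩, xP, hWP (zW zz), hWP (UW uU), hWP vW, Pz',
    fun g hg => ez ▸ hU u uU g hg, fun g hg => eU ▸ hv g hg⟩, ?_⟩
  · rw [← cW _ (zW zz) _ (UW uU), hz]; group
  · rw [← cW _ (UW uU) _ vW, hu]; group
  · rw [hE2, S2, S2, ez]

end H16M
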