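import Cfsg.Agent.Lib.M75.IBas

/-!
Signs on the flag.
-/

set_option autoImplicit false
set_option linter.unusedSectionVars false
set_option linter.unusedVariables false

namespace H16M

open Cfsg Subgroup H71KM H23M
open scoped commutatorElement

variable {G : Type*} [Group G] [Finite G] {P : Sylow 3 G} {x z u v : G}

namespace ISg

/-- coordinates on `⟨z, u, v⟩` -/
def e (z u v : G) (i j k : ℤ) : G := z ^ i * u ^ j * v ^ k

theorem eqns_isg : True := by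
  have := @e.eq_1.{0}
  trivial

theorem mem_of {y : G} {H : Subgroup G} {k : ℤ} (h3 : y ^ 3 = 1) (hk : ¬ 3 ∣ k) (h : y ^ k ∈ H) : y ∈ H := by
  have h3' : y ^ (3 : ℤ) = 1 := by exact_mod_cast h3
  obtain ⟨t, ht | ht⟩ : ∃ t, k = 3 * t + 1 ∨ k = 3 * t + -1 := ⟨(k + 1) / 3, by omega⟩
  · rwa [ht, zpow_add, zpow_mul, h3', one_zpow, one_mul, zpow_one] at h
  · rwa [ht, zpow_add, zpow_mul, h3', one_zpow, one_mul, zpow_neg_one, inv_mem_iff] at h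

theorem zp_one {y : G} {k : ℤ} (h3 : y ^ 3 = 1) (hk : 3 ∣ k) : y ^ k = 1 := by
  have h3' : y ^ (3 : ℤ) = 1 := by exact_mod_cast h3
  obtain ⟨t, rfl⟩ := hk
  rw [zpow_mul, h3', one_zpow]

theorem ez : z = e z u v 1 0 0 := by simp [e]
theorem eu : u = e z u v 0 1 0 := by simp [e]
theorem ev : v = e z u v 0 0 1 := by simp [e]

variable (F : Fr x z u v)
include F

theorem e_mul (i j k i' j' k' : ℤ) : e z u v i j k * e z u v i' j' k' = e z u v (i + i') (j + j') (k + k') := by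
  have a := (Commute.zpow_zpow (F.zu : Commute z u) i' j).eq
  have b := (Commute.zpow_zpow (F.zv : Commute z v) i' k).eq
  have c := (Commute.zpow_zpow (F.uv : Commute u v) j' k).eq
  simp only [e, zpow_add]
  calc _ = z ^ i * u ^ j * (v ^ k * z ^ i') * u ^ j' * v ^ k' := by simp only [mul_assoc]
    _ = z ^ i * (u ^ j * z ^ i') * (v ^ k * u ^ j') * v ^ k' := by rw [← b]; simp only [mul_assoc]
    _ = _ := by rw [← a, ← c]; simp only [mul_assoc]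

theorem e_zpow (i j k n : ℤ) : e z u v i j k ^ n = e z u v (i * n) (j * n) (k * n) := by
  have a := Commute.zpow_zpow (F.zu : Commute z u) i j
  have b := Commute.zpow_zpow (F.zv : Commute z v) i k
  have c := Commute.zpow_zpow (F.uv : Commute u v) j k
  simp only [e]
  rw [(b.mul_left c).mul_zpow, a.mul_zpow, zpow_mul, zpow_mul, zpow_mul]

theorem e_inv (i j k : ℤ) : (e z u v i j k)⁻¹ = e z u v (-i) (-j) (-k) := by
  rw [← zpow_neg_one, e_zpow F]; simp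

theorem e_one {i j k : ℤ} : e z u v i j k = 1 ↔ 3 ∣ i ∧ 3 ∣ j ∧ 3 ∣ k := by
  refine ⟨fun h => ?_, fun ⟨a, b, c⟩ => by rw [e, zp_one F.z3 a, zp_one F.u3 b, zp_one F.v3 c]; simp⟩
  have hk : 3 ∣ k := by
    by_contra n
    refine F.v_nm (mem_of F.v3 n ?_)
    rw [e, mul_eq_one_iff_inv_eq] at h
    exact h ▸ inv_mem ((mem_S2 F.zu).2 ⟨i, j, rfl⟩)
  rw [e, zp_one F.v3 hk, mul_one] at h
  have hj : 3 ∣ j := by
    by_contra n
    refine F.u_nm (mem_of F.u3 n ?_)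
    rw [mul_eq_one_iff_inv_eq] at h
    exact h ▸ inv_mem ⟨i, rfl⟩
  rw [zp_one F.u3 hj, mul_one] at h
  refine ⟨by_contra fun n => F.z1 (mem_bot.1 (mem_of F.z3 n (mem_bot.2 h))), hj, hk⟩

theorem e_eq {i j k i' j' k' : ℤ} : e z u v i j k = e z u v i' j' k' ↔ 3 ∣ i - i' ∧ 3 ∣ j - j' ∧ 3 ∣ k - k' := by
  rw [← mul_inv_eq_one, e_inv F, e_mul F, e_one F]; rfl

theorem e_comm (i j k i' j' k' : ℤ) : e z u v i j k * e z u v i' j' k' = e z u v i' j' k' * e z u v i j k := by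
  rw [e_mul F, e_mul F, add_comm i, add_comm j, add_comm k]

theorem e_cube (i j k : ℤ) : e z u v i j k ^ 3 = 1 := by
  rw [← zpow_natCast, e_zpow F, e_one F]; simp

theorem memZ {w : G} : w ∈ zpowers z ↔ ∃ i, w = e z u v i 0 0 := by simp [e, mem_zpowers_iff, eq_comm]
theorem memU {w : G} : w ∈ S2 z u ↔ ∃ i j, w = e z u v i j 0 := by rw [mem_S2 F.zu]; simp [e]
theorem memW {w : G} : w ∈ S3 z u v ↔ ∃ i j k, w = e z u v i j k := mem_S3 F.zu F.zv F.uv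

theorem sg_iff {g : G} {a b c : ℤ} : Sg z u v g a b c ↔ ∃ i k l, g * z * g⁻¹ = e z u v a 0 0 ∧
    g * u * g⁻¹ = e z u v i b 0 ∧ g * v * g⁻¹ = e z u v k l c := by
  simp only [Sg, memZ F, memU F, mul_inv_eq_iff_eq_mul (b := u ^ b), mul_inv_eq_iff_eq_mul (b := v ^ c)]
  simp only [e, zpow_zero, mul_one]
  exact ⟨fun ⟨h1, ⟨i, h2⟩, k, l, h3⟩ => ⟨i, k, l, h1, h2, h3⟩, fun ⟨i, k, l, h1, h2, h3⟩ => ⟨h1, ⟨i, h2⟩, k, l, h3⟩⟩

theorem cj {g : G} {a b c i k l : ℤ} (h1 : g * z * g⁻¹ = e z u v a 0 0) (h2 : g * u * g⁻¹ = e z u v i b 0)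
    (h3 : g * v * g⁻¹ = e z u v k l c) (p q r : ℤ) :
    g * e z u v p q r * g⁻¹ = e z u v (a * p + i * q + k * r) (b * q + l * r) (c * r) := by
  have : g * e z u v p q r * g⁻¹ = (g * z * g⁻¹) ^ p * (g * u * g⁻¹) ^ q * (g * v * g⁻¹) ^ r := by
    rw [conj_zpow, conj_zpow, conj_zpow, conj_mul, conj_mul, e]
  rw [this, h1, h2, h3, e_zpow F, e_zpow F, e_zpow F, e_mul F, e_mul F]
  simp

theorem cjx (p q r : ℤ) : x * e z u v p q r * x⁻¹ = e z u v (p + q) (q + r) r := by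
  rw [cj F (a := 1) (b := 1) (c := 1) (i := 1) (k := 0) (l := 1) (by rw [← F.zx]; simp [e])
    (by rw [F.xu, ← F.zu]; simp [e]) (by rw [F.xv, ← F.uv]; simp [e])]
  simp

theorem cjw {w : G} (hw : w ∈ S2 z u) (p q r : ℤ) : w * x * e z u v p q r * (w * x)⁻¹ = e z u v (p + q) (q + r) r := by
  obtain ⟨i, j, rfl⟩ := (memU F).1 hw
  calc _ = e z u v i j 0 * (x * e z u v p q r * x⁻¹) * (e z u v i j 0)⁻¹ := by group
    _ = _ := by rw [cjx F, e_comm F, mul_inv_cancel_right]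

theorem two (ng : NG G) {w : G} (w1 : w ≠ 1) (w2 : w * w = 1) {a b c i k l : ℤ} (h1 : w * z * w⁻¹ = e z u v a 0 0)
    (h2 : w * u * w⁻¹ = e z u v i b 0) (h3 : w * v * w⁻¹ = e z u v k l c) (p q r p' q' r' : ℤ)
    (n1 : ¬ (3 ∣ p + (a * p + i * q + k * r) ∧ 3 ∣ q + (b * q + l * r) ∧ 3 ∣ r + c * r))
    (n2 : ∀ n, ¬ (3 ∣ (p + (a * p + i * q + k * r)) * n - (p' + (a * p' + i * q' + k * r')) ∧
      3 ∣ (q + (b * q + l * r)) * n - (q' + (b * q' + l * r')) ∧ 3 ∣ (r + c * r) * n - (r' + c * r'))) : False := by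
  have fx : ∀ p q r : ℤ, e z u v (p + (a * p + i * q + k * r)) (q + (b * q + l * r)) (r + c * r) ∈
      centralizer ({w} : Set G) := fun p q r => by
    refine mc_symm (mc_of_conj ?_)
    have wi : w⁻¹ = w := inv_eq_of_mul_eq_one_right w2
    conv_rhs => rw [← e_mul F, e_comm F, ← cj F h1 h2 h3]
    rw [← e_mul F, ← cj F h1 h2 h3, wi]
    simp only [mul_assoc, w2, mul_one]
  refine ng (S2 _ _) w ⟨ea_S2 (e_cube F _ _ _) (e_cube F _ _ _) (e_comm F _ _ _ _ _ _), w1, w2,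
    sup_le (zpowers_le.2 (fx p q r)) (zpowers_le.2 (fx p' q' r')),
    (card_S2 (e_cube F _ _ _) (fun h => n1 ((e_one F).1 h)) (e_cube F _ _ _) (e_comm F _ _ _ _ _ _) ?_).ge⟩
  rintro ⟨n, hn⟩
  exact n2 n ((e_eq F).1 ((e_zpow F _ _ _ n).symm.trans hn))

end ISg

open ISg

theorem Fr.sg_ex (F : Fr x z u v) {g : G} (hz : g * z * g⁻¹ ∈ zpowers z) (hu : g * u * g⁻¹ ∈ S2 z u)
    (hv : g * v * g⁻¹ ∈ S3 z u v) :
    ∃ a b c : ℤ, (a = 1 ∨ a = -1) ∧ (b = 1 ∨ b = -1) ∧ (c = 1 ∨ c = -1) ∧ Sg z u v g a b c := by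
  obtain ⟨a, h1⟩ := (memZ F).1 hz
  obtain ⟨i, b, h2⟩ := (memU F).1 hu
  obtain ⟨k, l, c, h3⟩ := (memW F).1 hv
  have key : ∀ {a b c : ℤ}, g * z * g⁻¹ = e z u v a 0 0 → g * u * g⁻¹ = e z u v i b 0 → g * v * g⁻¹ = e z u v k l c →
      ∀ p q r : ℤ, 3 ∣ a * p + i * q + k * r → 3 ∣ b * q + l * r → 3 ∣ c * r → 3 ∣ p ∧ 3 ∣ q ∧ 3 ∣ r :=
    fun h1 h2 h3 p q r s1 s2 s3 => by
      have := (cj F h1 h2 h3 p q r).trans ((e_one F).2 ⟨s1, s2, s3⟩)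
      exact (e_one F).1 (by simpa using this)
  have sg : ∀ t : ℤ, ¬ 3 ∣ t → ∃ t' : ℤ, (t' = 1 ∨ t' = -1) ∧ t' * t' = 1 ∧ 3 ∣ t - t' := fun t ht => by
    by_cases h : 3 ∣ t - 1
    exacts [⟨1, .inl rfl, rfl, h⟩, ⟨-1, .inr rfl, rfl, by omega⟩]
  obtain ⟨a', ha, aa, ea⟩ := sg a fun h => by
    have := (key h1 h2 h3 1 0 0 (by simpa using h) (by simp) (by simp)).1
    omega
  rw [(e_eq F (i' := a') (j' := 0) (k' := 0)).2 ⟨ea, by simp, by simp⟩] at h1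
  obtain ⟨b', hb, bb, eb⟩ := sg b fun h => by
    have := (key h1 h2 h3 (-(a' * i)) 1 0 (by rw [mul_neg, ← mul_assoc, aa]; simp) (by simpa using h) (by simp)).2.1
    omega
  rw [(e_eq F (i' := i) (j' := b') (k' := 0)).2 ⟨by simp, eb, by simp⟩] at h2
  obtain ⟨c', hc, cc, ec⟩ := sg c fun h => by
    have := (key h1 h2 h3 (-(a' * (i * -(b' * l) + k))) (-(b' * l)) 1 (by rw [mul_neg, ← mul_assoc, aa]; simp)
      (by rw [mul_neg, ← mul_assoc, bb]; simp) (by simpa using h)).2.2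
    omega
  rw [(e_eq F (i' := k) (j' := l) (k' := c')).2 ⟨by simp, by simp, ec⟩] at h3
  exact ⟨a', b', c', ha, hb, hc, (sg_iff F).2 ⟨i, k, l, h1, h2, h3⟩⟩

theorem Fr.sg_mul (F : Fr x z u v) {g k : G} {a b c a' b' c' : ℤ} (h : Sg z u v g a b c)
    (h' : Sg z u v k a' b' c') : Sg z u v (g * k) (a * a') (b * b') (c * c') := by
  obtain ⟨i, m, l, h1, h2, h3⟩ := (sg_iff F).1 h
  obtain ⟨i', m', l', k1, k2, k3⟩ := (sg_iff F).1 h'
  have t : ∀ y, g * k * y * (g * k)⁻¹ = g * (k * y * k⁻¹) * g⁻¹ := fun y => by group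
  refine (sg_iff F).2 ⟨a * i' + i * b', a * m' + i * l' + m * c', b * l' + l * c', ?_, ?_, ?_⟩
  · rw [t, k1, cj F h1 h2 h3]; simp
  · rw [t, k2, cj F h1 h2 h3]; simp
  · rw [t, k3, cj F h1 h2 h3]

theorem ISg.sg_pow (F : Fr x z u v) {g : G} {a b c : ℤ} (h : Sg z u v g a b c) (n : ℕ) :
    Sg z u v (g ^ n) (a ^ n) (b ^ n) (c ^ n) := by
  induction n with
  | zero => simp [Sg]
  | succ n ih => simpa only [pow_succ] using F.sg_mul ih h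

theorem ISg.cube (F : Fr x z u v) {g : G} (h : Sg z u v g 1 1 1) : S3 z u v ≤ centralizer {g ^ 3} := fun w hw => by
  obtain ⟨i, m, l, h1, h2, h3⟩ := (sg_iff F).1 h
  obtain ⟨p, q, r, rfl⟩ := (memW F).1 hw
  refine mc_symm (mc_of_conj ?_)
  calc _ = g * (g * (g * e z u v p q r * g⁻¹) * g⁻¹) * g⁻¹ := by
        simp only [pow_succ, pow_zero, one_mul, mul_inv_rev, mul_assoc]
    _ = _ := by
      rw [cj F h1 h2 h3, cj F h1 h2 h3, cj F h1 h2 h3, e_eq F]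
      exact ⟨⟨i * q + m * r + i * l * r, by ring⟩, ⟨l * r, by ring⟩, by simp⟩

theorem Fr.sg_no (F : Fr x z u v) (ng : NG G) {g : G} {a b c : ℤ} (h : Sg z u v g a b c)
    (e : (a = -1 ∧ b = 1 ∧ c = 1) ∨ (a = 1 ∧ b = -1 ∧ c = 1) ∨ (a = 1 ∧ b = 1 ∧ c = -1)) : False := by
  have c6 : S3 z u v ≤ centralizer {(g ^ 2) ^ 3} := cube F (by
    have := sg_pow F h 2
    rcases e with ⟨rfl, rfl, rfl⟩ | ⟨rfl, rfl, rfl⟩ | ⟨rfl, rfl, rfl⟩ <;> simpa using this)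
  have od : Odd (orderOf ((g ^ 2) ^ 3)) := by
    rw [← Nat.not_even_iff_odd]
    rintro ⟨m, hm⟩
    have p := orderOf_pos ((g ^ 2) ^ 3)
    refine ng (S3 z u v) (((g ^ 2) ^ 3) ^ m) ⟨F.ea_W, pow_ne_one_of_lt_orderOf (by omega) (by omega),
      by rw [← pow_add, ← hm, pow_orderOf_eq_one], fun w hw => mc_symm (pow_mem (mc_symm (c6 hw)) m), ?_⟩
    rw [F.card_W]; norm_num
  have o3 : Odd (3 * orderOf ((g ^ 2) ^ 3)) := Odd.mul (by decide) od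
  have w2 : g ^ (3 * orderOf ((g ^ 2) ^ 3)) * g ^ (3 * orderOf ((g ^ 2) ^ 3)) = 1 := by
    rw [← pow_add, ← two_mul, pow_mul, pow_mul, pow_orderOf_eq_one]
  have hw := sg_pow F h (3 * orderOf ((g ^ 2) ^ 3))
  generalize g ^ (3 * orderOf ((g ^ 2) ^ 3)) = w at w2 hw
  have hw' : Sg z u v w a b c := by
    rcases e with ⟨rfl, rfl, rfl⟩ | ⟨rfl, rfl, rfl⟩ | ⟨rfl, rfl, rfl⟩ <;> simpa only [o3.neg_one_pow, one_pow] using hw
  obtain ⟨i, k, l, h1, h2, h3⟩ := (sg_iff F).1 hw'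
  have w1 : w ≠ 1 := by
    rintro rfl
    simp only [one_mul, inv_one, mul_one] at h1 h2 h3
    have a1 := ((e_eq F).1 (ez.symm.trans h1)).1
    have a2 := ((e_eq F).1 (eu.symm.trans h2)).2.1
    have a3 := ((e_eq F).1 (ev.symm.trans h3)).2.2
    omega
  rcases e with ⟨rfl, rfl, rfl⟩ | ⟨rfl, rfl, rfl⟩ | ⟨rfl, rfl, rfl⟩
  · exact two F ng w1 w2 h1 h2 h3 0 1 0 0 0 1 (by omega) fun n => by omega
  · exact two F ng w1 w2 h1 h2 h3 1 0 0 0 0 1 (by omega) fun n => by omega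
  · exact two F ng w1 w2 h1 h2 h3 1 0 0 0 1 0 (by omega) fun n => by omega

/-- if `g y g⁻¹ ∈ U x` and `y` acts on `u` with sign `s`, then `a = s b`. -/
theorem Fr.sg_ab (F : Fr x z u v) {g y : G} {a b c s : ℤ} (h : Sg z u v g a b c) (ha : a = 1 ∨ a = -1)
    (hb : b = 1 ∨ b = -1) (hs : s = 1 ∨ s = -1) (hy : y * u * y⁻¹ = u * z ^ s)
    (hg : g * y * g⁻¹ * x⁻¹ ∈ S2 z u) : a = s * b := by
  obtain ⟨i, k, l, h1, h2, h3⟩ := (sg_iff F).1 h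
  have t := cjw F hg i b 0
  have t' : g * y * g⁻¹ * x⁻¹ * x * (g * u * g⁻¹) * (g * y * g⁻¹ * x⁻¹ * x)⁻¹ = g * u * g⁻¹ * (g * z * g⁻¹) ^ s := by
    rw [conj_zpow, conj_mul, ← hy]; group
  rw [h2, t, h1, e_zpow F, e_mul F, e_eq F] at t'
  rcases ha with rfl | rfl <;> rcases hb with rfl | rfl <;> rcases hs with rfl | rfl <;> omega

/-- if `g x ^ s g⁻¹ ∈ U x` then `b = s c`. -/
theorem Fr.sg_bc (F : Fr x z u v) {g : G} {a b c s : ℤ} (h : Sg z u v g a b c) (hb : b = 1 ∨ b = -1)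
    (hc : c = 1 ∨ c = -1) (hs : s = 1 ∨ s = -1) (hg : g * x ^ s * g⁻¹ * x⁻¹ ∈ S2 z u) : b = s * c := by
  obtain ⟨i, k, l, h1, h2, h3⟩ := (sg_iff F).1 h
  obtain ⟨m, hm⟩ : ∃ m, x ^ s * v * (x ^ s)⁻¹ = e z u v m s 1 := by
    rcases hs with rfl | rfl
    · exact ⟨0, by rw [zpow_one, F.xv, ← F.uv]; simp [e]⟩
    · refine ⟨1, ?_⟩
      have := cjx F 1 (-1) 1
      rw [show (1 : ℤ) + -1 = 0 from rfl, show (-1 : ℤ) + 1 = 0 from rfl, ← ev] at this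
      exact (congrArg (fun t => x ^ (-1 : ℤ) * t * (x ^ (-1 : ℤ))⁻¹) this.symm).trans (by group)
  have t := cjw F hg k l c
  have t' : g * x ^ s * g⁻¹ * x⁻¹ * x * (g * v * g⁻¹) * (g * x ^ s * g⁻¹ * x⁻¹ * x)⁻¹ = g * e z u v m s 1 * g⁻¹ := by
    rw [← hm]; group
  rw [h3, t, cj F h1 h2 h3, e_eq F] at t'
  have := t'.2.1
  rcases hc with rfl | rfl <;> rcases hb with rfl | rfl <;> rcases hs with rfl | rfl <;> omega

end H16M
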