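import Cfsg.Agent.Lib.M75.IAdj
import Cfsg.Agent.Lib.M75.ISg

/-!
The sign lemma.
-/

set_option autoImplicit false
set_option linter.unusedSectionVars false
set_option linter.unusedVariables false

namespace H16M

open Cfsg Subgroup H71KM H23M
open scoped commutatorElement

variable {G : Type*} [Group G] [Finite G] {P : Sylow 3 G} {x z u v : G}

namespace ISign

theorem tra {p : ℕ} [hp : Fact p.Prime] (hG : commutator G = ⊤) (S : Sylow p G) {D : Subgroup G}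
    (hD : ⁅(S : Subgroup G), (S : Subgroup G)⁆ ≤ D) {z : G} (hz : z ∈ (S : Subgroup G))
    (h : ∀ (g : G) (k : ℕ), g⁻¹ * z ^ k * g ∈ (S : Subgroup G) → (z ^ k)⁻¹ * (g⁻¹ * z ^ k * g) ∈ D) :
    z ∈ D := by
  classical
  have hc : commutator (S : Subgroup G) ≤ D.subgroupOf S := fun a ha =>
    hD (map_subtype_commutator (S : Subgroup G) ▸ mem_map_of_mem _ ha)
  have hn : (D.subgroupOf S).Normal := Subgroup.Normal.of_commutator_le _ hc
  have hcm : IsMulCommutative ((S : Subgroup G) ⧸ D.subgroupOf S) :=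
    Normal.quotient_commutative_iff_commutator_le.2 hc
  have := (S : Subgroup G).fintypeQuotientOfFiniteIndex
  have : Fintype (Quotient (MulAction.orbitRel (zpowers z) (G ⧸ (S : Subgroup G)))) := Fintype.ofFinite _
  open scoped IsMulCommutative in
  let φ : (S : Subgroup G) →* (S : Subgroup G) ⧸ D.subgroupOf S := QuotientGroup.mk' _
  have hcop : (S : Subgroup G).index.Coprime p :=
    ((Nat.Prime.coprime_iff_not_dvd hp.out).2 S.not_dvd_index).symm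
  have key : ∀ (k : ℕ) (g : G) (hk : g⁻¹ * z ^ k * g ∈ (S : Subgroup G)),
      φ ⟨_, hk⟩ = φ ⟨z, hz⟩ ^ k := fun k g hk => by
    rw [← map_pow, eq_comm]
    exact QuotientGroup.eq.2 (mem_subgroupOf.2 (h g k hk))
  open scoped IsMulCommutative in
  have h3 : MonoidHom.transfer φ z = φ ⟨z, hz⟩ ^ (S : Subgroup G).index := by
    rw [MonoidHom.transfer_eq_prod_quotient_orbitRel_zpowers_quot,
      Finset.prod_congr rfl fun q _ => key _ _ _,
      Finset.prod_pow_eq_pow_sum, ← index_eq_sum_minimalPeriod (S : Subgroup G) z]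
  obtain ⟨k, hk⟩ := (S.2.to_quotient (D.subgroupOf S)) (φ ⟨z, hz⟩)
  have h5 : φ ⟨z, hz⟩ = 1 := by
    rw [← orderOf_eq_one_iff]
    open scoped IsMulCommutative in
    exact Nat.eq_one_of_dvd_coprimes (hcop.pow_right k) (orderOf_dvd_of_pow_eq_one (h3.symm.trans
      (Abelianization.commutator_subset_ker _ (hG ▸ mem_top z)))) (orderOf_dvd_of_pow_eq_one hk)
  exact mem_subgroupOf.1 ((QuotientGroup.eq_one_iff _).1 h5)

theorem cz {c g : G} (hc : c ∈ zpowers z) (h : g * z = z * g) : g * c = c * g := by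
  obtain ⟨k, rfl⟩ := hc
  exact (Commute.zpow_right h k).eq

theorem perf (h : Hy0 G) : commutator G = ⊤ := by
  have := h.simple
  exact (Normal.eq_bot_or_eq_top inferInstance).resolve_left fun e => h.nab ⟨⟨fun a b =>
    commutatorElement_eq_one_iff_mul_comm.1 (mem_bot.1 (e ▸ commutator_mem_commutator (mem_top a)
      (mem_top b)))⟩⟩

theorem ne_inv (F : Fr x z u v) : z ≠ z⁻¹ := fun e => F.z1 (by
  have := F.z3
  rwa [pow_succ, sq, eq_inv_iff_mul_eq_one.1 e, one_mul] at this)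

theorem cjfr (h : Hy0 G) (F : FrP P x z u v) {m y : G} (hz : m * z * m⁻¹ = z ∨ m * z * m⁻¹ = z⁻¹)
    (hy : y ∈ P) (e : m * y * m⁻¹ = x) : ∃ (g : G) (a b c : ℤ), (a = 1 ∨ a = -1) ∧ (b = 1 ∨ b = -1) ∧
      (c = 1 ∨ c = -1) ∧ Sg z u v g a b c ∧ g * y * g⁻¹ * x⁻¹ ∈ S2 z u ∧ g * z * g⁻¹ = m * z * m⁻¹ := by
  let φ := (MulAut.conj m).toMonoidHom
  have hi : Function.Injective φ := (MulAut.conj m).injective
  have hZ : (zpowers z).map φ = zpowers z := by
    rw [MonoidHom.map_zpowers]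
    rcases hz with hz | hz
    exacts [congrArg zpowers hz, (congrArg zpowers hz).trans zpowers_inv]
  have hU : (S2 z u).map φ = S2 z (φ u) := by rw [Subgroup.map_sup, hZ, MonoidHom.map_zpowers]
  obtain ⟨z', h1, h2⟩ := hZ.ge (mem_zpowers z)
  have ex : φ y = x := e
  obtain ⟨n, n1, n2, n3, n4⟩ := F.toFr.adj h (u' := φ u) (v' := φ v) (by rw [← map_pow, F.u3, map_one])
    (by rw [← map_pow, F.v3, map_one]) (by rw [← h2, ← map_mul, ← map_mul, cz h1 F.zu.symm])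
    (by rw [← h2, ← map_mul, ← map_mul, cz h1 F.zv.symm]) (by rw [← map_mul, ← map_mul, F.uv])
    (by rw [← hZ, mem_map_iff_mem hi]; exact F.toFr.u_nm)
    (by rw [← hU, mem_map_iff_mem hi]; exact F.toFr.v_nm)
    (by simpa only [hZ, map_mul, map_inv, ex] using mem_map_of_mem φ (F.Pu y hy))
    (by simpa only [hU, map_mul, map_inv, ex] using mem_map_of_mem φ (F.Pv y hy))
  have h3 : m * z * m⁻¹ ∈ zpowers z := hZ.le (mem_map_of_mem φ (mem_zpowers z))
  have h4 : n * m * z * (n * m)⁻¹ = m * z * m⁻¹ := by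
    rw [← mul_inv_cancel_right (m * z * m⁻¹) n, ← cz h3 n1]; group
  obtain ⟨a, b, c, ha, hb, hc, hs⟩ := F.toFr.sg_ex (g := n * m) (h4 ▸ h3)
    (by convert n3 using 1; simp [φ, mul_assoc]) (by convert n4 using 1; simp [φ, mul_assoc])
  exact ⟨n * m, a, b, c, ha, hb, hc, hs, by convert n2 using 2; rw [← e]; group, h4⟩

end ISign

open ISign

theorem FrP.tr (h : Hy0 G) (F : FrP P x z u v) :
    ∃ g, g * x * g⁻¹ ∈ P ∧ g * x * g⁻¹ * u * (g * x * g⁻¹)⁻¹ = u * z⁻¹ := by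
  have : Fact (Nat.Prime 3) := ⟨Nat.prime_three⟩
  by_contra hn
  push Not at hn
  have key : ∀ g y, y = g⁻¹ * x * g → y ∈ P → y * u * y⁻¹ = u * z := fun g y e hy => by
    rcases (zp3 F.z3).1 (F.Pu y hy) with e' | e' | e'
    · have yu : u * y = y * u := by rw [mul_inv_eq_one, mul_inv_eq_iff_eq_mul] at e'; exact e'.symm
      have y3 : y ^ 3 = 1 := by rw [e, ← inv_inv g, inv_inv g⁻¹, conj_pow, F.x3]; simp
      refine absurd (show Big x from ?_) F.nb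
      rw [show x = g * y * g⁻¹ by rw [e]; group]
      refine big_conj ?_ g
      by_cases hm : y ∈ S2 z u
      · exact F.toFr.big_W (mem_sup_left hm)
      · exact big_of (ea_S3 F.z3 F.u3 y3 F.zu (F.Pz y hy).symm yu)
          (card_S3 F.z3 F.z1 F.u3 y3 F.zu (F.Pz y hy).symm yu F.toFr.u_nm hm).ge
          (sup_le (sup_le (zpowers_le.2 (mc.2 (F.Pz y hy).symm)) (zpowers_le.2 (mc.2 yu)))
            (zpowers_le.2 (mc.2 rfl)))
    · rw [mul_inv_eq_iff_eq_mul.1 e', F.zu]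
    · refine absurd ?_ (hn g⁻¹ (by rwa [inv_inv, ← e]))
      rw [inv_inv, ← e, mul_inv_eq_iff_eq_mul.1 e']
      exact (Commute.inv_left F.zu).eq
  have hx := tra (perf h) P (D := centralizer {u}) (commutator_le.2 fun a ha b hb => mc_of_conj (by
    have h1 := F.Pu _ (inv_mem ha)
    have h2 := F.Pu _ (inv_mem hb)
    have h3 := cz h1 (F.Pz _ (inv_mem hb))
    have h4 := cz h2 (F.Pz _ (inv_mem ha))
    have h5 := cz h1 (cz h2 rfl).symm
    have e1 : a⁻¹ * u * a = (a⁻¹ * u * a⁻¹⁻¹ * u⁻¹) * u := by group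
    have e2 : b⁻¹ * u * b = (b⁻¹ * u * b⁻¹⁻¹ * u⁻¹) * u := by group
    generalize a⁻¹ * u * a⁻¹⁻¹ * u⁻¹ = c at *
    generalize b⁻¹ * u * b⁻¹⁻¹ * u⁻¹ = d at *
    have e3 : a⁻¹ * (b⁻¹ * u * b) * a = b⁻¹ * (a⁻¹ * u * a) * b :=
      calc _ = d * (a⁻¹ * u * a) := by rw [e2, ← mul_assoc, h4]; group
        _ = c * (b⁻¹ * u * b) := by rw [e1, e2, ← mul_assoc, h5, mul_assoc]
        _ = _ := by rw [e1, ← mul_assoc b⁻¹, h3]; group
    calc _ = a * b * (a⁻¹ * (b⁻¹ * u * b) * a) * (a * b)⁻¹ := by rw [commutatorElement_def]; group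
      _ = _ := by rw [e3]; group)) F.xP fun g k hk => by
    rcases (zp3 F.x3).1 (npow_mem_zpowers x k) with e | e | e <;> rw [e] at hk ⊢
    · simp
    · refine mc_of_conj ?_
      have := (key g _ rfl hk).trans F.xu.symm
      calc _ = x⁻¹ * (g⁻¹ * x * g * u * (g⁻¹ * x * g)⁻¹) * x := by group
        _ = _ := by rw [this]; group
    · have h1 : g⁻¹ * x * g ∈ (P : Subgroup G) := by simpa [mul_assoc] using inv_mem hk
      have h2 := key g _ rfl h1
      have h3 := F.Pz _ h1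
      rw [show g⁻¹ * x⁻¹ * g = (g⁻¹ * x * g)⁻¹ by group]
      generalize g⁻¹ * x * g = y at *
      refine mc_of_conj ?_
      have h4 : y⁻¹ * u * y = u * z⁻¹ := by
        rw [eq_mul_inv_iff_mul_eq, mul_assoc, h3, mul_assoc, ← mul_assoc u, ← h2]; group
      calc _ = x * (y⁻¹ * u * y) * x⁻¹ := by group
        _ = x * u * x⁻¹ * z⁻¹ := by
          rw [h4, mul_assoc (x * u), ← mul_inv_rev, F.zx]; group
        _ = _ := by rw [F.xu]; group
  exact F.z1 (mul_eq_left.1 (F.xu.symm.trans (conj_of_mc hx)))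

theorem FrP.s2 (h : Hy0 G) (F : FrP P x z u v) : ∃ (g : G) (a b c : ℤ),
    (a = 1 ∨ a = -1) ∧ (b = 1 ∨ b = -1) ∧ (c = 1 ∨ c = -1) ∧ Sg z u v g a b c ∧ a = -b := by
  have : Fact (Nat.Prime 3) := ⟨Nat.prime_three⟩
  obtain ⟨g, h1, h2⟩ := F.tr h
  have h3 : g⁻¹ * z * g ∈ centralizer ({x} : Set G) := mc.2 (by
    calc _ = g⁻¹ * (z * (g * x * g⁻¹)) * g := by group
      _ = _ := by rw [← F.Pz _ h1]; group)
  have h4 : (g⁻¹ * z * g) ^ 3 = 1 := by rw [← inv_inv g, inv_inv g⁻¹, conj_pow, F.z3]; simp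
  obtain ⟨S, k, hk, h5, h6⟩ := H4.exists_conj_le_common_sylow (p := 3) (K := centralizer {x})
    (IsPGroup.of_card (n := 2) F.toFr.card_E)
    (sup_le (zpowers_le.2 (mc.2 F.zx)) (zpowers_le.2 (mc.2 rfl)))
    (B := zpowers (g⁻¹ * z * g)) (fun t => ⟨1, Subtype.ext (by simpa using (ea_zp3 h4).2 t t.2)⟩)
    (zpowers_le.2 h3)
  obtain ⟨z', u', v', F', e⟩ := exists_frP h S F.toFr.ea_E F.toFr.card_E h5
    (mem_sup_right (mem_zpowers x)) F.nb
  have h7 := F'.Pz _ (h6 _ (mem_zpowers _))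
  have h8 := F.toFr.nb_E (e ▸ mem_sup_left (mem_zpowers z'))
    (F'.toFr.big_W (mem_sup_left (mem_sup_left (mem_zpowers z'))))
  have e1 : k * (g⁻¹ * z * g) * k⁻¹ = k * g⁻¹ * z * (k * g⁻¹)⁻¹ := by group
  have h9 := F.toFr.nb_E (F.toFr.max (y := k * (g⁻¹ * z * g) * k⁻¹) (by rw [conj_pow, h4]; simp) (by
      rcases (zp3 F.z3).1 h8 with e' | e' | e'
      exacts [absurd e' F'.z1, e' ▸ h7, (Commute.inv_right_iff.1 (e' ▸ h7 :)).eq])
    (mc.1 (mul_mem (mul_mem hk h3) (inv_mem hk))))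
    (e1 ▸ big_conj (F.toFr.big_W (mem_sup_left (mem_sup_left (mem_zpowers z)))) _)
  rw [e1] at h9
  obtain ⟨g', a, b, c, ha, hb, hc, hs, h10, -⟩ := cjfr h F (m := k * g⁻¹)
    (((zp3 F.z3).1 h9).resolve_left fun e' => F.z1 (conj_eq_one_iff.1 e')) h1
    (Eq.trans (by group) (conj_of_mc hk))
  exact ⟨g', a, b, c, ha, hb, hc, hs, (F.toFr.sg_ab hs ha hb (Or.inr rfl) (h2.trans (by simp)) h10).trans
    (neg_one_mul b)⟩

theorem FrP.sign (h : Hy0 G) (ng : NG G) (F : FrP P x z u v) {g : G} (hg : g ∈ 𝐍(S2 z x)) :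
    (g * z * g⁻¹ = z ∧ g * x * g⁻¹ * x⁻¹ ∈ zpowers z) ∨
      (g * z * g⁻¹ = z⁻¹ ∧ g * x * g⁻¹ * x ∈ zpowers z) := by
  have hP : zpowers z ≤ P := zpowers_le.2 F.zP
  have key : ∀ s : ℤ, (s = 1 ∨ s = -1) → g * x * g⁻¹ * (x ^ s)⁻¹ ∈ zpowers z →
      x ^ s * u * (x ^ s)⁻¹ = u * z ^ s → (g⁻¹ * z * g⁻¹⁻¹ = z ∨ g⁻¹ * z * g⁻¹⁻¹ = z⁻¹) →
      ∃ (k : G) (a b c : ℤ), (a = 1 ∨ a = -1) ∧ Sg z u v k a b c ∧ a = s * b ∧ b = s * c ∧
        z ^ a = g⁻¹ * z * g⁻¹⁻¹ := fun s hs h1 h2 h3 => by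
    have e : g * x * g⁻¹ = (g * x * g⁻¹ * (x ^ s)⁻¹) * x ^ s := by group
    obtain ⟨k, a, b, c, ha, hb, hc, h4, h5, h6⟩ := cjfr h F (y := g * x * g⁻¹) h3
      (e ▸ mul_mem (hP h1) (zpow_mem F.xP s)) (by group)
    generalize g * x * g⁻¹ * (x ^ s)⁻¹ = d at e h1
    rw [e] at h5
    refine ⟨k, a, b, c, ha, h4, F.toFr.sg_ab h4 ha hb hs (y := d * x ^ s) ?_ h5,
      F.toFr.sg_bc h4 hb hc hs ?_, h4.1.symm.trans h6⟩
    · have : u * z ^ s * d = d * (u * z ^ s) :=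
        cz h1 ((Commute.mul_left F.zu.symm ((Commute.refl z).zpow_left s)).eq)
      calc _ = d * (x ^ s * u * (x ^ s)⁻¹) * d⁻¹ := by group
        _ = _ := by rw [h2, ← this]; group
    · obtain ⟨j, rfl⟩ := h1
      have : k * (z ^ j)⁻¹ * k⁻¹ ∈ S2 z u := by
        rw [← zpow_neg, ← conj_zpow, h4.1]
        exact mem_sup_left (zpow_mem (zpow_mem (mem_zpowers z) _) _)
      convert mul_mem this h5 using 1
      group
  rcases F.toFr.nz hg with h1 | h1 <;> rcases F.toFr.nx hg with h2 | h2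
  · exact Or.inl ⟨h1, h2⟩
  · have h3 : g⁻¹ * z * g⁻¹⁻¹ = z := by nth_rw 1 [← h1]; group
    obtain ⟨k, a, b, c, ha, hs, e1, e2, e3⟩ := key (-1) (Or.inr rfl) (by simpa using h2) (by
      rw [zpow_neg_one, zpow_neg_one, eq_mul_inv_iff_mul_eq, inv_inv, mul_assoc, ← F.zx,
        mul_assoc, ← mul_assoc u, ← F.xu]
      group) (Or.inl h3)
    rcases ha with rfl | rfl
    · exact (F.toFr.sg_no ng hs (by omega)).elim
    · exact (ne_inv F.toFr (by rw [← zpow_neg_one, e3, h3])).elim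
  · have h3 : g⁻¹ * z * g⁻¹⁻¹ = z⁻¹ := by rw [eq_inv_iff_mul_eq_one]; nth_rw 1 [← inv_inv z, ← h1]; group
    obtain ⟨k, a, b, c, ha, hs, e1, e2, e3⟩ := key 1 (Or.inl rfl) (by simpa using h2)
      (by simpa using F.xu) (Or.inr h3)
    rcases ha with rfl | rfl
    · exact (ne_inv F.toFr (by rw [← h3, ← e3, zpow_one])).elim
    obtain ⟨k', a', b', c', ha', -, hc', hs', e⟩ := F.s2 h
    obtain rfl : b = -1 := by omega
    obtain rfl : c = -1 := by omega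
    rcases hc' with rfl | rfl
    · exact (F.toFr.sg_no ng hs' (by omega)).elim
    · exact (F.toFr.sg_no ng (F.toFr.sg_mul hs hs') (by omega)).elim
  · exact Or.inr ⟨h1, h2⟩

end H16M
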