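import Cfsg.Agent.Lib.M75.IXs
import Cfsg.Agent.Lib.M75.ISign
import Cfsg.Agent.Lib.BG6.PLength
import Cfsg.Agent.Lib.Transfer.Control
import Cfsg.Agent.S3347

/-!
Subgroups with Sylow 3-subgroup `X` have 3-length one.
-/

set_option autoImplicit false
set_option linter.unusedSectionVars false
set_option linter.unusedVariables false

namespace H16M

open Cfsg Subgroup H71KM H23M
open scoped commutatorElement

variable {G : Type*} [Group G] [Finite G] {P : Sylow 3 G} {x z u v : G}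

namespace INy

theorem mem_of_cop {H : Subgroup G} {n : G} {a b : ℕ} (h : a.Coprime b) (ha : n ^ a ∈ H) (hb : n ^ b ∈ H) :
    n ∈ H := by
  have := Nat.gcd_eq_gcd_ab a b
  rw [h] at this
  have e : n = (n ^ a) ^ (a.gcdA b) * (n ^ b) ^ (a.gcdB b) := by
    rw [← zpow_natCast, ← zpow_natCast, ← zpow_mul, ← zpow_mul, ← zpow_add, ← this]; simp
  exact e ▸ mul_mem (zpow_mem ha _) (zpow_mem hb _)

theorem fpf {K : Type*} [Group K] [Finite K] {X : Subgroup K} {c : K} (hn : c ∈ normalizer (X : Set K))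
    (hf : ∀ a ∈ X, a * c = c * a → a = 1) {k : K} (hk : k ∈ X) : ∃ a ∈ X, a * c * a⁻¹ * c⁻¹ = k := by
  let f : X → X := fun a => ⟨a * (c * (a : K)⁻¹ * c⁻¹), mul_mem a.2 ((mem_normalizer_iff.1 hn _).1 (inv_mem a.2))⟩
  have : Function.Injective f := fun a b e => by
    have e' : (a : K) * (c * (a : K)⁻¹ * c⁻¹) = b * (c * (b : K)⁻¹ * c⁻¹) := congrArg Subtype.val e
    have := hf _ (mul_mem (inv_mem b.2) a.2) (by
      calc _ = (b : K)⁻¹ * (a * (c * (a : K)⁻¹ * c⁻¹)) * c * a := by group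
        _ = _ := by rw [e']; group)
    exact Subtype.ext (inv_mul_eq_one.1 this).symm
  obtain ⟨a, ha⟩ := Finite.surjective_of_injective this ⟨k, hk⟩
  exact ⟨a, a.2, by rw [← show _ = k from congrArg Subtype.val ha]; simp only [f, mul_assoc]⟩

theorem plus (C : Cx P x z u v) {Y : Subgroup G} (hX : XX P x z ≤ Y)
    (sy : ∀ R : Subgroup G, IsPGroup 3 R → XX P x z ≤ R → R ≤ Y → R ≤ XX P x z) {n : G} (hY : n ∈ Y)
    (hn : n ∈ 𝐍(XX P x z)) (h1 : n * z * n⁻¹ = z) (h2 : n * x * n⁻¹ * x⁻¹ ∈ zpowers z) : n ∈ 𝐂(XX P x z) := by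
  have p3 : IsPGroup 3 (XX P x z) := P.isPGroup'.to_le inf_le_left
  obtain ⟨k, m, hm, e⟩ := Nat.exists_eq_pow_mul_and_not_dvd (orderOf_pos n).ne' 3 (by norm_num)
  have cm : m.Coprime 3 := ((Nat.Prime.coprime_iff_not_dvd Nat.prime_three).2 hm).symm
  have o : n ^ (3 ^ k * m) = 1 := e ▸ pow_orderOf_eq_one n
  refine mem_of_cop (cm.pow_right (k + 1)) (C.comm ?_) ?_
  · refine sy (XX P x z ⊔ zpowers (n ^ m)) (p3.to_sup_of_normal_left' (IsPGroup.of_card_dvd_pow (n := k) ?_)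
      (zpowers_le.2 (pow_mem hn m))) le_sup_left (sup_le hX (zpowers_le.2 (pow_mem hY m)))
      (mem_sup_right (mem_zpowers _))
    rw [Nat.card_zpowers]
    exact orderOf_dvd_of_pow_eq_one (by rw [← pow_mul, mul_comm, o])
  · have nz : n * z = z * n := mul_inv_eq_iff_eq_mul.1 h1
    have c3 : n ^ 3 ∈ 𝐂(S2 z x) := mem_cent_S2.2 ⟨(Commute.pow_left nz 3).eq, by
      obtain ⟨d, hd⟩ : ∃ d, d = n * x * n⁻¹ * x⁻¹ := ⟨_, rfl⟩
      rw [← hd] at h2
      have e1 : n * x * n⁻¹ = d * x := by rw [hd]; group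
      have e2 : n * d * n⁻¹ = d := mul_inv_eq_iff_eq_mul.2 (ISign.cz h2 nz)
      have d3 : d * d * d = 1 := by rw [← pow_three', (ea_zp3 C.z3).2 d h2]
      refine mul_inv_eq_iff_eq_mul.1 ?_
      calc _ = n * (n * (n * x * n⁻¹) * n⁻¹) * n⁻¹ := by
            simp only [pow_succ, pow_zero, one_mul, mul_inv_rev, mul_assoc]
        _ = _ := by
          rw [e1, ← @conj_mul _ _ d n x, e1, e2, ← @conj_mul _ _ d n, ← @conj_mul _ _ d n x, e1, e2]
          simp only [← mul_assoc, d3, one_mul]⟩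
    refine H2.le_centralizer_of_prime_order (A := zpowers (n ^ 3 ^ (k + 1))) (comm_iff.2 C.comm)
      (zpowers_le.2 (pow_mem hn _)) ?_ (fun y hy hp => ?_) (mem_zpowers _)
    · obtain ⟨j, hj⟩ := p3.exists_card_eq
      rw [hj, Nat.card_zpowers]
      refine (Nat.Coprime.of_dvd_left (orderOf_dvd_of_pow_eq_one ?_) cm).pow_right j
      rw [← pow_mul, pow_succ', mul_assoc, mul_comm, pow_mul, o, one_pow]
    · obtain ⟨j, hj⟩ := p3 ⟨y, hy⟩
      have o3 : orderOf y = 3 := (Nat.prime_dvd_prime_iff_eq hp Nat.prime_three).1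
        (hp.dvd_of_dvd_pow (orderOf_dvd_of_pow_eq_one (congrArg Subtype.val hj)))
      have : zpowers (n ^ 3 ^ (k + 1)) ≤ 𝐂(S2 z x) := zpowers_le.2 (by rw [pow_succ', pow_mul]; exact pow_mem c3 _)
      exact le_centralizer_iff.1 this (C.om hy (o3 ▸ pow_orderOf_eq_one y))

theorem minus (C : Cx P x z u v) {g : G} (g2 : g * g ∈ 𝐂(XX P x z)) (h1 : g * z * g⁻¹ = z⁻¹)
    (h2 : g * x * g⁻¹ * x ∈ zpowers z) {y : G} (hy : y ∈ XX P x z) (e : y * g = g * y) : y = 1 := by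
  have p3 : IsPGroup 3 (XX P x z) := P.isPGroup'.to_le inf_le_left
  have inv : ∀ d ∈ zpowers z, g * d * g⁻¹ = d⁻¹ := by
    rintro _ ⟨i, rfl⟩
    simp only
    rw [← conj_zpow, h1, inv_zpow]
  have hx : g * x * g⁻¹ = x⁻¹ := by
    obtain ⟨d, hd⟩ : ∃ d, d = g * x * g⁻¹ * x := ⟨_, rfl⟩
    rw [← hd] at h2
    have e1 : g * x * g⁻¹ = d * x⁻¹ := by rw [hd]; group
    have e2 : g * (g * x * g⁻¹) * g⁻¹ = x := by
      have := mem_centralizer_iff.1 g2 x (C.E_le (mem_sup_right (mem_zpowers x)))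
      calc _ = g * g * x * (g * g)⁻¹ := by group
        _ = _ := by rw [← this]; group
    rw [e1, ← conj_mul, inv d h2, ← conj_inv, e1, mul_inv_rev, inv_inv,
      (Commute.inv_right (ISign.cz h2 C.zx.symm)).eq, ← mul_assoc, mul_eq_right, ← mul_inv_rev, inv_eq_one] at e2
    have d3 := (ea_zp3 C.z3).2 d h2
    rw [pow_three, e2, mul_one] at d3
    rw [e1, d3, one_mul]
  by_contra y1
  obtain ⟨j, hj⟩ := p3 ⟨y, hy⟩
  have hd : 3 ∣ orderOf y := by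
    obtain ⟨i, -, hi⟩ := (Nat.dvd_prime_pow Nat.prime_three).1
      (orderOf_dvd_of_pow_eq_one (show y ^ 3 ^ j = 1 from congrArg Subtype.val hj))
    rcases i with _ | i
    · exact absurd (orderOf_eq_one_iff.1 hi) y1
    · exact hi ▸ dvd_pow_self 3 (Nat.succ_ne_zero i)
  have o := orderOf_pow_orderOf_div (orderOf_pos y).ne' hd
  have w3 : (y ^ (orderOf y / 3)) ^ 3 = 1 := orderOf_dvd_iff_pow_eq_one.1 o.dvd
  have wc : g * y ^ (orderOf y / 3) * g⁻¹ = y ^ (orderOf y / 3) :=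
    mul_inv_eq_iff_eq_mul.2 (Commute.pow_right e.symm _).eq
  have wE := C.om (pow_mem hy _) w3
  generalize y ^ (orderOf y / 3) = w at *
  refine H71KM.ne_inv (p := 3) (by norm_num) w3 (fun e => by rw [e, orderOf_one] at o; omega) (wc.symm.trans ?_)
  obtain ⟨i, k, rfl⟩ := (mem_S2 C.zx).1 wE
  rw [← conj_mul, ← conj_zpow, ← conj_zpow, h1, hx, inv_zpow, inv_zpow, ← mul_inv_rev,
    (Commute.zpow_zpow (C.zx : Commute z x) i k).eq]

theorem len (C : Cx P x z u v) {Y : Subgroup G} (hX : XX P x z ≤ Y)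
    (sy : ∀ R : Subgroup G, IsPGroup 3 R → XX P x z ≤ R → R ≤ Y → R ≤ XX P x z) (S : Sylow 3 Y)
    (mem : ∀ {a : Y}, a ∈ (S : Subgroup Y) ↔ (a : G) ∈ XX P x z) : PLengthLE 3 1 Y := by
  have nn : ∀ {n : Y}, n ∈ normalizer ((S : Subgroup Y) : Set Y) → (n : G) ∈ 𝐍(XX P x z) := fun {n} hn =>
    mem_normalizer_fintype fun a ha => mem.1 ((mem_normalizer_iff.1 hn ⟨a, hX ha⟩).1 (mem.2 ha))
  have cc : ∀ {n : Y}, (n : G) ∈ 𝐂(XX P x z) → n ∈ centralizer ((S : Subgroup Y) : Set Y) := fun {n} hn =>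
    mem_centralizer_iff.2 fun a ha => Subtype.ext (mem_centralizer_iff.1 hn a (mem.1 ha))
  have sg : ∀ {n : Y}, n ∈ normalizer ((S : Subgroup Y) : Set Y) → _ := fun {n} hn =>
    C.toFrP.sign C.hyp.toHy0 C.ng (C.nE (nn hn))
  have zX : z ∈ XX P x z := C.E_le (mem_sup_left (mem_zpowers z))
  by_cases h : ∀ n ∈ normalizer ((S : Subgroup Y) : Set Y), n ∈ centralizer ((S : Subgroup Y) : Set Y)
  · exact H49.pLengthLE_one_of_hasNormalPComplement (H4.hasNormalPComplement_of_normalizer_le_centralizer S h)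
  push Not at h
  obtain ⟨g, hg, gc⟩ := h
  obtain ⟨g1, g2⟩ := (sg hg).resolve_left fun k => gc (cc (plus C hX sy g.2 (nn hg) k.1 k.2))
  have pr : ∀ n ∈ normalizer ((S : Subgroup Y) : Set Y), (n : G) * z * (n : G)⁻¹ = z⁻¹ →
      ((n * g : Y) : G) ∈ 𝐂(XX P x z) := fun n hn e => by
    have e1 : ((n * g : Y) : G) * z * ((n * g : Y) : G)⁻¹ = z := by
      calc _ = n * (g * z * (g : G)⁻¹) * (n : G)⁻¹ := by rw [coe_mul]; group
        _ = _ := by rw [g1, ← conj_inv, e, inv_inv]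
    rcases sg (mul_mem hn hg) with k | k
    · exact plus C hX sy (n * g).2 (nn (mul_mem hn hg)) k.1 k.2
    · exact absurd (e1.symm.trans k.1) (ISign.ne_inv C.toFr)
  have ab : IsMulCommutative (S : Subgroup Y) := ⟨⟨fun a b => Subtype.ext (Subtype.ext
    (mem_centralizer_iff.1 (C.comm (mem.1 b.2)) _ (mem.1 a.2)))⟩⟩
  refine (Cfsg.Agent.S3347.result 3 (by norm_num) S ab (fun cy => ?_) ?_).resolve_left fun e => e ?_
  · refine not_cyclic9 C.toFr.ea_E C.toFr.card_E.ge (isCyclic_of_injective (G' := (S : Subgroup Y))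
      { toFun := fun a => ⟨⟨a, hX (C.E_le a.2)⟩, mem.2 (C.E_le a.2)⟩
        map_one' := rfl
        map_mul' := fun _ _ => rfl } fun a b e => Subtype.ext ?_)
    exact congrArg (fun t : (S : Subgroup Y) => ((t : Y) : G)) e
  · refine index_eq_two_iff_exists_notMem_and.2 ⟨⟨g, hg⟩, gc, fun n => ?_⟩
    rcases sg n.2 with k | k
    · exact .inr (cc (plus C hX sy n.1.2 (nn n.2) k.1 k.2))
    · exact .inl (cc (pr n n.2 k.1))
  · refine eq_top_iff.2 ((H4.pResidual_sup_sylow S).ge.trans (sup_le le_rfl fun a ha => ?_))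
    obtain ⟨b, hb, rfl⟩ := fpf hg (fun b hb e => Subtype.ext
      (minus C (pr g hg g1) g1 g2 (mem.1 hb) (congrArg Subtype.val e))) ha
    exact ((H4.inf_pResidual_eq_commutator_normalizer S).ge (commutator_mem_commutator hb hg)).2

end INy

open INy

theorem Cx.ny (C : Cx P x z u v) {Y : Subgroup G} (hX : XX P x z ≤ Y)
    (sy : ∀ R : Subgroup G, IsPGroup 3 R → XX P x z ≤ R → R ≤ Y → R ≤ XX P x z) {V : Subgroup G}
    (hV : IsPGroup 2 V) (VY : V ≤ Y) (hz : z ∈ 𝐍(V)) (hc : V ⊓ centralizer {z} = ⊥) :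
    V ≤ H44.coreOf 3 Y := by
  have p3 : IsPGroup 3 (XX P x z) := P.isPGroup'.to_le inf_le_left
  obtain ⟨S, hS⟩ := (p3.comap_subtype (K := Y)).exists_le_sylow
  have mem : ∀ {a : Y}, a ∈ (S : Subgroup Y) ↔ (a : G) ∈ XX P x z := fun {a} =>
    ⟨fun h => sy _ (S.isPGroup'.map Y.subtype) (fun b hb => ⟨⟨b, hX hb⟩, hS hb, rfl⟩) (map_subtype_le _) ⟨a, h, rfl⟩,
      fun h => hS h⟩
  have zX : z ∈ XX P x z := C.E_le (mem_sup_left (mem_zpowers z))
  intro w hw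
  obtain ⟨a, ha, e⟩ := fpf hz (fun a ha e => mem_bot.1 (hc.le ⟨ha, mc.2 e⟩)) hw
  obtain ⟨o, ho, n, hn, e'⟩ := mem_sup_of_normal_left.1
    ((H49.pPrimeCore_sup_normalizer_sylow (len C hX sy S mem) S).ge (mem_top (⟨a, VY ha⟩ : Y)))
  refine (H44.mem_coreOf_iff (x := ⟨w, VY hw⟩)).2 ((QuotientGroup.eq_one_iff _).1 ?_)
  let z' : Y := ⟨z, hX zX⟩
  have zS : z' ∈ (S : Subgroup Y) := mem.2 zX
  have e1 : (⟨w, VY hw⟩ : Y) = o * n * z' * (o * n)⁻¹ * z'⁻¹ := by rw [e']; exact Subtype.ext e.symm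
  have e2 : ((⟨w, VY hw⟩ : Y) : Y ⧸ pPrimeCore 3 Y) = ((n * z' * n⁻¹ * z'⁻¹ : Y) : Y ⧸ pPrimeCore 3 Y) := by
    rw [e1]
    simp only [QuotientGroup.mk_mul, QuotientGroup.mk_inv, (QuotientGroup.eq_one_iff o).2 ho, one_mul]
  obtain ⟨i, hi⟩ := hV ⟨w, hw⟩
  have hi' : w ^ 2 ^ i = 1 := congrArg Subtype.val hi
  obtain ⟨j, hj⟩ := S.isPGroup' ⟨n * z' * n⁻¹ * z'⁻¹, mul_mem ((mem_normalizer_iff.1 hn _).1 zS) (inv_mem zS)⟩
  have h2 : ((⟨w, VY hw⟩ : Y) : Y ⧸ pPrimeCore 3 Y) ^ 2 ^ i = 1 := by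
    rw [← QuotientGroup.mk_pow, show (⟨w, VY hw⟩ : Y) ^ 2 ^ i = 1 from Subtype.ext hi']; rfl
  have h3 : ((⟨w, VY hw⟩ : Y) : Y ⧸ pPrimeCore 3 Y) ^ 3 ^ j = 1 := by
    rw [e2, ← QuotientGroup.mk_pow, show (n * z' * n⁻¹ * z'⁻¹) ^ 3 ^ j = 1 from congrArg Subtype.val hj]; rfl
  exact orderOf_eq_one_iff.1 (Nat.eq_one_of_dvd_coprimes (Nat.Coprime.pow i j (by norm_num))
    (orderOf_dvd_of_pow_eq_one h2) (orderOf_dvd_of_pow_eq_one h3))

end H16M
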