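import Cfsg.Agent.Lib.M75.INy
import Cfsg.Agent.Lib.Core.CoprimeSylow

/-!
Transitivity on maximal `X`-invariant 2-subgroups.
-/

set_option autoImplicit false
set_option linter.unusedSectionVars false
set_option linter.unusedVariables false

namespace H16M

open Cfsg Subgroup H71KM H23M H68
open scoped commutatorElement

variable {G : Type*} [Group G] [Finite G] {P : Sylow 3 G} {x z u v : G}

/-- maximal `X`-invariant 2-subgroups -/
abbrev ITr.Mx (X T : Subgroup G) : Prop := Maximal (fun T : Subgroup G => IsPGroup 2 T ∧ X ≤ 𝐍(T)) T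

theorem ITr.inv {X T : Subgroup G} {k : G} (hk : k ∈ 𝐍(X)) (h : IsPGroup 2 T ∧ X ≤ 𝐍(T)) :
    IsPGroup 2 (cj k T) ∧ X ≤ 𝐍(cj k T) :=
  ⟨isPGroup_cj k h.1, by rw [← cj_normalizer]; exact (cj_eq_of_mem_normalizer hk).ge.trans (cj_mono k h.2)⟩

theorem ITr.Mx.cj {X T : Subgroup G} {k : G} (h : ITr.Mx X T) (hk : k ∈ 𝐍(X)) : ITr.Mx X (cj k T) :=
  ⟨ITr.inv hk h.1, fun _ p q => le_cj_iff.2 (h.2 (ITr.inv (inv_mem hk) p) (cj_le_iff.1 q))⟩

open ITr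

namespace Cx

variable (C : Cx P x z u v)
include C

theorem ITr_a {V : Subgroup G} (hV : IsPGroup 2 V) {e : G} (he : e ∈ S2 z x) (ne : e ∉ zpowers z)
    (h : V ≤ centralizer {e}) (hE : S2 z x ≤ 𝐍(V)) : V ≤ H44.coreOf 3 (centralizer {e}) :=
  C.ny (fun g hg => mc_of_mem hg.2 he) (fun R hR h1 h2 => C.syC hR h1 he ne h2) hV h
    (hE (mem_sup_left (mem_zpowers z))) (C.cz hV hE)

theorem ITr_cop (Y : Subgroup G) : (Nat.card (XX P x z)).Coprime (Nat.card (H44.coreOf 3 Y)) := by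
  obtain ⟨n, hn⟩ := (P.isPGroup'.to_le (inf_le_left : XX P x z ≤ P)).exists_card_eq
  rw [hn]
  exact (H44.coprime_card_coreOf 3 Y).symm.pow_left n

theorem ITr_solv : Group.IsSolvable (XX P x z) :=
  have := (P.isPGroup'.to_le (inf_le_left : XX P x z ≤ P)).isNilpotent
  inferInstance

theorem ITr_d {Y V V' : Subgroup G} (hY : XX P x z ≤ Y) (hV : IsPGroup 2 V ∧ XX P x z ≤ 𝐍(V))
    (hV' : IsPGroup 2 V' ∧ XX P x z ≤ 𝐍(V')) (h : V ≤ H44.coreOf 3 Y) (h' : V' ≤ H44.coreOf 3 Y) :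
    ∃ k ∈ 𝐂(XX P x z), ∃ T, Mx (XX P x z) T ∧ cj k V ≤ T ∧ V' ≤ T := by
  have n := hY.trans (H44.le_normalizer_coreOf 3 Y)
  obtain ⟨S, hS, a, b⟩ := H2.exists_invariant_sylowIn_ge n (C.ITr_cop Y) (.inl C.ITr_solv) h' hV'.1 hV'.2
  obtain ⟨k, hk, c⟩ := H2.exists_centralizer_cj_le_of_sylowIn n (C.ITr_cop Y) (.inl C.ITr_solv) hS b h hV.1 hV.2
  obtain ⟨T, d, hT⟩ := Finite.exists_le_maximal (p := fun T : Subgroup G => IsPGroup 2 T ∧ XX P x z ≤ 𝐍(T))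
    ⟨hS.isPGroup, b⟩
  exact ⟨k, hk.2, T, hT, c.trans d, a.trans d⟩

theorem ITr_z {T : Subgroup G} (hT : IsPGroup 2 T) (hE : S2 z x ≤ 𝐍(T)) {e : G} (he : e ∈ zpowers z) (e1 : e ≠ 1) :
    T ⊓ centralizer {e} = ⊥ := by
  rcases (zp3 C.z3).1 he with rfl | rfl | rfl
  · exact absurd rfl e1
  · exact C.cz hT hE
  · exact le_bot_iff.1 ((inf_le_inf_left T fun g hg => mc_symm (inv_mem_iff.1 (mc_symm hg))).trans (C.cz hT hE).le)

theorem ITr_nc {T : Subgroup G} (hT : S2 z x ≤ 𝐍(T)) {e : G} (he : e ∈ S2 z x) : S2 z x ≤ 𝐍(T ⊓ centralizer {e}) :=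
  H70.le_normalizer_inf hT fun a ha => le_normalizer (mc_of_mem (C.ea_E.le_cent ha) he)

theorem ITr_b {T : Subgroup G} (hT : IsPGroup 2 T) (T1 : T ≠ ⊥) (hE : S2 z x ≤ 𝐍(T)) : ¬ Mx (XX P x z) ⊥ := fun m => by
  obtain ⟨e, he, e1, h⟩ := H2.exists_inf_centralizer_ne_bot C.ea_E.1 (not_cyclic9 C.ea_E C.card_E.ge) hE
    (cop (by decide) C.ea_E.isPGroup hT) T1
  have a := C.ITr_a (hT.to_le inf_le_left) he (fun n => h (C.ITr_z hT hE n e1)) inf_le_right (C.ITr_nc hE he)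
  obtain ⟨S, hS, b⟩ := H2.exists_invariant_sylowIn
    (le_trans (fun g hg => mc_of_mem (mem_inf.1 hg).2 he) (H44.le_normalizer_coreOf 3 (centralizer {e}))) (C.ITr_cop _)
    (.inl C.ITr_solv) 2
  obtain ⟨g, -, c⟩ := hS.exists_cj_le (hT.to_le inf_le_left) a
  exact h (cj_eq_bot_iff.1 (le_bot_iff.1 (c.trans (m.2 ⟨hS.isPGroup, b⟩ bot_le))))

theorem ITr_wx {w : G} (hw : w ∈ zpowers z) : w * x ∈ S2 z x ∧ w * x ∉ zpowers z :=
  ⟨mul_mem (mem_sup_left hw) (mem_sup_right (mem_zpowers x)), fun h => C.x_nm ((mul_mem_cancel_left hw).1 h)⟩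

theorem ITr_c {T : Subgroup G} (h : Mx (XX P x z) T) (T1 : T ≠ ⊥) {w : G} (hw : w ∈ zpowers z) :
    ∃ w' ∈ zpowers z, w' ≠ w ∧ T ⊓ centralizer {w' * x} ≠ ⊥ := by
  by_contra n
  have hE := C.E_le.trans h.1.2
  have k : ∀ w' ∈ zpowers z, T ⊓ centralizer {w' * x} ≤ centralizer {w * x} := fun w' hw' => by
    by_cases e : w' = w
    · exact e ▸ inf_le_right
    · exact (by_contra fun m => n ⟨w', hw', e, m⟩ : T ⊓ centralizer {w' * x} = ⊥).le.trans bot_le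
  have a : T ≤ centralizer {w * x} := H2.le_of_forall_centralizer_le C.ea_E.1 (not_cyclic9 C.ea_E C.card_E.ge) hE
    (cop (by decide) C.ea_E.isPGroup h.1.1) fun e he e1 => by
      obtain ⟨i, j, rfl⟩ := (mem_S2 C.zx).1 he
      have zi := zpow_mem (mem_zpowers z) i
      rcases (zp3 C.x3).1 (zpow_mem (mem_zpowers x) j) with p | p | p <;> rw [p] at e1 ⊢
      · exact (C.ITr_z h.1.1 hE (by simp) e1).le.trans bot_le
      · exact k _ zi
      · refine le_trans (inf_le_inf_left T fun g hg => ?_) (k _ (inv_mem zi))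
        have := inv_mem (mc_symm hg)
        rw [mul_inv_rev, inv_inv, ((Commute.zpow_left C.zx i).inv_left).eq.symm] at this
        exact mc_symm this
  have b : pCoreOf 2 𝐍(T) ≤ T := h.2 ⟨H70.isPGroup_pCoreOf 2 _, h.1.2.trans (H70.le_normalizer_pCoreOf 2 _)⟩
    (H70.le_pCoreOf h.1.1 le_normalizer le_rfl)
  have c := b (H70.charP_iff.2 (C.hyp.c2.2 T h.1.1 T1)
    ⟨hE (C.ITr_wx hw).1, H70.le_centralizer_singleton_iff.1 (b.trans a)⟩)
  exact (C.ITr_wx hw).2 (eq_one_of_mem (by decide) C.ea_E.isPGroup h.1.1 (C.ITr_wx hw).1 c ▸ one_mem _)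

theorem ITr_c2 {T T' : Subgroup G} (h : Mx (XX P x z) T) (T1 : T ≠ ⊥) (h' : Mx (XX P x z) T') (T1' : T' ≠ ⊥) :
    ∃ w ∈ zpowers z, T ⊓ centralizer {w * x} ≠ ⊥ ∧ T' ⊓ centralizer {w * x} ≠ ⊥ := by
  by_contra n
  have m : ∀ w ∈ zpowers z, T ⊓ centralizer {w * x} ≠ ⊥ → T' ⊓ centralizer {w * x} ≠ ⊥ → False :=
    fun w hw a b => n ⟨w, hw, a, b⟩
  obtain ⟨a, ha, -, a1⟩ := C.ITr_c h T1 (one_mem _)
  obtain ⟨b, hb, ba, b1⟩ := C.ITr_c h T1 ha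
  obtain ⟨c, hc, -, c1⟩ := C.ITr_c h' T1' (one_mem _)
  obtain ⟨d, hd, dc, d1⟩ := C.ITr_c h' T1' hc
  have e1 : a ≠ c := fun e => m a ha a1 (e ▸ c1)
  have e2 : a ≠ d := fun e => m a ha a1 (e ▸ d1)
  have e3 : b ≠ c := fun e => m b hb b1 (e ▸ c1)
  have e4 : b ≠ d := fun e => m b hb b1 (e ▸ d1)
  rw [zp3 C.z3] at ha hb hc hd
  rcases ha with ha | ha | ha <;> rcases hb with hb | hb | hb <;> rcases hc with hc | hc | hc <;>
    rcases hd with hd | hd | hd <;> first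
      | exact ba (hb.trans ha.symm) | exact dc (hd.trans hc.symm) | exact e1 (ha.trans hc.symm)
      | exact e2 (ha.trans hd.symm) | exact e3 (hb.trans hc.symm) | exact e4 (hb.trans hd.symm)

theorem ITr_e (h0 : ¬ Mx (XX P x z) ⊥) {T T' : Subgroup G} (h : Mx (XX P x z) T) (h' : Mx (XX P x z) T') :
    ∃ k ∈ 𝐂(XX P x z), cj k T = T' := by
  induction hn : Nat.card G - Nat.card ↥(T ⊓ T') using Nat.strong_induction_on generalizing T T' with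
  | _ n ih =>
  by_cases e : T = T'
  · exact ⟨1, one_mem _, by rw [cj_one, e]⟩
  have l : T ⊓ T' < T := inf_lt_left.2 fun m => e (le_antisymm m (h.2 h'.1 m))
  have l' : T ⊓ T' < T' := inf_lt_right.2 fun m => e (le_antisymm (h'.2 h.1 m) m)
  obtain ⟨Y, hY, nY, a, a', b, b'⟩ : ∃ Y, XX P x z ≤ Y ∧ XX P x z ≤ 𝐍(Y) ∧ T ⊓ T' < T ⊓ Y ∧ T ⊓ T' < T' ⊓ Y ∧
      T ⊓ Y ≤ H44.coreOf 3 Y ∧ T' ⊓ Y ≤ H44.coreOf 3 Y := by
    by_cases d : T ⊓ T' = ⊥
    · obtain ⟨w, hw, a, a'⟩ := C.ITr_c2 h (fun e => h0 (e ▸ h)) h' fun e => h0 (e ▸ h')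
      have y : XX P x z ≤ centralizer {w * x} := fun g hg => mc_of_mem hg.2 (C.ITr_wx hw).1
      have k : ∀ S, Mx (XX P x z) S → S ⊓ centralizer {w * x} ≤ H44.coreOf 3 (centralizer {w * x}) := fun S hS =>
        C.ITr_a (hS.1.1.to_le inf_le_left) (C.ITr_wx hw).1 (C.ITr_wx hw).2 inf_le_right
          (C.ITr_nc (C.E_le.trans hS.1.2) (C.ITr_wx hw).1)
      exact ⟨_, y, y.trans le_normalizer, d ▸ bot_lt_iff_ne_bot.2 a, d ▸ bot_lt_iff_ne_bot.2 a', k T h, k T' h'⟩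
    · have y : XX P x z ≤ 𝐍(T ⊓ T') := H70.le_normalizer_inf h.1.2 h'.1.2
      have k : ∀ S, Mx (XX P x z) S → S ⊓ 𝐍(T ⊓ T') ≤ H44.coreOf 3 𝐍(T ⊓ T') := fun S hS =>
        have n := C.E_le.trans (H70.le_normalizer_inf hS.1.2 (y.trans le_normalizer))
        C.ny y (fun R hR h1 h2 => C.syT hR h1 (h.1.1.to_le inf_le_left) d h2) (hS.1.1.to_le inf_le_left) inf_le_right
          (n (mem_sup_left (mem_zpowers z))) (C.cz (hS.1.1.to_le inf_le_left) n)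
      exact ⟨_, y, y.trans le_normalizer, H5.lt_inf_normalizer h.1.1 l, H5.lt_inf_normalizer h'.1.1 l', k T h, k T' h'⟩
  obtain ⟨k, hk, S, hS, c, c'⟩ := C.ITr_d hY ⟨h.1.1.to_le inf_le_left, H70.le_normalizer_inf h.1.2 nY⟩
    ⟨h'.1.1.to_le inf_le_left, H70.le_normalizer_inf h'.1.2 nY⟩ b b'
  have lt : ∀ A B : Subgroup G, T ⊓ T' < A → Nat.card A ≤ Nat.card B → Nat.card G - Nat.card B < n := fun A B p q => by
    have := card_le_card_group B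
    have := lt_of_le_of_ne (card_le_of_le p.le) fun e => p.ne (eq_of_le_of_card_ge p.le e.ge)
    omega
  obtain ⟨k1, hk1, e1⟩ := ih _ (lt _ _ a ((card_cj k _).ge.trans
    (card_le_of_le (le_inf (cj_mono k inf_le_left) c)))) (h.cj (centralizer_le_normalizer _ hk)) hS rfl
  obtain ⟨k2, hk2, e2⟩ := ih _ (lt _ _ a' (card_le_of_le (le_inf c' inf_le_left))) hS h' rfl
  exact ⟨k2 * (k1 * k), mul_mem hk2 (mul_mem hk1 hk), by rw [H68.cj_mul, H68.cj_mul, e1, e2]⟩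

end Cx

theorem Cx.false (C : Cx P x z u v) {T : Subgroup G} (hT : IsPGroup 2 T) (T1 : T ≠ ⊥)
    (hE : S2 z x ≤ 𝐍(T)) : False := by
  have h0 := C.ITr_b hT T1 hE
  obtain ⟨S, -, hS⟩ := Finite.exists_le_maximal (p := fun T : Subgroup G => IsPGroup 2 T ∧ XX P x z ≤ 𝐍(T))
    (a := ⊥) ⟨IsPGroup.of_bot, le_normalizer_of_normal⟩
  obtain ⟨k, hk, e⟩ := C.ITr_e h0 hS (Mx.cj hS C.uX)
  have kz := mc_of_mem hk (C.E_le (mem_sup_left (mem_zpowers z)))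
  have kx := mc_of_mem hk (C.E_le (mem_sup_right (mem_zpowers x)))
  obtain ⟨m, hm⟩ : ∃ m, m = k⁻¹ * u := ⟨_, rfl⟩
  have mS : m ∈ 𝐍(S) := mem_normalizer_iff_cj.2 (by rw [hm, H68.cj_mul, ← e, cj_inv_cj])
  have mX : m ∈ 𝐍(XX P x z) := hm ▸ mul_mem (inv_mem (centralizer_le_normalizer _ hk)) C.uX
  have mz : m ∈ centralizer {z} := hm ▸ mul_mem (inv_mem kz) (mc.2 C.zu.symm)
  have mx : m * x * m⁻¹ = z⁻¹ * x := by
    have : u * x * u⁻¹ = z⁻¹ * x := by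
      calc _ = u * (x * u * x⁻¹)⁻¹ * x := by group
        _ = (u * z * u⁻¹)⁻¹ * x := by rw [C.xu]; group
        _ = _ := by rw [← C.zu, mul_inv_cancel_right]
    rw [hm, H71KM.cj_mul, this, ← conj_mul, cj_inv (conj_of_mc (inv_mem kz)), conj_of_mc (inv_mem kx)]
  have pw : ∀ r : ℕ, m ^ r * x * (m ^ r)⁻¹ = (z ^ r)⁻¹ * x := fun r => by
    induction r with
    | zero => simp
    | succ r ih =>
      rw [pow_succ, H71KM.cj_mul, mx, ← conj_mul, ih, cj_inv (conj_of_mc (pow_mem mz r)), pow_succ, mul_inv_rev,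
        mul_assoc]
  obtain ⟨a, r, hr, ho⟩ := Nat.exists_eq_pow_mul_and_not_dvd (orderOf_pos m).ne' 3 (by decide)
  have p3 : IsPGroup 3 (zpowers (m ^ r)) :=
    isPGroup_zpowers (k := a) (by rw [← pow_mul, mul_comm, ← ho, pow_orderOf_eq_one])
  have := C.syT (IsPGroup.to_sup_of_normal_left' (P.isPGroup'.to_le inf_le_left) p3 (zpowers_le.2 (pow_mem mX r)))
    le_sup_left hS.1.1 (fun e => h0 (e ▸ hS)) (sup_le hS.1.2 (zpowers_le.2 (pow_mem mS r)))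
    (mem_sup_right (mem_zpowers _))
  have e1 := pw r
  rw [conj_of_mc (mc.2 (mem_cent_S2.1 this.2).2)] at e1
  exact hr (orderOf_eq_prime C.z3 C.z1 ▸ orderOf_dvd_of_pow_eq_one (by simpa using e1))

end H16M
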