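import Cfsg.Agent.Lib.M75.IBas
import Cfsg.Agent.Lib.M75.KB
import Cfsg.Agent.Lib.BG4.Rank1
import Cfsg.Agent.Lib.Transfer.NormalComplement

/-!
The abelian group `X = C_P(E)` is a Sylow subgroup of many local subgroups.
-/

set_option autoImplicit false
set_option linter.unusedSectionVars false
set_option linter.unusedVariables false

namespace H16M

open Cfsg Subgroup H71KM H23M
open scoped commutatorElement

variable {G : Type*} [Group G] [Finite G] {P : Sylow 3 G} {x z u v : G}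

theorem IXs.sq {R : Subgroup G} (hR : IsPGroup 3 R) {f : G} (hf : f ∈ R) : ∃ g ∈ zpowers f, f = g * g := by
  obtain ⟨k, hk⟩ := H68.isPGroup_iff_forall.1 hR f hf
  obtain ⟨m, hm⟩ : Odd (3 ^ k) := Odd.pow (by decide)
  exact ⟨f ^ (m + 1), pow_mem (mem_zpowers f) _, by
    rw [← pow_add, show m + 1 + (m + 1) = 3 ^ k + 1 by omega, pow_succ, hk, one_mul]⟩

theorem IXs.sign (F : Fr x z u v) {R : Subgroup G} (hR : IsPGroup 3 R) {f : G} (hf : f ∈ R) (hn : f ∈ 𝐍(S2 z x)) :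
    f * z = z * f ∧ f * x * f⁻¹ * x⁻¹ ∈ zpowers z := by
  obtain ⟨g, hg, rfl⟩ := IXs.sq hR hf
  replace hg := zpowers_le.2 hn hg
  have n : ∀ w ∈ zpowers z, g * w * g⁻¹ ∈ zpowers z := by
    rintro _ ⟨i, rfl⟩
    rw [← conj_zpow]
    rcases F.nz hg with e | e <;> rw [e]
    exacts [zpow_mem (mem_zpowers z) i, zpow_mem (inv_mem (mem_zpowers z)) i]
  constructor
  · rw [← mul_inv_eq_iff_eq_mul, cj_mul]
    rcases F.nz hg with e | e
    · rw [e, e]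
    · rw [e, cj_inv e, inv_inv]
  · rcases F.nx hg with e | e
    · simpa [mul_assoc] using mul_mem (n _ e) e
    · simpa [mul_assoc] using mul_mem (n _ e) (cj_mem (n_zp z (mc.2 F.zx.symm)) (inv_mem e))

namespace Cx

variable (C : Cx P x z u v)
include C

theorem E_le : S2 z x ≤ XX P x z :=
  le_inf (sup_le (zpowers_le.2 C.zP) (zpowers_le.2 C.xP)) C.ea_E.le_cent

theorem IXs_p : IsPGroup 3 (XX P x z) := P.isPGroup'.to_le inf_le_left

theorem comm : XX P x z ≤ 𝐂(XX P x z) := by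
  have c := H48.isCyclic_of_forall_pow_eq_one_mem (P := XX P x z ⊓ centralizer {u}) (by decide)
    (C.IXs_p.to_le inf_le_left) (inferInstance : IsCyclic (zpowers z)) fun y hy y3 =>
      C.max' y3 (mem_cent_S2.1 hy.1.2).1 (mem_cent_S2.1 hy.1.2).2 (mc.1 hy.2)
  have cm := comm_iff.1 (inferInstance : IsMulCommutative ↥(XX P x z ⊓ centralizer {u}))
  have xX : zpowers x ≤ XX P x z := le_sup_right.trans C.E_le
  have dec : ∀ g ∈ XX P x z, ∃ y ∈ zpowers x, ∃ a ∈ XX P x z ⊓ centralizer {u}, g = y * a := fun g hg => by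
    suffices h : ∃ y ∈ zpowers x, y * g ∈ centralizer {u} by
      obtain ⟨y, hy, h⟩ := h
      exact ⟨y⁻¹, inv_mem hy, y * g, ⟨mul_mem (xX hy) hg, h⟩, by group⟩
    rcases (zp3 C.z3).1 (C.Pu g hg.1) with e | e | e <;> rw [mul_inv_eq_iff_eq_mul] at e
    · exact ⟨1, one_mem _, mc_of_conj (by simpa using e)⟩
    · exact ⟨x⁻¹, inv_mem (mem_zpowers x), mc_of_conj (by rw [cj_mul, e, C.zu, ← C.xu]; group)⟩
    · exact ⟨x, mem_zpowers x, mc_of_conj (by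
        rw [cj_mul, e, ← conj_mul, C.xu, cj_inv (conj_of_mc (mc.2 C.zx.symm)), ← C.zu, inv_mul_cancel_left])⟩
  have cx : ∀ y ∈ zpowers x, ∀ g ∈ XX P x z, Commute y g := by
    rintro _ ⟨i, rfl⟩ g hg
    exact Commute.zpow_left (mem_cent_S2.1 hg.2).2.symm i
  intro g hg h hh
  obtain ⟨y, hy, a, ha, rfl⟩ := dec g hg
  obtain ⟨y', hy', b, hb, rfl⟩ := dec h hh
  exact ((cx y' hy' _ hg).mul_left ((cx y hy b hb.1).symm.mul_right (cm ha b hb)) :)

theorem om {y : G} (hy : y ∈ XX P x z) (y3 : y ^ 3 = 1) : y ∈ S2 z x :=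
  C.max y3 (mem_cent_S2.1 hy.2).1 (mem_cent_S2.1 hy.2).2

theorem nE {g : G} (hg : g ∈ 𝐍(XX P x z)) : g ∈ 𝐍(S2 z x) :=
  mem_norm_S2 (C.om (cj_mem hg (C.E_le (mem_sup_left (mem_zpowers z)))) (by rw [conj_pow, C.z3]; simp))
    (C.om (cj_mem hg (C.E_le (mem_sup_right (mem_zpowers x)))) (by rw [conj_pow, C.x3]; simp))

theorem uX : u ∈ 𝐍(XX P x z) :=
  n_inf (le_normalizer C.uP) (H68.normalizer_le_normalizer_centralizer _ C.uE)

theorem IXs_no {U T : Subgroup G} (hU : EA 3 U) (h9 : Nat.card U = 9) {y : G} (hy : y ∈ U) (y1 : y ≠ 1) (hb : Big y)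
    (hT : IsPGroup 2 T) (hUT : U ≤ 𝐍(T)) : T ⊓ centralizer {y} = ⊥ := by
  by_contra n
  obtain ⟨B, t, g⟩ := C.hyp.step0y hU h9 hy y1 hb (hT.to_le inf_le_left) n
    (H70.le_normalizer_inf hUT (fun a ha => le_normalizer (mc_of_mem (hU.le_cent ha) hy))) inf_le_right
  exact C.ng B t g

theorem noU {U T : Subgroup G} (hU : EA 3 U) (h9 : Nat.card U = 9) (hb : ∀ y ∈ U, Big y) (hT : IsPGroup 2 T)
    (hUT : U ≤ 𝐍(T)) : T = ⊥ := by
  by_contra n
  obtain ⟨y, hy, y1, h⟩ := H2.exists_inf_centralizer_ne_bot hU.1 (not_cyclic9 hU h9.ge) hUT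
    (cop (by decide) hU.isPGroup hT) n
  exact h (C.IXs_no hU h9 hy y1 (hb y hy) hT hUT)

theorem cz {T : Subgroup G} (hT : IsPGroup 2 T) (hE : S2 z x ≤ 𝐍(T)) : T ⊓ centralizer {z} = ⊥ :=
  C.IXs_no C.ea_E C.card_E (mem_sup_left (mem_zpowers z)) C.z1
    (C.big_W (mem_sup_left (mem_sup_left (mem_zpowers z)))) hT hE

theorem syE {R : Subgroup G} (hR : IsPGroup 3 R) (hX : XX P x z ≤ R) (hE : R ≤ 𝐂(S2 z x)) :
    R ≤ XX P x z := by
  obtain ⟨n, hn, h⟩ := H4.exists_conj_le_of_not_dvd_relIndex P.isPGroup' C.fn hR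
    (hE.trans (centralizer_le_normalizer _))
  refine (eq_of_le_of_card_ge hX ?_).ge
  rw [← H68.card_cj n R]
  exact card_le_of_le (H68.cj_le_iff'.2 fun t ht =>
    ⟨h t ht, cj_mem (H68.normalizer_le_normalizer_centralizer _ hn) (hE ht)⟩)

theorem IXs_key {R : Subgroup G} (hR : IsPGroup 3 R) (hX : XX P x z ≤ R) (n : ¬ R ≤ XX P x z) :
    ∃ f ∈ R, f ∈ 𝐍(S2 z x) ∧ f * z = z * f ∧ f * x ≠ x * f := by
  obtain ⟨f, hf, fX, fn⟩ := H68.exists_mem_normalizer_of_lt hR (lt_of_le_not_ge hX n)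
  have fz := (IXs.sign C.toFr hR hf (C.nE fn)).1
  exact ⟨f, hf, C.nE fn, fz, fun e => fX (C.syE (R := R ⊓ 𝐂(S2 z x)) (hR.to_le inf_le_left)
    (le_inf hX inf_le_right) inf_le_right ⟨hf, mem_cent_S2.2 ⟨fz, e⟩⟩)⟩

theorem syC {R : Subgroup G} (hR : IsPGroup 3 R) (hX : XX P x z ≤ R) {e : G} (he : e ∈ S2 z x)
    (ne : e ∉ zpowers z) (hc : R ≤ centralizer {e}) : R ≤ XX P x z := by
  by_contra n
  obtain ⟨f, hf, -, fz, fx⟩ := C.IXs_key hR hX n
  obtain ⟨i, j, rfl⟩ := (mem_S2 C.zx).1 he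
  have c : Commute f (x ^ j) := by
    simpa using (Commute.zpow_right fz i).inv_right.mul_right (mc.1 (hc hf))
  rcases (zp3 C.x3).1 (zpow_mem (mem_zpowers x) j) with e | e | e <;> rw [e] at c ne
  · exact ne (by simp)
  · exact fx c
  · exact fx (Commute.inv_right_iff.1 c)

theorem syT {R T : Subgroup G} (hR : IsPGroup 3 R) (hX : XX P x z ≤ R) (hT : IsPGroup 2 T) (T1 : T ≠ ⊥)
    (hn : R ≤ 𝐍(T)) : R ≤ XX P x z := by
  by_contra m
  obtain ⟨f, hf, fn, -, fx⟩ := C.IXs_key hR hX m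
  obtain ⟨n, nE, h⟩ := H4.exists_conj_le_of_not_dvd_relIndex P.isPGroup' C.fn (T := R ⊓ 𝐍(S2 z x))
    (hR.to_le inf_le_left) inf_le_right
  have nX : n ∈ 𝐍(XX P x z) := H68.mem_normalizer_of_cj_le (H68.cj_le_iff'.2 fun t ht =>
    ⟨h t ⟨hX ht, centralizer_le_normalizer _ ht.2⟩, cj_mem (H68.normalizer_le_normalizer_centralizer _ nE) ht.2⟩)
  have XR : XX P x z ≤ H68.cj n R := (H68.cj_eq_of_mem_normalizer nX).ge.trans (H68.cj_mono n hX)
  have fP := h f ⟨hf, fn⟩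
  have fR : n * f * n⁻¹ ∈ H68.cj n R := H68.conj_mem_cj.2 hf
  have ux : u⁻¹ * x * u⁻¹⁻¹ = z * x := by
    calc _ = u⁻¹ * (x * u * x⁻¹) * x := by group
      _ = _ := by rw [C.xu]; group
  have uR : u ∈ H68.cj n R := by
    rcases (zp3 C.z3).1 (IXs.sign C.toFr P.isPGroup' fP (mul_mem (mul_mem nE fn) (inv_mem nE))).2 with e | e | e <;>
      rw [mul_inv_eq_iff_eq_mul] at e
    · refine absurd (mem_cent_S2.1 (?_ : f ∈ XX P x z).2).2 fx
      simpa [mul_assoc] using H68.conj_mem_of_mem_normalizer' nX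
        (show n * f * n⁻¹ ∈ XX P x z from ⟨fP, mem_cent_S2.2 ⟨C.Pz _ fP, mc.1 (mc_of_conj (by simpa using e))⟩⟩)
    · have p := mul_mem C.uP fP
      exact (mul_mem_cancel_right fR).1 (XR ⟨p, mem_cent_S2.2 ⟨C.Pz _ p, mc.1 (mc_of_conj (by
        rw [cj_mul, e, ← ux]; group))⟩⟩)
    · have p := mul_mem (inv_mem C.uP) fP
      exact inv_mem_iff.1 ((mul_mem_cancel_right fR).1 (XR ⟨p, mem_cent_S2.2 ⟨C.Pz _ p, mc.1 (mc_of_conj (by
        rw [cj_mul, e, ← conj_mul, ux, cj_inv (conj_of_mc (inv_mem (mc.2 C.zu.symm))), inv_mul_cancel_left]))⟩⟩))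
  refine T1 (H68.cj_eq_bot_iff.1 (C.noU C.ea_U C.card_U (fun y hy => C.big_W (mem_sup_left hy))
    (H68.isPGroup_cj n hT) ?_))
  rw [← H68.cj_normalizer]
  exact (sup_le (zpowers_le.2 (XR (C.E_le (mem_sup_left (mem_zpowers z))))) (zpowers_le.2 uR)).trans (H68.cj_mono n hn)

end Cx

end H16M
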